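import Cfsg.Agent.Lib.Alternating.Aut

/-!
# A 2-automorphism of `A₇` normalising a Sylow 2-subgroup acts on it as an inner one (helper23)
-/

set_option autoImplicit false
set_option linter.style.haveILetI false

namespace Cfsg.Agent.Lib.G2Fong23

open Equiv Equiv.Perm Subgroup
open scoped Pointwise

local notation "S7" => Equiv.Perm (Fin 7)
local notation "A7" => alternatingGroup (Fin 7)

theorem sylow_central_odd (U : Sylow 2 S7) :
    ∃ τ ∈ (U : Subgroup S7), sign τ = -1 ∧ ∀ u ∈ (U : Subgroup S7), u * τ = τ * u := by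
  haveI : Fact (Nat.Prime 2) := ⟨Nat.prime_two⟩
  set t : S7 := swap 5 6 with ht
  set C := centralizer ({t} : Set S7) with hC
  obtain ⟨V⟩ : Nonempty (Sylow 2 C) := Sylow.nonempty
  have ht2 : orderOf t = 2 := orderOf_eq_prime (by rw [pow_two, ht, swap_mul_self]) (by rw [ht]; decide)
  set tc : C := ⟨t, mem_centralizer_singleton_iff.2 rfl⟩ with htc
  have hcen : ∀ c : C, c * tc = tc * c := fun c =>
    Subtype.ext (mem_centralizer_singleton_iff.1 c.2)
  haveI : (zpowers tc).Normal := ⟨fun y hy c => by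
    obtain ⟨i, rfl⟩ := mem_zpowers_iff.1 hy
    rw [((show Commute c tc from hcen c).zpow_right i).eq, mul_inv_cancel_right]
    exact zpow_mem (mem_zpowers tc) i⟩
  have hp : IsPGroup 2 ↥(zpowers tc) := IsPGroup.of_card (n := 1) (by
    rw [Nat.card_zpowers, pow_one, ← Subgroup.orderOf_coe, ht2])
  have htV : tc ∈ (V : Subgroup C) := hp.le_sylow_of_normal V (mem_zpowers tc)
  -- the centraliser contains a Sylow subgroup of `S₇`
  have hcard : 2 ^ 4 ∣ Nat.card C := by
    let e : Fin 5 ⊕ Fin 2 ≃ Fin 7 := finSumFinEquiv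
    let f : Perm (Fin 5) × Perm (Fin 2) →* S7 :=
      (e.permCongrHom.toMonoidHom).comp (Perm.sumCongrHom _ _)
    have hf : Function.Injective f := e.permCongrHom.injective.comp Perm.sumCongrHom_injective
    have hft : f (1, swap 0 1) = t := by rw [ht]; decide +kernel
    have hle : f.range ≤ C := by
      rintro _ ⟨⟨a, b⟩, rfl⟩
      rw [hC, mem_centralizer_singleton_iff, ← hft, ← map_mul, ← map_mul]
      congr 1
      refine Prod.ext ?_ ?_
      · show a * 1 = 1 * a
        rw [one_mul, mul_one]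
      · show b * swap 0 1 = swap 0 1 * b
        revert b
        decide
    refine dvd_trans ?_ (card_dvd_of_le hle)
    rw [← Nat.card_congr (MonoidHom.ofInjective hf).toEquiv, Nat.card_prod, Nat.card_perm, Nat.card_perm,
      Nat.card_eq_fintype_card, Nat.card_eq_fintype_card, Fintype.card_fin, Fintype.card_fin]
    decide
  have hVc : Nat.card U ≤ Nat.card ((V : Subgroup C).map C.subtype) := by
    rw [Subgroup.card_map_of_injective C.subtype_injective]
    refine (Nat.le_of_dvd Nat.card_pos (Sylow.pow_dvd_card_of_pow_dvd_card V hcard)).trans' ?_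
    rw [U.card_eq_multiplicity, Nat.card_perm, Nat.card_eq_fintype_card, Fintype.card_fin]
    decide +kernel
  obtain ⟨W, hW⟩ := (V.2.map C.subtype).exists_le_sylow
  obtain ⟨g, hg⟩ := MulAction.exists_smul_eq S7 W U
  have hWeq : (V : Subgroup C).map C.subtype = (W : Subgroup S7) := eq_of_le_of_card_ge hW (by
    rwa [show Nat.card (W : Subgroup S7) = Nat.card (U : Subgroup S7) by
      rw [W.card_eq_multiplicity, U.card_eq_multiplicity]])
  have hmem : ∀ u, u ∈ (U : Subgroup S7) ↔ g⁻¹ * u * g ∈ (W : Subgroup S7) := fun u => by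
    rw [← hg]
    show u ∈ MulAut.conj g • (W : Subgroup S7) ↔ _
    rw [Subgroup.mem_pointwise_smul_iff_inv_smul_mem]
    simp
  refine ⟨g * t * g⁻¹, ?_, ?_, fun u hu => ?_⟩
  · rw [hmem, show g⁻¹ * (g * t * g⁻¹) * g = t by group, ← hWeq]
    exact ⟨tc, htV, rfl⟩
  · rw [map_mul, map_mul, map_inv, ht, sign_swap (by decide)]
    rcases Int.units_eq_one_or (sign g) with e | e <;> rw [e] <;> decide
  · rw [hmem, ← hWeq] at hu
    obtain ⟨v, -, hv⟩ := Subgroup.mem_map.1 hu
    have h1 : g⁻¹ * u * g * t = t * (g⁻¹ * u * g) := by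
      rw [← hv]; exact mem_centralizer_singleton_iff.1 v.2
    calc u * (g * t * g⁻¹) = g * (g⁻¹ * u * g * t) * g⁻¹ := by group
      _ = g * (t * (g⁻¹ * u * g)) * g⁻¹ := by rw [h1]
      _ = g * t * g⁻¹ * u := by group

/-- A 2-automorphism of `A₇` normalising a Sylow 2-subgroup acts on it as an inner automorphism. -/
theorem alt_seven_inner (T : Sylow 2 A7) (α : MulAut A7) {m : ℕ} (hα : α ^ 2 ^ m = 1)
    (hT : ∀ x ∈ (T : Subgroup A7), α x ∈ (T : Subgroup A7)) :
    ∃ d ∈ (T : Subgroup A7), ∀ x ∈ (T : Subgroup A7), α x = d * x * d⁻¹ := by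
  haveI : Fact (Nat.Prime 2) := ⟨Nat.prime_two⟩
  obtain ⟨σ, hσ⟩ := Alternating.exists_conj_eq (α := Fin 7) (by simp) (by simp) α
  have hα' : α = MulAut.conjNormal σ := MulEquiv.ext fun x => Subtype.ext (by
    rw [hσ, MulAut.conjNormal_apply])
  have hσ2 : σ ^ 2 ^ m = 1 := by
    apply Alternating.conjNormal_injective (α := Fin 7) (by simp)
    rw [map_pow, ← hα', hα, map_one]
  set T' := (T : Subgroup A7).map (alternatingGroup (Fin 7)).subtype with hT'
  have hnorm : σ ∈ normalizer (T' : Set S7) := by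
    refine Subgroup.mem_normalizer_fintype fun y hy => ?_
    obtain ⟨x, hx, rfl⟩ := hy
    exact ⟨α x, hT x hx, hσ x⟩
  have hp : IsPGroup 2 ↥(zpowers σ) := IsPGroup.of_card_dvd_pow (n := m) (by
    rw [Nat.card_zpowers]; exact orderOf_dvd_of_pow_eq_one hσ2)
  obtain ⟨U, hU⟩ := ((T.2.map (alternatingGroup (Fin 7)).subtype).to_sup_of_normal_left' hp
    (zpowers_le.2 hnorm)).exists_le_sylow
  have hTU : ∀ x : A7, (x : S7) ∈ (U : Subgroup S7) → x ∈ (T : Subgroup A7) := by
    intro x hx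
    have e : (U : Subgroup S7).comap (alternatingGroup (Fin 7)).subtype = (T : Subgroup A7) :=
      T.3 (U.2.comap_of_injective _ Subtype.val_injective) fun y hy => hU (mem_sup_left ⟨y, hy, rfl⟩)
    exact e ▸ hx
  obtain ⟨τ, hτ, hτs, hτc⟩ := sylow_central_odd U
  have hσU : σ ∈ (U : Subgroup S7) := hU (mem_sup_right (mem_zpowers σ))
  have hmem : ∀ x ∈ (T : Subgroup A7), (x : S7) ∈ (U : Subgroup S7) := fun x hx =>
    hU (mem_sup_left ⟨x, hx, rfl⟩)
  rcases Int.units_eq_one_or (sign σ) with e | e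
  · refine ⟨⟨σ, mem_alternatingGroup.2 e⟩, hTU _ hσU, fun x _ => Subtype.ext ?_⟩
    rw [hσ]; rfl
  · refine ⟨⟨σ * τ, mem_alternatingGroup.2 (by rw [map_mul, e, hτs]; decide)⟩,
      hTU _ (mul_mem hσU hτ), fun x hx => Subtype.ext ?_⟩
    show (α x : S7) = σ * τ * (x : S7) * (σ * τ)⁻¹
    rw [hσ, mul_assoc σ τ, ← hτc _ (hmem x hx)]
    group

end Cfsg.Agent.Lib.G2Fong23
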