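import Cfsg.Agent.Lib.Fusion.Alperin
import Cfsg.Agent.Lib.ProductFusion.Direct
import Mathlib.Algebra.Group.Commute.Basic

/-!
# Fusion invariance tested on odd order normalising elements (helper23)
-/

set_option autoImplicit false
set_option linter.style.haveILetI false

namespace Cfsg.Agent.Lib.G2Fong23

open Subgroup Fusion.Alperin

variable {G : Type*} [Group G] [Finite G]

/-- A subgroup with a Sylow 2-subgroup and all elements of odd order is everything. -/
theorem eq_top_of_sylow_of_odd (K : Subgroup G) (P : Sylow 2 G) (hP : (P : Subgroup G) ≤ K)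
    (hodd : ∀ n : G, Odd (orderOf n) → n ∈ K) : K = ⊤ := by
  rw [← Subgroup.index_eq_one]
  by_contra hne
  obtain ⟨p, hp, hdvd⟩ := Nat.exists_prime_and_dvd hne
  haveI := Fact.mk hp
  rcases eq_or_ne p 2 with rfl | hp2
  · exact P.not_dvd_index (hdvd.trans (index_dvd_of_le hP))
  · obtain ⟨Q⟩ : Nonempty (Sylow p G) := Sylow.nonempty
    refine Q.not_dvd_index (hdvd.trans (index_dvd_of_le fun x hx => hodd x ?_))
    obtain ⟨k, hk⟩ := IsPGroup.iff_orderOf.1 Q.2 ⟨x, hx⟩
    rw [Subgroup.orderOf_mk] at hk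
    rw [hk]
    exact (hp.odd_of_ne_two hp2).pow

/-- A Sylow subgroup of the normaliser of a fully normalised subgroup. -/
theorem exists_sylow_normalizer (P : Sylow 2 G) {R : Subgroup G}
    (hfn : IsFullyNormalized 2 (P : Subgroup G) R) :
    ∃ Q : Sylow 2 ↥(normalizer (R : Set G)),
      (Q : Subgroup ↥(normalizer (R : Set G))) = (P : Subgroup G).subgroupOf (normalizer (R : Set G)) := by
  obtain ⟨Q, hQ⟩ := (P.2.comap_of_injective (normalizer (R : Set G)).subtype
    Subtype.val_injective).exists_le_sylow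
  refine ⟨Q, le_antisymm ?_ hQ⟩
  have h1 := hfn ((Q : Subgroup ↥(normalizer (R : Set G))).map (normalizer (R : Set G)).subtype)
    (Q.2.map _) (map_subtype_le _) (fun x hx => ⟨⟨x, hx.2⟩, hQ (mem_comap.2 hx.1), rfl⟩)
  intro x hx
  have h2 : (x : G) ∈ (P : Subgroup G) ⊓ normalizer (R : Set G) := h1 ▸ ⟨x, hx, rfl⟩
  exact h2.1

/-- The elements of `N(R)` preserving `M` on `R`. -/
def keep (R M : Subgroup G) : Subgroup ↥(normalizer (R : Set G)) where
  carrier := {n | ∀ x ∈ R, (x ∈ M ↔ (n : G) * x * (n : G)⁻¹ ∈ M)}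
  one_mem' := fun x _ => by simp
  mul_mem' := fun {a b} ha hb x hx => by
    rw [hb x hx, ha _ ((mem_normalizer_iff.1 b.2 x).1 hx), Subgroup.coe_mul]
    rw [show (a : G) * ((b : G) * x * (b : G)⁻¹) * (a : G)⁻¹ = (a : G) * b * x * ((a : G) * b)⁻¹ by group]
  inv_mem' := fun {a} ha x hx => by
    have h1 : (a : G)⁻¹ * x * (a : G) ∈ R := by
      have := (mem_normalizer_iff.1 (inv_mem a.2) x).1 hx
      simpa using this
    have h2 := ha _ h1
    rw [show (a : G) * ((a : G)⁻¹ * x * (a : G)) * (a : G)⁻¹ = x by group] at h2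
    simpa using h2.symm

/-- A subgroup of `P` is fusion invariant if elements of odd order normalising fusion bases keep it. -/
theorem invariant_of_odd (P : Sylow 2 G) (M : Subgroup G)
    (hPM : ∀ s ∈ (P : Subgroup G), ∀ x ∈ M, s * x * s⁻¹ ∈ M)
    (h : ∀ R : Subgroup G, IsFusionBase 2 (P : Subgroup G) R → ∀ n ∈ normalizer (R : Set G),
      Odd (orderOf n) → ∀ x ∈ R, x ∈ M → n * x * n⁻¹ ∈ M)
    (x g : G) (hxM : x ∈ M) (hx : x ∈ (P : Subgroup G)) (hgx : g * x * g⁻¹ ∈ (P : Subgroup G)) :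
    g * x * g⁻¹ ∈ M := by
  haveI : Fact (Nat.Prime 2) := ⟨Nat.prime_two⟩
  refine fusion_invariant P (fun a => a ∈ M) (fun R hR n hn y hy hyM => ?_) x g hx hgx hxM
  obtain ⟨Q, hQ⟩ := exists_sylow_normalizer P hR.2.1
  have htop : keep R M = ⊤ := by
    refine eq_top_of_sylow_of_odd _ Q (fun s hs a ha => ?_) (fun m hm a ha => ?_)
    · rw [hQ, mem_subgroupOf] at hs
      refine ⟨hPM _ hs a, fun h' => ?_⟩
      have := hPM _ (inv_mem hs) _ h'
      simpa [mul_assoc] using this
    · rw [← Subgroup.orderOf_coe] at hm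
      refine ⟨h R hR _ m.2 hm a ha, fun h' => ?_⟩
      have := h R hR _ (inv_mem m.2) (by rwa [orderOf_inv]) _ ((mem_normalizer_iff.1 m.2 a).1 ha) h'
      simpa [mul_assoc] using this
  exact ((htop ▸ mem_top (⟨n, hn⟩ : normalizer (R : Set G)) : _ ∈ keep R M) y hy).1 hyM

omit [Finite G] in
/-- Elements outside `W` being involutions, `W` has index at most two. -/
theorem mul_mem_of_outside {R W : Subgroup G} (hWR : W ≤ R) (hout : ∀ x ∈ R, x ∉ W → x * x = 1)
    {w : G} (hw : w ∈ W) (hw2 : w * w ≠ 1) {x y : G} (hx : x ∈ R) (hxW : x ∉ W) (hy : y ∈ R) (hyW : y ∉ W) :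
    x * y ∈ W := by
  by_contra hxy
  have inv : ∀ a ∈ R, a ∉ W → a * w * a = w⁻¹ := fun a ha haW => by
    have hawW : a * w ∉ W := fun h => haW (by simpa using mul_mem h (inv_mem hw))
    have h2 := hout _ (mul_mem ha (hWR hw)) hawW
    rw [eq_inv_iff_mul_eq_one]
    simpa [mul_assoc] using h2
  have hx2 := hout x hx hxW
  have hy2 := hout y hy hyW
  have hxy2 := hout _ (mul_mem hx hy) hxy
  have hcomm : x * y = y * x := by
    calc x * y = x * y * ((x * x) * 1) := by rw [hx2]; group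
      _ = x * y * ((x * (y * y)) * x) := by rw [hy2]; group
      _ = (x * y * (x * y)) * (y * x) := by group
      _ = y * x := by rw [hxy2, one_mul]
  have h4 : w⁻¹ = w := by
    calc w⁻¹ = x * y * w * (x * y) := (inv _ (mul_mem hx hy) hxy).symm
      _ = x * y * w * (y * x) := by rw [hcomm]
      _ = x * (y * w * y) * x := by group
      _ = x * w⁻¹ * x := by rw [inv y hy hyW]
      _ = (x * w⁻¹ * x) := rfl
      _ = (x⁻¹ * w * x⁻¹)⁻¹ := by group
      _ = (x * w * x)⁻¹ := by rw [inv_eq_of_mul_eq_one_right hx2]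
      _ = w := by rw [inv x hx hxW, inv_inv]
  exact hw2 (by nth_rewrite 1 [← h4]; exact inv_mul_cancel w)

/-- `g` acts trivially on `T` modulo `z`. -/
def Near (z : G) (T : Subgroup G) (g : G) : Prop := ∀ t ∈ T, g * t * g⁻¹ = t ∨ g * t * g⁻¹ = t * z

/-- If the Sylow subgroup fixes `x`, so does every 2-element acting trivially modulo `z`. -/
theorem fix_of_near {z : G} (hzc : ∀ g : G, g * z = z * g) (hz2 : z * z = 1) {T : Subgroup G}
    (P : Sylow 2 G) (hT : IsFullyNormalized 2 (P : Subgroup G) T) {x : G} (hx : x ∈ T)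
    (hfix : ∀ g ∈ (P : Subgroup G), g ∈ normalizer (T : Set G) → Near z T g → g * x * g⁻¹ = x)
    {u : G} (hu : u ∈ normalizer (T : Set G)) (hun : Near z T u) {j : ℕ} (hu2 : u ^ 2 ^ j = 1) :
    u * x * u⁻¹ = x := by
  haveI : Fact (Nat.Prime 2) := ⟨Nat.prime_two⟩
  have hz : ∀ g t : G, g * (t * z) * g⁻¹ = g * t * g⁻¹ * z := fun g t => by
    calc g * (t * z) * g⁻¹ = g * t * (z * g⁻¹) := by group
      _ = g * t * g⁻¹ * z := by rw [← hzc]; group
  set N := normalizer (T : Set G) with hN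
  have hTn : ∀ g ∈ N, ∀ t ∈ T, g * t * g⁻¹ ∈ T := fun g hg t ht => (mem_normalizer_iff.1 hg t).1 ht
  let V : Subgroup ↥N :=
    { carrier := {g | Near z T (g : G)}
      one_mem' := fun t _ => Or.inl (by simp)
      mul_mem' := fun {g k} hg hk t ht => by
        rw [show ((g * k : ↥N) : G) * t * ((g * k : ↥N) : G)⁻¹ =
          (g : G) * ((k : G) * t * (k : G)⁻¹) * (g : G)⁻¹ by push_cast; group]
        rcases hk t ht with e | e <;> rw [e]
        · exact hg t ht
        · rw [hz]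
          rcases hg t ht with e' | e' <;> rw [e']
          · exact Or.inr rfl
          · exact Or.inl (by rw [mul_assoc, hz2, mul_one])
      inv_mem' := fun {g} hg t ht => by
        have h1 := hTn _ (inv_mem g.2) t ht
        rcases hg _ h1 with e | e
        · left
          calc ((g⁻¹ : ↥N) : G) * t * ((g⁻¹ : ↥N) : G)⁻¹ = (g : G) * ((g : G)⁻¹ * t * (g : G)⁻¹⁻¹) * (g : G)⁻¹ := by
                rw [e]; simp
            _ = t := by group
        · right
          have e' : t = (g : G)⁻¹ * t * (g : G) * z := by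
            calc t = (g : G) * ((g : G)⁻¹ * t * (g : G)⁻¹⁻¹) * (g : G)⁻¹ := by group
              _ = _ := by rw [e]; group
          nth_rewrite 2 [e']
          rw [mul_assoc _ z z, hz2]
          simp }
  haveI hVn : V.Normal := ⟨fun g hg m t ht => by
    rw [show ((m * g * m⁻¹ : ↥N) : G) * t * ((m * g * m⁻¹ : ↥N) : G)⁻¹ =
      (m : G) * ((g : G) * ((m : G)⁻¹ * t * (m : G)⁻¹⁻¹) * (g : G)⁻¹) * (m : G)⁻¹ by push_cast; group]
    rcases hg _ (hTn _ (inv_mem m.2) t ht) with e | e <;> rw [e]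
    · left; group
    · right; rw [hz]; group⟩
  obtain ⟨Q, hQ⟩ := exists_sylow_normalizer P hT
  obtain ⟨Q', hQ'⟩ := ProductFusion.exists_sylow_of_normal Q V
  let W : Subgroup ↥V :=
    { carrier := {g | ((g : ↥N) : G) * x = x * ((g : ↥N) : G)}
      one_mem' := by simp
      mul_mem' := fun {g k} hg hk => (show Commute _ x from hg).mul_left hk
      inv_mem' := fun {g} hg => (show Commute _ x from hg).inv_left }
  haveI : W.Normal := ⟨fun g hg k => by
    have hk := inv_mem k.2 x hx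
    show (((k * g * k⁻¹ : ↥V) : ↥N) : G) * x = x * (((k * g * k⁻¹ : ↥V) : ↥N) : G)
    push_cast at hk ⊢
    have hgz : Commute ((g : ↥N) : G) z := hzc _
    have h3 : Commute ((g : ↥N) : G) (((k : ↥N) : G)⁻¹ * x * ((k : ↥N) : G)⁻¹⁻¹) := by
      rcases hk with e | e <;> rw [e]
      · exact hg
      · exact (show Commute _ x from hg).mul_right hgz
    have h4 := h3.map (MulAut.conj ((k : ↥N) : G))
    simp [mul_assoc] at h4
    simpa [mul_assoc] using h4.eq⟩
  have hQW : (Q' : Subgroup ↥V) ≤ W := by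
    intro g hg
    rw [hQ', mem_subgroupOf, hQ, mem_subgroupOf] at hg
    exact mul_inv_eq_iff_eq_mul.1 (hfix _ hg (g : ↥N).2 g.2)
  set U : ↥V := ⟨⟨u, hu⟩, hun⟩ with hU
  have hUp : IsPGroup 2 ↥(zpowers U) := IsPGroup.of_card_dvd_pow (n := j) (by
    rw [Nat.card_zpowers]
    refine orderOf_dvd_of_pow_eq_one ?_
    exact Subtype.ext (Subtype.ext (by simpa using hu2)))
  obtain ⟨k, hk⟩ := ProductFusion.exists_conj_le Q' hUp
  have h5 := Subgroup.Normal.conj_mem inferInstance _ (hQW (hk U (mem_zpowers U))) k⁻¹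
  rw [show k⁻¹ * (k * U * k⁻¹) * k⁻¹⁻¹ = U by group] at h5
  exact mul_inv_eq_iff_eq_mul.2 h5

end Cfsg.Agent.Lib.G2Fong23
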