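import Cfsg.Agent.Lib.G2Fong23.Model
import Cfsg.Agent.Lib.G2Fong23.Tools

/-!
# The ambient set-up (helper23)
-/

set_option autoImplicit false
set_option linter.style.haveILetI false

namespace Cfsg.Agent.Lib.G2Fong23

open Subgroup G2Fusion23

variable {R : Type*} [CommRing R] {X : Type*} [Group X]

/-- The model as a Sylow subgroup, with central involution. -/
structure Amb (π : R →+* ZMod 2) (h q : R) (r : ℕ) (φ : El R →* X) (P : Sylow 2 X) : Prop
    extends Par π h q r where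
  inj : Function.Injective φ
  range : φ.range = (P : Subgroup X)
  central : ∀ g : X, g * φ ⟨h, h, false, false⟩ = φ ⟨h, h, false, false⟩ * g

variable {π : R →+* ZMod 2} {h q : R} {r : ℕ} {φ : El R →* X} {P : Sylow 2 X}

theorem Amb.mem (D : Amb π h q r φ P) (x : El R) : φ x ∈ (P : Subgroup X) := D.range ▸ ⟨x, rfl⟩

theorem Amb.exists_eq (D : Amb π h q r φ P) {g : X} (hg : g ∈ (P : Subgroup X)) : ∃ x, φ x = g := by
  rw [← D.range] at hg
  exact hg

theorem Amb.mem_map (D : Amb π h q r φ P) {H : Subgroup (El R)} {x : El R} : φ x ∈ H.map φ ↔ x ∈ H :=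
  Subgroup.mem_map_iff_mem D.inj

theorem Amb.sq_eq_one (D : Amb π h q r φ P) {x : El R} : φ x * φ x = 1 ↔ x * x = 1 := by
  rw [← map_mul, ← map_one φ, D.inj.eq_iff]

theorem Amb.z_sq (D : Amb π h q r φ P) : φ ⟨h, h, false, false⟩ * φ ⟨h, h, false, false⟩ = 1 := by
  rw [← map_mul, ← map_one φ]
  simp [El.mul_def, El.one_def, twist, D.halves.two_h]

theorem Amb.z_ne (D : Amb π h q r φ P) : φ ⟨h, h, false, false⟩ ≠ 1 := fun e =>
  D.halves.h_ne (congrArg El.i (D.inj (e.trans (map_one φ).symm)))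

/-- The parity of an element with non-trivial square is intrinsic. -/
theorem Amb.even_iff (D : Amb π h q r φ P) {g : X} (hg : g ∈ (P : Subgroup X)) (hg2 : g * g ≠ 1) :
    g ∈ (even π).map φ ↔ (g ^ (2 * r) = 1 ∨ g ^ (2 * r) = φ ⟨h, h, false, false⟩) := by
  obtain ⟨x, rfl⟩ := D.exists_eq hg
  rw [D.mem_map, D.toPar.even_iff x (fun e => hg2 (D.sq_eq_one.2 e)), ← map_pow, ← map_one φ,
    D.inj.eq_iff, D.inj.eq_iff]

theorem Amb.conj_even_iff (D : Amb π h q r φ P) {g : X} (n : X) (hg : g ∈ (P : Subgroup X))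
    (hn : n * g * n⁻¹ ∈ (P : Subgroup X)) (hg2 : g * g ≠ 1) :
    g ∈ (even π).map φ ↔ n * g * n⁻¹ ∈ (even π).map φ := by
  have hc : n * φ ⟨h, h, false, false⟩ * n⁻¹ = φ ⟨h, h, false, false⟩ := by
    rw [D.central, mul_inv_cancel_right]
  have hn2 : n * g * n⁻¹ * (n * g * n⁻¹) ≠ 1 := fun e => hg2 (by
    calc g * g = n⁻¹ * (n * g * n⁻¹ * (n * g * n⁻¹)) * n := by group
      _ = 1 := by rw [e]; group)
  rw [D.even_iff hg hg2, D.even_iff hn hn2, conj_pow]
  refine or_congr ⟨fun e => by rw [e]; group, fun e => ?_⟩ ⟨fun e => by rw [e, hc], fun e => ?_⟩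
  · calc g ^ (2 * r) = n⁻¹ * (n * g ^ (2 * r) * n⁻¹) * n := by group
      _ = 1 := by rw [e]; group
  · rw [← hc] at e
    simpa using e

/-- The parity on `P` as a relation. -/
theorem Amb.mul_even_iff (D : Amb π h q r φ P) {a b : X} (ha : a ∈ (P : Subgroup X))
    (hb : b ∈ (P : Subgroup X)) :
    a * b ∈ (even π).map φ ↔ (a ∈ (even π).map φ ↔ b ∈ (even π).map φ) := by
  obtain ⟨x, rfl⟩ := D.exists_eq ha
  obtain ⟨y, rfl⟩ := D.exists_eq hb
  rw [← map_mul, D.mem_map, D.mem_map, D.mem_map]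
  unfold even
  rw [MonoidHom.mem_ker, MonoidHom.mem_ker, MonoidHom.mem_ker, map_mul]
  generalize parity π x = u
  generalize parity π y = v
  revert u v
  decide

theorem Amb.conj_even (D : Amb π h q r φ P) {s x : X} (hs : s ∈ (P : Subgroup X))
    (hx : x ∈ (even π).map φ) : s * x * s⁻¹ ∈ (even π).map φ := by
  obtain ⟨s, rfl⟩ := D.exists_eq hs
  obtain ⟨y, hy, rfl⟩ := Subgroup.mem_map.1 hx
  rw [← map_inv, ← map_mul, ← map_mul, D.mem_map]
  exact (MonoidHom.normal_ker (parity π)).conj_mem y hy s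

end Cfsg.Agent.Lib.G2Fong23
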