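import Cfsg.Agent.Lib.G2Fong23.Model

/-!
# Centralisers and shifts in the model (helper23)
-/

set_option autoImplicit false
set_option linter.style.haveILetI false

namespace Cfsg.Agent.Lib.G2Fong23

open G2Fusion23

variable {R : Type*} [CommRing R] {π : R →+* ZMod 2} {h q : R} {r : ℕ}

/-- The three involutions of the translations. -/
def IsZ0 (h : R) (x : El R) : Prop :=
  x = ⟨h, h, false, false⟩ ∨ x = ⟨h, 0, false, false⟩ ∨ x = ⟨0, h, false, false⟩

/-- Involutions outside the translations have small centralisers. -/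
theorem Par.card_centralizer [Finite R] (D : Par π h q r) (hN : 4 ≤ Nat.card R) {x : El R}
    (hx : x * x = 1) (hx1 : x ≠ 1) (hx0 : ¬ IsZ0 h x) :
    Nat.card (Subgroup.centralizer ({x} : Set (El R))) < 2 * Nat.card R ^ 2 := by
  classical
  have hc : ∀ y ∈ Subgroup.centralizer ({x} : Set (El R)), y * x = x * y := fun y hy =>
    Subgroup.mem_centralizer_singleton_iff.1 hy
  rcases sq_cases D.halves hx hx1 with e | e | e | ⟨ek, el⟩ | e | e
  · exact absurd (Or.inl e) hx0
  · exact absurd (Or.inr (Or.inl e)) hx0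
  · exact absurd (Or.inr (Or.inr e)) hx0
  · obtain ⟨c, d, k, l⟩ := x
    simp only at ek el
    subst ek el
    have hsol : ∀ k l : Bool, ∃ i₀ j₀ : R, ∀ y ∈ Subgroup.centralizer ({(⟨c, d, true, false⟩ : El R)} : Set (El R)),
        y.k = k → y.l = l → (y.i = i₀ ∨ y.i = i₀ + h) ∧ (y.j = j₀ ∨ y.j = j₀ + h) := by
      intro k l
      by_cases hex : ∃ y ∈ Subgroup.centralizer ({(⟨c, d, true, false⟩ : El R)} : Set (El R)), y.k = k ∧ y.l = l
      · obtain ⟨⟨i₀, j₀, k₀, l₀⟩, hy₀, rfl, rfl⟩ := hex
        refine ⟨i₀, j₀, fun y hy ek el => ?_⟩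
        obtain ⟨i, j, k, l⟩ := y
        simp only at ek el ⊢
        subst ek el
        have h1 := hc _ hy₀
        have h2 := hc _ hy
        simp [El.mul_def, twist] at h1 h2
        constructor
        · rcases D.halves.tor (i - i₀) (by linear_combination h2.1 - h1.1) with e | e
          · exact Or.inl (sub_eq_zero.1 e)
          · exact Or.inr (by linear_combination e)
        · rcases D.halves.tor (j - j₀) (by linear_combination h2.2 - h1.2) with e | e
          · exact Or.inl (sub_eq_zero.1 e)
          · exact Or.inr (by linear_combination e)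
      · exact ⟨0, 0, fun y hy ek el => absurd ⟨y, hy, ek, el⟩ hex⟩
    choose i₀ j₀ hsol using hsol
    let f : Subgroup.centralizer ({(⟨c, d, true, false⟩ : El R)} : Set (El R)) → Bool × Bool × Bool × Bool :=
      fun y => (y.1.k, y.1.l, decide (y.1.i = i₀ y.1.k y.1.l), decide (y.1.j = j₀ y.1.k y.1.l))
    have hf : Function.Injective f := by
      intro y y' e
      simp only [f, Prod.mk.injEq] at e
      obtain ⟨ek, el, ei, ej⟩ := e
      rw [← ek, ← el] at ei ej
      have h1 := hsol y.1.k y.1.l y.1 y.2 rfl rfl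
      have h2 := hsol y.1.k y.1.l y'.1 y'.2 ek.symm el.symm
      refine Subtype.ext (El.ext ?_ ?_ ek el)
      · rw [decide_eq_decide] at ei
        rcases h1.1 with a | a
        · rw [a, ei.1 a]
        · rcases h2.1 with b | b
          · rw [b, ei.2 b]
          · rw [a, b]
      · rw [decide_eq_decide] at ej
        rcases h1.2 with a | a
        · rw [a, ej.1 a]
        · rcases h2.2 with b | b
          · rw [b, ej.2 b]
          · rw [a, b]
    refine (Nat.card_le_card_of_injective f hf).trans_lt ?_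
    simp only [Nat.card_prod, Nat.card_eq_fintype_card (α := Bool), Fintype.card_bool]
    nlinarith
  all_goals
    obtain ⟨a, rfl⟩ := e
    refine lt_of_le_of_lt (Nat.card_le_card_of_injective (fun y => (y.1.i, y.1.k, y.1.l)) ?_) ?_
    · rintro ⟨⟨i, j, k, l⟩, hy⟩ ⟨⟨i', j', k', l'⟩, hy'⟩ e
      simp only [Prod.mk.injEq] at e
      obtain ⟨rfl, rfl, rfl⟩ := e
      have h1 := hc _ hy
      have h2 := hc _ hy'
      simp [El.mul_def, twist] at h1 h2
      simp only [Subtype.mk.injEq, El.ext_iff]
      refine ⟨trivial, ?_, trivial, trivial⟩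
      first
      | linear_combination h2.1 - h1.1
      | linear_combination h1.1 - h2.1
    simp only [Nat.card_prod, Nat.card_eq_fintype_card (α := Bool), Fintype.card_bool]
    nlinarith

/-- The two shifts. -/
theorem Par.exists_shift (D : Par π h q r) {x : El R} (hx : x * x = 1) (hx1 : x ≠ 1) (hx0 : ¬ IsZ0 h x) :
    ∃ s : El R, s * x * s⁻¹ = x * ⟨h, h, false, false⟩ ∧
      (∀ y, IsZ0 h y → s * y * s⁻¹ = y) ∧
      ∀ y : El R, y * y = 1 → s * y * s⁻¹ = y ∨ s * y * s⁻¹ = y * ⟨h, h, false, false⟩ := by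
  have hn := D.halves.neg_h
  have hq := D.halves.two_q
  have hh := D.halves.two_h
  have fix0 : ∀ a b : R, ∀ y, IsZ0 h y → (⟨a, b, false, false⟩ : El R) * y * (⟨a, b, false, false⟩ : El R)⁻¹ = y := by
    rintro a b _ (rfl | rfl | rfl) <;> simp [El.mul_def, El.inv_def, twist]
  have act : ∀ y : El R, y * y = 1 →
      ((⟨q, q, false, false⟩ : El R) * y * (⟨q, q, false, false⟩ : El R)⁻¹ = bif y.k then y * ⟨h, h, false, false⟩ else y) ∧
      ((⟨0, h, false, false⟩ : El R) * y * (⟨0, h, false, false⟩ : El R)⁻¹ = bif y.l then y * ⟨h, h, false, false⟩ else y) := by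
    intro y hy
    obtain ⟨a, b, k, l⟩ := y
    constructor <;> cases k <;> cases l <;> simp [El.mul_def, El.inv_def, twist, hn]
    all_goals try constructor
    all_goals first
      | exact add_comm _ _
      | linear_combination hq
      | linear_combination hh
  have near : ∀ (b : Bool) (y : El R),
      (bif b then y * ⟨h, h, false, false⟩ else y) = y ∨
        (bif b then y * ⟨h, h, false, false⟩ else y) = y * ⟨h, h, false, false⟩ := fun b y => by
    cases b <;> simp
  by_cases hk : x.k = true
  · refine ⟨⟨q, q, false, false⟩, ?_, fix0 q q, fun y hy => ?_⟩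
    · rw [(act x hx).1, hk]; rfl
    · rw [(act y hy).1]; exact near _ _
  · have hl : x.l = true := by
      rcases sq_cases D.halves hx hx1 with e | e | e | ⟨ek, -⟩ | ⟨a, rfl⟩ | ⟨a, rfl⟩
      · exact absurd (Or.inl e) hx0
      · exact absurd (Or.inr (Or.inl e)) hx0
      · exact absurd (Or.inr (Or.inr e)) hx0
      · exact absurd ek hk
      · rfl
      · rfl
    refine ⟨⟨0, h, false, false⟩, ?_, fix0 0 h, fun y hy => ?_⟩
    · rw [(act x hx).2, hl]; rfl
    · rw [(act y hy).2]; exact near _ _

/-- An even inversion commutes with a swap. -/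
theorem Par.exists_swap (D : Par π h q r) {c d : R} (he : (⟨c, d, true, false⟩ : El R) ∈ even π) :
    ∃ s : El R, s * ⟨c, d, true, false⟩ * s⁻¹ = ⟨c, d, true, false⟩ ∧
      s * ⟨h, 0, false, false⟩ * s⁻¹ = ⟨0, h, false, false⟩ := by
  rw [mem_even] at he
  obtain ⟨u, hu⟩ := D.ker (c - d) (by rw [map_sub, he, sub_self])
  refine ⟨⟨u, -u, false, true⟩, ?_, by simp [El.mul_def, El.inv_def, twist]⟩
  simp [El.mul_def, El.inv_def, twist]
  constructor
  · linear_combination -hu
  · linear_combination hu

/-- A swap involution commutes with an even inversion. -/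
theorem Par.exists_inversion (_D : Par π h q r) {x : El R} (hl : x.l = true) (hx : x * x = 1) :
    ∃ c d : R, (⟨c, d, true, false⟩ : El R) ∈ even π ∧ x * ⟨c, d, true, false⟩ = ⟨c, d, true, false⟩ * x := by
  obtain ⟨a, b, k, l⟩ := x
  simp only at hl
  subst hl
  refine ⟨a + a, 0, ?_, ?_⟩
  · rw [mem_even, map_add, map_zero]
    rcases zmod_two (π a) with e | e <;> rw [e] <;> decide
  · cases k <;> simp [El.mul_def, El.one_def, twist] at hx ⊢
    · linear_combination 2 * hx.1
    · linear_combination -2 * hx.1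

end Cfsg.Agent.Lib.G2Fong23
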