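import Cfsg.Agent.Lib.G2Fong23.Model

/-!
# The even part is a central product (helper23)
-/

set_option autoImplicit false
set_option linter.style.haveILetI false
set_option linter.unusedSectionVars false

namespace Cfsg.Agent.Lib.G2Fong23

open G2Fusion23

variable {R : Type*} [CommRing R] {π : R →+* ZMod 2} {h q : R} {r : ℕ}

/-- The first factor. -/
def side (hh : h + h = 0) : Subgroup (El R) where
  carrier := {x | x.l = x.k ∧ x.j = x.i + (bif x.k then h else 0)}
  one_mem' := by simp [El.one_def]
  mul_mem' := by
    rintro ⟨a, b, k, l⟩ ⟨c, d, k', l'⟩ ⟨e1, e2⟩ ⟨e3, e4⟩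
    simp only at e1 e2 e3 e4
    subst e1 e2 e3 e4
    cases l <;> cases l' <;> simp [El.mul_def, twist]
    all_goals first
      | linear_combination hh
      | linear_combination -hh
      | linear_combination 2 * hh
      | abel
  inv_mem' := by
    rintro ⟨a, b, k, l⟩ ⟨e1, e2⟩
    simp only at e1 e2
    subst e1 e2
    cases l <;> simp [El.inv_def, twist]
    linear_combination -hh

/-- The symmetry exchanging the factors. -/
def theta : El R →* El R where
  toFun x := ⟨x.i, -x.j, xor x.k x.l, x.l⟩
  map_one' := by simp [El.one_def]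
  map_mul' x y := by
    obtain ⟨a, b, k, l⟩ := x
    obtain ⟨c, d, k', l'⟩ := y
    cases k <;> cases l <;> cases k' <;> cases l' <;> simp [El.mul_def, twist] <;> abel

theorem theta_apply (x : El R) : theta x = ⟨x.i, -x.j, xor x.k x.l, x.l⟩ := rfl

theorem theta_theta (x : El R) : theta (theta x) = x := by
  obtain ⟨a, b, k, l⟩ := x
  cases k <;> cases l <;> simp [theta_apply]

theorem theta_injective : Function.Injective (theta (R := R)) :=
  Function.LeftInverse.injective theta_theta

theorem mem_side (hh : h + h = 0) {x : El R} :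
    x ∈ side hh ↔ x.l = x.k ∧ x.j = x.i + (bif x.k then h else 0) := Iff.rfl

theorem rot_mem (hh : h + h = 0) (u : R) : (⟨u, u, false, false⟩ : El R) ∈ side hh :=
  ⟨rfl, by simp⟩

/-- The shapes of the first factor. -/
theorem side_cases (hh : h + h = 0) {x : El R} (hx : x ∈ side hh) :
    x = ⟨x.i, x.i, false, false⟩ ∨ x = ⟨x.i, x.i + h, true, true⟩ := by
  obtain ⟨a, b, k, l⟩ := x
  obtain ⟨e1, e2⟩ := hx
  simp only at e1 e2
  subst e1 e2
  cases l <;> simp

theorem Par.neg (D : Par π h q r) : -h = h := D.halves.neg_h

theorem Par.side_theta (D : Par π h q r) (hh : h + h = 0) {x : El R} (hx : theta x ∈ side hh) :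
    x = ⟨x.i, -x.i, false, false⟩ ∨ x = ⟨x.i, h - x.i, false, true⟩ := by
  obtain ⟨a, b, k, l⟩ := x
  obtain ⟨e1, e2⟩ := hx
  cases k <;> cases l <;> simp [theta_apply] at e1 e2 ⊢
  · rw [← e2, neg_neg]
  · rw [← neg_neg b, e2, neg_add, D.neg, sub_eq_neg_add]

theorem Par.side_even (D : Par π h q r) (hh : h + h = 0) {x : El R} (hx : x ∈ side hh) :
    x ∈ even π := by
  rcases side_cases hh hx with e | e <;> rw [e, mem_even] <;> simp [D.pi_h]

theorem Par.theta_even (_D : Par π h q r) {x : El R} : theta x ∈ even π ↔ x ∈ even π := by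
  simp [mem_even, theta_apply]

theorem Par.theta_z (D : Par π h q r) :
    theta (⟨h, h, false, false⟩ : El R) = ⟨h, h, false, false⟩ := by
  simp [theta_apply, D.neg]

/-- The factors commute. -/
theorem Par.side_comm (D : Par π h q r) (hh : h + h = 0) {x y : El R} (hx : x ∈ side hh)
    (hy : theta y ∈ side hh) : x * y = y * x := by
  rcases side_cases hh hx with e | e <;> rcases D.side_theta hh hy with e' | e' <;> rw [e, e'] <;>
    simp [El.mul_def, twist, D.neg] <;> constructor <;>
    first
      | linear_combination hh
      | linear_combination -hh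
      | abel

/-- The factors meet in the centre. -/
theorem Par.side_inf (D : Par π h q r) (hh : h + h = 0) {x : El R} (hx : x ∈ side hh)
    (hx' : theta x ∈ side hh) : x = 1 ∨ x = ⟨h, h, false, false⟩ := by
  rcases side_cases hh hx with e | e <;> rcases D.side_theta hh hx' with e' | e'
  · rw [e] at e'
    have h1 : x.i = -x.i := congrArg El.j e'
    rcases D.halves.tor x.i (by linear_combination h1) with e2 | e2 <;> rw [e, e2]
    · exact Or.inl rfl
    · exact Or.inr rfl
  · exact Bool.noConfusion (congrArg El.l (e.symm.trans e'))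
  · exact Bool.noConfusion (congrArg El.l (e.symm.trans e'))
  · exact Bool.noConfusion (congrArg El.k (e.symm.trans e'))

theorem Par.q_ne (D : Par π h q r) : q + q ≠ 0 := by
  rw [D.halves.two_q]; exact D.halves.h_ne

theorem Par.half_cases (D : Par π h q r) {a : R} (ha : a + a = h) : a = q ∨ a = q + h := by
  rcases D.halves.tor (a - q) (by linear_combination ha - D.halves.two_q) with e | e
  · exact Or.inl (sub_eq_zero.1 e)
  · exact Or.inr (by linear_combination e)

/-- The square roots of `z` lie in the factors. -/
theorem Par.sqrt_z (D : Par π h q r) (hh : h + h = 0) {x : El R}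
    (hx : x * x = ⟨h, h, false, false⟩) : x ∈ side hh ∨ theta x ∈ side hh := by
  obtain ⟨a, b, k, l⟩ := x
  cases k <;> cases l <;> simp [El.mul_def, twist] at hx
  · have hq := D.halves.two_q
    rcases D.half_cases hx.1 with rfl | rfl <;> rcases D.half_cases hx.2 with rfl | rfl
    · exact Or.inl (rot_mem hh _)
    · refine Or.inr ⟨by simp [theta_apply], ?_⟩
      simp [theta_apply]
      first | linear_combination -hq | linear_combination -hq - hh
    · refine Or.inr ⟨by simp [theta_apply], ?_⟩
      simp [theta_apply]
      first | linear_combination -hq | linear_combination -hq - hh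
    · exact Or.inl (rot_mem hh _)
  · refine Or.inr ⟨by simp [theta_apply], ?_⟩
    simp [theta_apply]
    linear_combination -hx.1 - hh
  · exact absurd hx.symm D.halves.h_ne
  · refine Or.inl ⟨rfl, ?_⟩
    simp
    linear_combination -hx.1 - hh

/-- Commuting square roots of `z` in one factor. -/
theorem Par.side_pair (D : Par π h q r) (hh : h + h = 0) {x y : El R} (hx : x ∈ side hh)
    (hy : y ∈ side hh) (hx2 : x * x = ⟨h, h, false, false⟩) (hy2 : y * y = ⟨h, h, false, false⟩)
    (hc : x * y = y * x) : y = x ∨ y = x⁻¹ := by
  have hq := D.halves.two_q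
  rcases side_cases hh hx with e | e <;> rcases side_cases hh hy with e' | e' <;>
    rw [e] at hx2 hc ⊢ <;> rw [e'] at hy2 hc ⊢ <;>
    simp [El.mul_def, twist] at hx2 hy2 hc
  · rcases D.half_cases hx2 with a | a <;> rcases D.half_cases hy2 with b | b <;> rw [a, b] <;>
      simp [El.inv_def, twist] <;> right
    all_goals linear_combination hq + hh
  · exfalso
    refine D.halves.h_ne ?_
    linear_combination hc.1 - hx2
  · exfalso
    refine D.halves.h_ne ?_
    linear_combination -hc.1 - hy2
  · rcases D.halves.tor (y.i - x.i) (by linear_combination -hc.1) with a | a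
    · left; rw [sub_eq_zero.1 a]
    · right
      simp [El.inv_def, twist]
      constructor
      · linear_combination a
      · linear_combination a + hh

end Cfsg.Agent.Lib.G2Fong23
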