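import Cfsg.Agent.Lib.G2Fong23.Parity
import Cfsg.Agent.Lib.G2Fong23.Sides

/-!
# The two factors are invariant under fusion (helper23)
-/

set_option autoImplicit false
set_option linter.style.haveILetI false
set_option linter.unusedSectionVars false

namespace Cfsg.Agent.Lib.G2Fong23

open Subgroup G2Fusion23 Fusion.Alperin

variable {R : Type*} [CommRing R] {X : Type*} [Group X] [Finite X]
variable {π : R →+* ZMod 2} {h q : R} {r : ℕ} {φ : El R →* X} {P : Sylow 2 X}

/-- The cyclicity needed. -/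
def Cyc (R : Type*) [CommRing R] : Prop :=
  ∀ u v : R, addOrderOf u = addOrderOf v → ∃ m : ℕ, v = m • u

theorem Amb.comp_theta (D : Amb π h q r φ P) : Amb π h q r (φ.comp theta) P where
  toPar := D.toPar
  inj := D.inj.comp theta_injective
  range := by
    rw [MonoidHom.range_comp, MonoidHom.range_eq_top.2 fun y => ⟨theta y, theta_theta y⟩,
      ← MonoidHom.range_eq_map, D.range]
  central g := by
    rw [MonoidHom.comp_apply, D.toPar.theta_z]
    exact D.central g

theorem Amb.even_invariant (D : Amb π h q r φ P) {x : El R} (hx : x ∈ even π) {g : X}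
    {y : El R} (hy : g * φ x * g⁻¹ = φ y) : y ∈ even π := by
  haveI : Fact (Nat.Prime 2) := ⟨Nat.prime_two⟩
  rw [← D.mem_map, ← hy]
  exact invariant_of_odd P _ (fun s hs x hx => D.conj_even hs hx)
    (fun T hT n hn ho x hx hxM => D.odd_keep hT hn ho hx hxM) _ g (D.mem_map.2 hx) (D.mem x)
    (hy ▸ D.mem y)

/-- An element of odd order cannot exchange the sides. -/
theorem Amb.root_keep (D : Amb π h q r φ P) {T : Subgroup X} (hTP : T ≤ (P : Subgroup X)) {n : X}
    (hn : n ∈ normalizer (T : Set X)) (ho : Odd (orderOf n)) {x : El R} (hxT : φ x ∈ T)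
    (hx : x ∈ side D.halves.two_h) (hx2 : x * x = ⟨h, h, false, false⟩) :
    ∃ y ∈ side D.halves.two_h, n * φ x * n⁻¹ = φ y := by
  set hh := D.halves.two_h
  have hxe : x ∈ even π := D.toPar.side_even hh hx
  have hxi : ∀ i : ℕ, ∃ y : El R, n ^ i * φ x * (n ^ i)⁻¹ = φ y ∧
      y * y = ⟨h, h, false, false⟩ ∧ (y ∈ side hh ∨ theta y ∈ side hh) := fun i => by
    obtain ⟨y, hy⟩ := D.exists_eq (hTP ((mem_normalizer_iff.1 (pow_mem hn i) _).1 hxT))
    have e : y * y = ⟨h, h, false, false⟩ := D.inj (by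
      rw [map_mul, hy, show n ^ i * φ x * (n ^ i)⁻¹ * (n ^ i * φ x * (n ^ i)⁻¹) =
        n ^ i * (φ x * φ x) * (n ^ i)⁻¹ by group, ← map_mul, hx2, D.central, mul_inv_cancel_right])
    exact ⟨y, hy.symm, e, D.toPar.sqrt_z hh e⟩
  choose y hy hy2 hys using hxi
  have hy0 : y 0 = x := D.inj (by rw [← hy 0]; simp)
  by_contra hne
  have h1 : y 1 ∉ side hh := fun h' => hne ⟨y 1, h', by rw [← hy 1, pow_one]⟩
  have h1' : theta (y 1) ∈ side hh := (hys 1).resolve_left h1
  have hstep : ∀ i, n * φ (y i) * n⁻¹ = φ (y (i + 1)) := fun i => by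
    rw [← hy, ← hy, pow_succ']; group
  have hc0 : Commute (φ x) (φ (y 1)) := (show Commute x (y 1) from D.toPar.side_comm hh hx h1').map φ
  have hc : ∀ i, Commute (φ (y i)) (φ (y (i + 1))) := by
    intro i
    induction i with
    | zero => rw [hy0]; exact hc0
    | succ i ih => rw [← hstep i, ← hstep (i + 1)]; exact ih.map (MulAut.conj n)
  have hsame : ∀ i, φ (y (i + 1)) ≠ φ (y i) ∧ φ (y (i + 1)) ≠ (φ (y i))⁻¹ := by
    intro i
    induction i with
    | zero =>
      rw [hy0]
      refine ⟨fun e => h1 (D.inj e ▸ hx), fun e => h1 ?_⟩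
      rw [D.inj (e.trans (map_inv φ x).symm)]
      exact inv_mem hx
    | succ i ih =>
      rw [← hstep i, ← hstep (i + 1), show (n * φ (y i) * n⁻¹)⁻¹ = n * (φ (y i))⁻¹ * n⁻¹ by group]
      exact ⟨fun e => ih.1 (by simpa using e), fun e => ih.2 (mul_left_cancel (mul_right_cancel e))⟩
  have halt : ∀ i, (y i ∈ side hh ↔ Even i) := by
    intro i
    induction i with
    | zero => simp [hy0, hx]
    | succ i ih =>
      have hcc : y i * y (i + 1) = y (i + 1) * y i := D.inj (by rw [map_mul, map_mul]; exact hc i)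
      rw [Nat.even_add_one]
      refine ⟨fun h2 h3 => ?_, fun h2 => ?_⟩
      · rcases D.toPar.side_pair hh (ih.2 h3) h2 (hy2 _) (hy2 _) hcc with e | e
        · exact (hsame i).1 (congrArg φ e)
        · exact (hsame i).2 (by rw [e, map_inv])
      · refine (hys (i + 1)).resolve_right fun h3 => ?_
        have h4 : theta (y i) ∈ side hh := (hys i).resolve_left fun h5 => h2 (ih.1 h5)
        have hz2 : ∀ j, theta (y j) * theta (y j) = (⟨h, h, false, false⟩ : El R) := fun j => by
          rw [← map_mul, hy2, D.toPar.theta_z]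
        rcases D.toPar.side_pair hh h4 h3 (hz2 _) (hz2 _) (by rw [← map_mul, ← map_mul, hcc]) with e | e
        · exact (hsame i).1 (congrArg φ (theta_injective e))
        · exact (hsame i).2 (by rw [theta_injective (e.trans (map_inv (theta (R := R)) _).symm), map_inv])
  have he : y (orderOf n) = x := D.inj (by rw [← hy, pow_orderOf_eq_one]; simp)
  exact Nat.not_even_iff_odd.2 ho ((halt _).1 (he ▸ hx))

theorem rot_pow (u : R) (m : ℕ) :
    (⟨u, u, false, false⟩ : El R) ^ m = ⟨m • u, m • u, false, false⟩ := by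
  rw [transl_pow, nsmul_eq_mul]

theorem orderOf_rot (u : R) : orderOf (⟨u, u, false, false⟩ : El R) = addOrderOf u := by
  refine Nat.dvd_antisymm (orderOf_dvd_of_pow_eq_one ?_) (addOrderOf_dvd_of_nsmul_eq_zero ?_)
  · rw [rot_pow, addOrderOf_nsmul_eq_zero]; rfl
  · have e := congrArg El.i (pow_orderOf_eq_one (⟨u, u, false, false⟩ : El R))
    rw [rot_pow] at e
    exact e

/-- The shapes of a conjugate of a rotation. -/
theorem Par.rot_shape (D : Par π h q r) (hh : h + h = 0) {y : El R}
    (hy : y ∈ even π) (hyy : y * y ∈ side hh) (hy4 : y * y * (y * y) ≠ 1) :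
    ∃ (v : R) (β : El R), y = ⟨v, v, false, false⟩ * β ∧
      Commute (⟨v, v, false, false⟩ : El R) β ∧
      (β = 1 ∨ β * β = ⟨h, h, false, false⟩ ∧ theta β ∈ side hh ∧ β ∉ side hh) := by
  obtain ⟨a, b, k, l⟩ := y
  have hn := D.halves.neg_h
  have hq := D.halves.two_q
  cases k <;> cases l <;> simp [El.mul_def, El.one_def, twist] at hyy hy4
  · obtain ⟨-, e⟩ := hyy
    simp at e
    rcases D.halves.tor (b - a) (by linear_combination e) with e' | e'
    · exact ⟨a, 1, by rw [sub_eq_zero.1 e', mul_one], Commute.one_right _, Or.inl rfl⟩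
    · refine ⟨a + q, ⟨-q, q, false, false⟩, ?_, by simp [commute_iff_eq, El.mul_def, twist, add_comm],
        Or.inr ⟨?_, ?_, ?_⟩⟩
      · simp [El.mul_def, twist]
        linear_combination e' - hq
      · simp [El.mul_def, twist, hq]
        linear_combination -hq - hh
      · exact ⟨by simp [theta_apply], by simp [theta_apply]⟩
      · rintro ⟨-, e''⟩
        simp at e''
        exact D.q_ne (by linear_combination e'')
  · rw [mem_even] at hy
    obtain ⟨c, hc⟩ := D.ker (a + b - h) (by
      rw [map_sub, map_add, hy, D.pi_h, sub_zero]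
      generalize π b = A; revert A; decide)
    refine ⟨c, ⟨a - c, b - c, false, true⟩, ?_, ?_, Or.inr ⟨?_, ?_, ?_⟩⟩
    · simp [El.mul_def, twist]
    · simp [commute_iff_eq, El.mul_def, twist, add_comm]
    · simp [El.mul_def, twist]
      constructor <;> linear_combination hc
    · refine ⟨by simp [theta_apply], ?_⟩
      simp [theta_apply]
      linear_combination -hc - hh
    · rintro ⟨e'', -⟩
      exact Bool.noConfusion e''
  · exfalso
    obtain ⟨-, e⟩ := hyy
    simp at e
    refine hy4 ?_ ?_ <;> first | linear_combination e | linear_combination -e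

variable [Finite R]

/-- A rotation stays in the first factor. -/
theorem Amb.rot_keep (D : Amb π h q r φ P) (hcyc : Cyc R) {T : Subgroup X} (hTP : T ≤ (P : Subgroup X))
    {n : X} (hn : n ∈ normalizer (T : Set X)) (ho : Odd (orderOf n)) (j : ℕ) :
    ∀ u : R, addOrderOf u ∣ 2 ^ j → φ ⟨u, u, false, false⟩ ∈ T →
      ∃ y ∈ side D.halves.two_h, n * φ ⟨u, u, false, false⟩ * n⁻¹ = φ y := by
  set hh := D.halves.two_h
  induction j generalizing n with
  | zero =>
    intro u hu _
    rw [pow_zero, Nat.dvd_one, AddMonoid.addOrderOf_eq_one_iff] at hu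
    subst hu
    exact ⟨1, one_mem _, by rw [show (⟨0, 0, false, false⟩ : El R) = 1 from rfl, map_one]; group⟩
  | succ j ih =>
    intro u hu huT
    set ru : El R := ⟨u, u, false, false⟩ with hru
    by_cases hsmall : u + u + (u + u) = 0
    · rcases D.halves.tor (u + u) hsmall with e | e
      · rcases D.halves.tor u e with e' | e'
        · exact ⟨1, one_mem _, by rw [hru, e', show (⟨0, 0, false, false⟩ : El R) = 1 from rfl, map_one]; group⟩
        · exact ⟨_, rot_mem hh h, by rw [hru, e', D.central, mul_inv_cancel_right]⟩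
      · exact D.root_keep hTP hn ho huT (rot_mem hh u) (by simp [hru, El.mul_def, twist, e])
    set a := φ ru with ha
    have hsq : ru * ru = ⟨u + u, u + u, false, false⟩ := by simp [hru, El.mul_def, twist]
    have hord : addOrderOf (u + u) ∣ 2 ^ j := by
      refine addOrderOf_dvd_of_nsmul_eq_zero ?_
      rw [← two_nsmul, ← mul_nsmul', ← pow_succ, ← addOrderOf_dvd_iff_nsmul_eq_zero]
      exact hu
    have hsqT : φ ⟨u + u, u + u, false, false⟩ ∈ T := by rw [← hsq, map_mul]; exact mul_mem huT huT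
    -- all conjugates by odd elements of `N(T)`
    have shape : ∀ g ∈ normalizer (T : Set X), Odd (orderOf g) → ∃ (m : ℕ) (β : El R), Odd m ∧
        g * a * g⁻¹ = φ (ru ^ m * β) ∧ Commute ru β ∧
        (β = 1 ∨ β * β = ⟨h, h, false, false⟩ ∧ theta β ∈ side hh ∧ β ∉ side hh) := by
      intro g hg hgo
      obtain ⟨y, hy⟩ := D.exists_eq (hTP ((mem_normalizer_iff.1 hg _).1 huT))
      obtain ⟨w, hw, hwe⟩ := ih hg hgo (u + u) hord hsqT
      have hyy : y * y = w := D.inj (by
        rw [map_mul, hy, ← hwe, ← hsq, map_mul, ha]; group)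
      have hy4 : y * y * (y * y) ≠ 1 := fun e => hsmall (by
        have h1 : φ (⟨u + u, u + u, false, false⟩ * ⟨u + u, u + u, false, false⟩) = 1 := by
          rw [map_mul, show φ ⟨u + u, u + u, false, false⟩ = g⁻¹ * φ w * g by rw [← hwe]; group,
            show g⁻¹ * φ w * g * (g⁻¹ * φ w * g) = g⁻¹ * (φ w * φ w) * g by group, ← map_mul, ← hyy, e, map_one]
          group
        have h2 := congrArg El.i (D.inj (h1.trans (map_one φ).symm))
        simpa [El.mul_def, El.one_def, twist] using h2)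
      obtain ⟨v, β, rfl, hvc, hβ⟩ := D.toPar.rot_shape hh
        (D.even_invariant (D.toPar.side_even hh (rot_mem hh u)) hy.symm) (hyy ▸ hw) hy4
      -- the rotation parts have the same order
      have hβ4 : β ^ 4 = 1 := by
        rcases hβ with rfl | ⟨h2, -, -⟩
        · exact one_pow 4
        · rw [show (4 : ℕ) = 2 * 2 from rfl, pow_mul, pow_two, pow_two, h2]
          simp [El.mul_def, El.one_def, twist, hh]
      obtain ⟨e, -, he⟩ := (Nat.dvd_prime_pow Nat.prime_two).1 hu
      have hoy : orderOf (φ ((⟨v, v, false, false⟩ : El R) * β)) = orderOf a := by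
        rw [hy]; exact orderOf_injective (MulAut.conj g).toMonoidHom (MulEquiv.injective _) a
      rw [orderOf_injective φ D.inj, ha, orderOf_injective φ D.inj, hru, orderOf_rot, he] at hoy
      have he3 : 3 ≤ e := by
        by_contra hlt
        refine hsmall ?_
        have h4 : (4 : ℕ) • u = 0 := addOrderOf_dvd_iff_nsmul_eq_zero.1 (he ▸ by
          rw [show (4 : ℕ) = 2 ^ 2 from rfl]; exact pow_dvd_pow 2 (by omega))
        rw [← h4, nsmul_eq_mul]; push_cast; ring
      have hpowv : ∀ i : ℕ, 4 ∣ i → ((⟨v, v, false, false⟩ : El R) * β) ^ i = ⟨i • v, i • v, false, false⟩ := by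
        rintro i ⟨i, rfl⟩
        rw [hvc.mul_pow, pow_mul β 4, hβ4, one_pow, mul_one, rot_pow]
      have hov : addOrderOf v = addOrderOf u := by
        rw [he]
        obtain ⟨e, rfl⟩ : ∃ e', e = e' + 3 := ⟨e - 3, by omega⟩
        refine addOrderOf_eq_prime_pow (p := 2) (n := e + 2) (fun h1 => ?_) ?_
        · have h2 : ((⟨v, v, false, false⟩ : El R) * β) ^ (2 ^ (e + 2)) = 1 := by
            rw [hpowv _ ⟨2 ^ e, by ring⟩, h1]; rfl
          have h3 := orderOf_dvd_of_pow_eq_one h2
          rw [hoy, Nat.pow_dvd_pow_iff_le_right (by norm_num)] at h3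
          omega
        · have h2 := pow_orderOf_eq_one ((⟨v, v, false, false⟩ : El R) * β)
          rw [hoy, hpowv _ ⟨2 ^ (e + 1), by ring⟩] at h2
          exact congrArg El.i h2
      obtain ⟨m, hm⟩ := hcyc u v hov.symm
      refine ⟨m, β, ?_, ?_, ?_, hβ⟩
      · by_contra hev
        obtain ⟨i, rfl⟩ := (Nat.not_odd_iff_even.1 hev)
        have h1 : addOrderOf v ∣ 2 ^ (e - 1) := by
          refine addOrderOf_dvd_of_nsmul_eq_zero ?_
          rw [hm, ← mul_nsmul', show 2 ^ (e - 1) * (i + i) = i * 2 ^ e by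
            rw [← two_mul i, ← mul_assoc, ← pow_succ, Nat.sub_add_cancel (by omega)]; ring,
            mul_nsmul', ← he, addOrderOf_nsmul_eq_zero, smul_zero]
        rw [hov, he, Nat.pow_dvd_pow_iff_le_right (by norm_num)] at h1
        omega
      · rw [hru, rot_pow, ← hm, hy]
      · rcases hβ with rfl | ⟨-, h2, -⟩
        · exact Commute.one_right _
        · exact D.toPar.side_comm hh (rot_mem hh u) h2
    by_contra hne
    obtain ⟨m₀, β, hm₀, hb, hcb, hβ⟩ := shape n hn ho
    rcases hβ with rfl | ⟨hβ2, hβs, hβn⟩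
    · exact hne ⟨_, pow_mem (rot_mem hh u) m₀, by rw [← mul_one (ru ^ m₀)]; exact hb⟩
    have hnT : n * a * n⁻¹ ∈ T := (mem_normalizer_iff.1 hn _).1 huT
    have hβT : φ β ∈ T := by
      rw [hb, map_mul, map_pow] at hnT
      exact (T.mul_mem_cancel_left (pow_mem huT m₀)).1 hnT
    obtain ⟨γ, hγ, hγe⟩ := D.comp_theta.root_keep hTP hn ho (x := theta β)
      (by rw [MonoidHom.comp_apply, theta_theta]; exact hβT) hβs
      (by rw [← map_mul, hβ2, D.toPar.theta_z])
    rw [MonoidHom.comp_apply, MonoidHom.comp_apply, theta_theta] at hγe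
    -- conjugates of `r` commute with `r`
    have hcomm : ∀ g ∈ normalizer (T : Set X), Odd (orderOf g) → Commute a (g * a * g⁻¹) := by
      intro g hg hgo
      obtain ⟨m, β', -, e, hc', -⟩ := shape g hg hgo
      rw [e, ha]
      exact (((Commute.refl ru).pow_right m).mul_right hc').map φ
    have hco1 : Commute a (n * a * n⁻¹) := hcomm n hn ho
    have hco2 : Commute a (n * (n * a * n⁻¹) * n⁻¹) := by
      have h1 := hcomm (n * n) (mul_mem hn hn) (ho.of_dvd_nat ?_)
      · rwa [show n * (n * a * n⁻¹) * n⁻¹ = n * n * a * (n * n)⁻¹ by group]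
      · rw [← pow_two]
        exact orderOf_pow_dvd 2
    have hbb : φ β = (a ^ m₀)⁻¹ * (n * a * n⁻¹) := by rw [hb, map_mul, map_pow, ha]; group
    have hβc : Commute (φ β) (n * φ β * n⁻¹) := by
      rw [hbb, show n * ((a ^ m₀)⁻¹ * (n * a * n⁻¹)) * n⁻¹ =
        ((n * a * n⁻¹) ^ m₀)⁻¹ * (n * (n * a * n⁻¹) * n⁻¹) by rw [conj_pow]; group]
      exact (((hco1.pow_pow m₀ m₀).inv_inv).mul_right (hco2.pow_left m₀).inv_left).mul_left
        ((((Commute.refl (n * a * n⁻¹)).pow_right m₀).inv_right).mul_right (hco1.map (MulAut.conj n)))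
    have hγ' : theta γ * theta γ = (⟨h, h, false, false⟩ : El R) := D.inj (by
      rw [map_mul, ← hγe, show n * φ β * n⁻¹ * (n * φ β * n⁻¹) = n * (φ β * φ β) * n⁻¹ by group, ← map_mul,
        hβ2, D.central, mul_inv_cancel_right])
    have hε : ∃ ε : ℤ, Odd ε ∧ n * φ β * n⁻¹ = φ β ^ ε := by
      have h1 : theta β * γ = γ * theta β := by
        have h2 : β * theta γ = theta γ * β := D.inj (by
          rw [map_mul, map_mul, ← hγe]; exact hβc.eq)
        have := congrArg theta h2
        rwa [map_mul, map_mul, theta_theta] at this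
      have hγ2 : γ * γ = (⟨h, h, false, false⟩ : El R) := by
        have := congrArg theta hγ'
        rwa [map_mul, theta_theta, D.toPar.theta_z] at this
      rcases D.toPar.side_pair hh hβs hγ (by rw [← map_mul, hβ2, D.toPar.theta_z]) hγ2 h1 with e | e
      · exact ⟨1, odd_one, by rw [hγe, e, theta_theta, zpow_one]⟩
      · exact ⟨-1, odd_neg.2 odd_one, by rw [hγe, e, map_inv, theta_theta, map_inv, zpow_neg, zpow_one]⟩
    obtain ⟨ε, hεo, hε⟩ := hε
    have hcab : Commute a (φ β) := hcb.map φ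
    have orbit : ∀ i : ℕ, ∃ m k : ℤ, Odd m ∧ (Odd k ↔ Odd i) ∧ n ^ i * a * (n ^ i)⁻¹ = a ^ m * φ β ^ k := by
      intro i
      induction i with
      | zero => exact ⟨1, 0, odd_one, by simp, by simp⟩
      | succ i hi =>
        obtain ⟨m, k, hm', hk, e⟩ := hi
        refine ⟨(m₀ : ℤ) * m, m + ε * k, ((Int.odd_coe_nat m₀).2 hm₀).mul hm', ?_, ?_⟩
        · rw [Int.odd_add, ← Int.not_odd_iff_even, Int.odd_mul, Nat.odd_add_one, ← hk]
          simp only [hm', hεo, true_iff, true_and]
        · calc n ^ (i + 1) * a * (n ^ (i + 1))⁻¹ = n * (n ^ i * a * (n ^ i)⁻¹) * n⁻¹ := by rw [pow_succ']; group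
            _ = (n * a * n⁻¹) ^ m * (n * φ β * n⁻¹) ^ k := by rw [e, conj_zpow, conj_zpow]; group
            _ = (a ^ m₀) ^ m * φ β ^ m * (φ β ^ ε) ^ k := by
              rw [hb, hε, map_mul, map_pow, ← ha, (hcab.pow_left m₀).mul_zpow]
            _ = a ^ ((m₀ : ℤ) * m) * φ β ^ (m + ε * k) := by
              rw [← zpow_natCast, ← zpow_mul, ← zpow_mul, zpow_add, mul_assoc]
    obtain ⟨m, k, -, hk, e⟩ := orbit (orderOf n)
    rw [pow_orderOf_eq_one, one_mul, inv_one, mul_one] at e
    obtain ⟨i, rfl⟩ := hk.2 ho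
    set Q1 := (side hh).map φ with hQ1
    have haQ : a ∈ Q1 := Subgroup.mem_map_of_mem φ (rot_mem hh u)
    refine hβn (D.mem_map.1 (show φ β ∈ Q1 from ?_))
    have hzQ : φ β ^ (2 * i) ∈ Q1 := by
      rw [zpow_mul, zpow_two, ← map_mul, hβ2]
      exact zpow_mem (Subgroup.mem_map_of_mem φ (rot_mem hh h)) i
    have h9 : φ β ^ (2 * i) * φ β = a ^ (1 - m) := by
      rw [← zpow_add_one]
      calc φ β ^ (2 * i + 1) = (a ^ m)⁻¹ * (a ^ m * φ β ^ (2 * i + 1)) := by group
        _ = (a ^ m)⁻¹ * a := by rw [← e]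
        _ = a ^ (1 - m) := by rw [← zpow_neg, ← zpow_add_one, neg_add_eq_sub]
    exact (Q1.mul_mem_cancel_left hzQ).1 (h9 ▸ zpow_mem haQ (1 - m))

/-- The first factor is invariant under fusion. -/
theorem Amb.side_invariant (D : Amb π h q r φ P) (hcyc : Cyc R) {x : X}
    (hx : x ∈ (side D.halves.two_h).map φ) {g : X} (hgx : g * x * g⁻¹ ∈ (P : Subgroup X)) :
    g * x * g⁻¹ ∈ (side D.halves.two_h).map φ := by
  haveI : Fact (Nat.Prime 2) := ⟨Nat.prime_two⟩
  set hh := D.halves.two_h
  refine invariant_of_odd P _ ?_ ?_ x g hx ?_ hgx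
  · intro s hs x hx
    obtain ⟨s, rfl⟩ := D.exists_eq hs
    obtain ⟨w, hw, rfl⟩ := Subgroup.mem_map.1 hx
    rw [← map_inv, ← map_mul, ← map_mul, D.mem_map]
    obtain ⟨a, b, k, l⟩ := s
    rcases side_cases hh hw with e | e <;> rw [e] <;> cases k <;> cases l <;>
      simp [mem_side, El.mul_def, El.inv_def, twist, D.toPar.neg]
    all_goals first
      | linear_combination hh
      | linear_combination -hh
      | abel
  · intro T hT n hn ho x hxT hx
    obtain ⟨w, hw, rfl⟩ := Subgroup.mem_map.1 hx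
    obtain ⟨j, hj⟩ := IsPGroup.iff_orderOf.1 P.2 ⟨φ w, D.mem w⟩
    rw [Subgroup.orderOf_mk, orderOf_injective φ D.inj] at hj
    rcases side_cases hh hw with e | e
    · rw [e, orderOf_rot] at hj
      rw [e] at hxT ⊢
      obtain ⟨y, hy, hye⟩ := D.rot_keep hcyc hT.1 hn ho j w.i hj.dvd hxT
      exact hye ▸ Subgroup.mem_map_of_mem φ hy
    · obtain ⟨y, hy, hye⟩ := D.root_keep hT.1 hn ho hxT hw (by
        rw [e]
        simp [El.mul_def, twist, D.toPar.neg])
      exact hye ▸ Subgroup.mem_map_of_mem φ hy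
  · obtain ⟨w, -, rfl⟩ := Subgroup.mem_map.1 hx
    exact D.mem w

end Cfsg.Agent.Lib.G2Fong23
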