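import Cfsg.Agent.Lib.ProductFusion.Direct

/-!
# The trace of a normal closure in a Sylow subgroup (helper23)

A copy of helper78's `ProductFusion.inf_normalClosure_eq` under a weaker hypothesis on the Sylow subgroup.
-/

set_option autoImplicit false
set_option linter.style.haveILetI false

open Cfsg Subgroup
open scoped commutatorElement

namespace Cfsg.Agent.Lib.G2Fong23

open ProductFusion

universe u

variable {G : Type u} [Group G] [Finite G]

theorem inf_normalClosure_eq_of_le {P : Sylow 2 G} {S₁ S₂ : Subgroup G}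
    (h : ProductFusion.Setup P S₁ S₂) (hO : pPrimeCore 2 G = ⊥)
    (hP : (P : Subgroup G) ⊓ normalClosure (S₁ : Set G) ≤ S₁ ⊔ S₂) :
    (P : Subgroup G) ⊓ normalClosure (S₁ : Set G) = S₁ := by
  classical
  haveI : Fact (Nat.Prime 2) := ⟨Nat.prime_two⟩
  set N := normalClosure (S₁ : Set G) with hN
  haveI : N.Normal := normalClosure_normal
  have hcc : ∀ a ∈ N, ∀ b ∈ normalClosure (S₂ : Set G), a * b = b * a := fun a ha b hb =>
    commutatorElement_eq_one_iff_mul_comm.1 (mem_bot.1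
      (commutator_normalClosure_eq_bot hO h ▸ commutator_mem_commutator ha hb))
  refine le_antisymm ?_ (le_inf h.sc₁.1 subset_normalClosure)
  have hS₁n : S₂ ≤ normalizer (S₁ : Set G) := fun b hb =>
    centralizer_le_normalizer _ (mem_centralizer_iff.2 fun a ha => h.comm a ha b hb)
  have hsplit : ∀ x ∈ (P : Subgroup G) ⊓ N, ∃ a ∈ S₁, ∃ b ∈ S₂ ⊓ N, x = a * b := by
    intro x hx
    obtain ⟨a, ha, b, hb, rfl⟩ :=
      FTDeps.Row1330.mem_sup_iff_of_normalizes hS₁n (hP hx)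
    refine ⟨a, ha, b, ⟨hb, ?_⟩, rfl⟩
    have := mul_mem (inv_mem (subset_normalClosure ha : a ∈ N)) hx.2
    rwa [inv_mul_cancel_left] at this
  have hcen : ∀ b ∈ S₂ ⊓ N, ∀ a ∈ N, a * b = b * a := fun b hb a ha =>
    hcc a ha b (subset_normalClosure hb.1)
  set C : Subgroup ↥N := S₂.subgroupOf N with hC
  letI : CommGroup ↥C :=
    { (inferInstance : Group ↥C) with
      mul_comm := fun a b => Subtype.ext (Subtype.ext
        (hcen _ ⟨b.2, (b : ↥N).2⟩ _ (a : ↥N).2)) }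
  set Q : Subgroup ↥N := (P : Subgroup G).subgroupOf N with hQ
  have huniq : ∀ a ∈ S₁, ∀ a' ∈ S₁, ∀ b ∈ S₂, ∀ b' ∈ S₂, a * b = a' * b' → b = b' := by
    intro a ha a' ha' b hb b' hb' e
    have hm : a'⁻¹ * a ∈ S₁ ⊓ S₂ := by
      refine mem_inf.2 ⟨mul_mem (inv_mem ha') ha, ?_⟩
      rw [show a'⁻¹ * a = b' * b⁻¹ by
        rw [inv_mul_eq_iff_eq_mul, ← mul_assoc, ← e, mul_inv_cancel_right]]
      exact mul_mem hb' (inv_mem hb)
    rw [h.disj, mem_bot, inv_mul_eq_one] at hm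
    rw [hm] at e
    exact mul_left_cancel e
  have hex : ∀ q : ↥Q, ∃ c : ↥C, ∃ a ∈ S₁, ((q : ↥N) : G) = a * ((c : ↥N) : G) := fun q => by
    obtain ⟨a, ha, b, hb, e⟩ := hsplit _ ⟨q.2, (q : ↥N).2⟩
    exact ⟨⟨⟨b, hb.2⟩, hb.1⟩, a, ha, e⟩
  choose f a ha hfa using hex
  let φ : ↥Q →* ↥C := MonoidHom.mk' f fun q q' => by
    refine Subtype.ext (Subtype.ext ?_)
    refine huniq _ (ha (q * q')) (a q * a q') (mul_mem (ha q) (ha q')) _ (f (q * q')).2 _
      (mul_mem (f q).2 (f q').2) ?_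
    refine (hfa (q * q')).symm.trans ?_
    show ((q : ↥N) : G) * ((q' : ↥N) : G) =
      a q * a q' * (((f q : ↥N) : G) * ((f q' : ↥N) : G))
    rw [hfa q, hfa q', mul_assoc, ← mul_assoc ((f q : ↥N) : G),
      show ((f q : ↥N) : G) * a q' = a q' * ((f q : ↥N) : G) from
        (h.comm _ (ha q') _ (f q).2).symm]
    simp only [mul_assoc]
  have hφ : ∀ q : ↥Q, ((q : ↥N) : G) ∈ S₁ → φ q = 1 := fun q hq => by
    refine Subtype.ext (Subtype.ext ?_)
    exact huniq _ (ha q) _ hq _ (f q).2 _ (one_mem _) ((hfa q).symm.trans (mul_one _).symm)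
  have hφC : ∀ q : ↥Q, ((q : ↥N) : G) ∈ S₂ → ((φ q : ↥N) : G) = ((q : ↥N) : G) := fun q hq =>
    huniq _ (ha q) _ (one_mem _) _ (f q).2 _ hq ((hfa q).symm.trans (one_mul _).symm)
  -- the transfer kills `N`
  have hker : ∀ x : ↥N, MonoidHom.transfer φ x = 1 := by
    have hgen : ∀ x (hx : x ∈ N), MonoidHom.transfer φ ⟨x, hx⟩ = 1 := by
      intro x hx
      induction hx using closure_induction with
      | mem y hy =>
        have hyN : y ∈ N := Subgroup.subset_closure hy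
        obtain ⟨s, hs, hc⟩ := Group.mem_conjugatesOfSet_iff.1 hy
        obtain ⟨g, rfl⟩ := isConj_iff.1 hc
        letI : Fintype (Quotient (MulAction.orbitRel (zpowers (⟨g * s * g⁻¹, hyN⟩ : ↥N)) (↥N ⧸ Q))) :=
          Fintype.ofFinite _
        rw [MonoidHom.transfer_eq_prod_quotient_orbitRel_zpowers_quot]
        refine Finset.prod_eq_one fun q _ => hφ _ ?_
        have hPm : ((q.out.out⁻¹ : ↥N) : G) * (g * s * g⁻¹) ^ Function.minimalPeriod
            ((⟨g * s * g⁻¹, hyN⟩ : ↥N) • ·) q.out * ((q.out.out : ↥N) : G) ∈ (P : Subgroup G) :=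
          QuotientGroup.out_conj_pow_minimalPeriod_mem Q _ q.out
        show ((q.out.out⁻¹ : ↥N) : G) * (g * s * g⁻¹) ^ _ * ((q.out.out : ↥N) : G) ∈ S₁
        rw [conj_pow] at hPm ⊢
        rw [show ∀ w : G, ((q.out.out⁻¹ : ↥N) : G) * (g * w * g⁻¹) * ((q.out.out : ↥N) : G) =
          ((q.out.out : ↥N) : G)⁻¹ * g * w * (((q.out.out : ↥N) : G)⁻¹ * g)⁻¹ from fun w => by
          rw [InvMemClass.coe_inv]; group] at hPm ⊢
        exact h.sc₁.2 _ (pow_mem hs _) _ hPm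
      | one => exact map_one _
      | mul y z hy hz h1 h2 =>
        rw [show (⟨y * z, _⟩ : ↥N) = ⟨y, hy⟩ * ⟨z, hz⟩ from rfl, map_mul, h1, h2, one_mul]
      | inv y hy h1 =>
        rw [show (⟨y⁻¹, _⟩ : ↥N) = (⟨y, hy⟩ : ↥N)⁻¹ from rfl, map_inv, h1, inv_one]
    exact fun x => hgen x x.2
  obtain ⟨Q', hQ'⟩ := exists_sylow_of_normal P N
  have hidx : ¬ 2 ∣ Q.index := by rw [hQ, ← hQ']; exact Q'.not_dvd_index
  intro x hx
  obtain ⟨u, hu, b, hb, rfl⟩ := hsplit x hx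
  have hb1 : b = 1 := by
    set c : ↥N := ⟨b, hb.2⟩ with hc
    have hkey : ∀ (k : ℕ) (g₀ : ↥N), g₀⁻¹ * c ^ k * g₀ ∈ Q → g₀⁻¹ * c ^ k * g₀ = c ^ k := by
      intro k g₀ _
      have hcm : Commute g₀ c := Subtype.ext (hcen b hb _ g₀.2)
      rw [mul_assoc, ← (hcm.pow_right k).eq, inv_mul_cancel_left]
    have h1 := MonoidHom.transfer_eq_pow φ c hkey
    rw [hker] at h1
    have h2 := congrArg (fun w : ↥C => ((w : ↥N) : G)) h1.symm
    rw [hφC _ (by show b ^ Q.index ∈ S₂; exact pow_mem hb.1 _)] at h2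
    have h3 : b ^ Q.index = 1 := h2
    obtain ⟨k, hk⟩ := (P.2.to_le h.sc₂.1) ⟨b, hb.1⟩
    have h4 : orderOf b ∣ 2 ^ k := orderOf_dvd_of_pow_eq_one (congrArg Subtype.val hk)
    refine orderOf_eq_one_iff.1 (Nat.eq_one_of_dvd_coprimes ?_ h4 (orderOf_dvd_of_pow_eq_one h3))
    exact Nat.Coprime.pow_left _ ((Nat.prime_two.coprime_iff_not_dvd).2 hidx)
  rw [hb1, mul_one]; exact hu

end Cfsg.Agent.Lib.G2Fong23
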