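import Cfsg.Agent.Lib.G2Fong23.Closed
import Cfsg.Agent.Lib.G2Fong23.Product
import Cfsg.Agent.Lib.RankOneClosed59.Main
import Cfsg.Agent.Lib.Cores.Pi
import Cfsg.Agent.S1250

/-!
# The two components (helper23)
-/

set_option autoImplicit false
set_option linter.style.haveILetI false
set_option linter.unusedSectionVars false

namespace Cfsg.Agent.Lib.G2Fong23

open Subgroup G2Fusion23
open scoped commutatorElement

variable {R : Type*} [CommRing R] {π : R →+* ZMod 2} {h q : R} {r : ℕ}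

/-- The even elements are products. -/
theorem Par.decomp (D : Par π h q r) (hh : h + h = 0) {x : El R} (hx : x ∈ even π) :
    ∃ a b : El R, a ∈ side hh ∧ theta b ∈ side hh ∧ x = a * b := by
  have flat : ∀ x : El R, x ∈ even π → x.k = false → x.l = false →
      ∃ a b : El R, a ∈ side hh ∧ theta b ∈ side hh ∧ x = a * b := by
    rintro ⟨a, b, k, l⟩ hx rfl rfl
    rw [mem_even] at hx
    obtain ⟨c, hc⟩ := D.ker (a - b) (by rw [map_sub, hx, sub_self])
    refine ⟨⟨a - c, a - c, false, false⟩, ⟨c, -c, false, false⟩, rot_mem hh _,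
      ⟨by simp [theta_apply], by simp [theta_apply]⟩, ?_⟩
    simp [El.mul_def, twist]
    linear_combination -hc
  obtain ⟨e1, he1⟩ : ∃ e : El R, e = ⟨0, h, true, true⟩ := ⟨_, rfl⟩
  obtain ⟨e2, he2⟩ : ∃ e : El R, e = ⟨0, h, false, true⟩ := ⟨_, rfl⟩
  have h1 : e1 ∈ side hh := he1 ▸ ⟨rfl, by simp⟩
  have h2 : theta e2 ∈ side hh := he2 ▸ ⟨by simp [theta_apply], by simp [theta_apply, D.neg]⟩
  have he2e : e2 ∈ even π := D.theta_even.1 (D.side_even hh h2)
  obtain ⟨a, b, k, l⟩ := x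
  cases k <;> cases l
  · exact flat _ hx rfl rfl
  · obtain ⟨u, v, hu, hv, e⟩ := flat (⟨a, b, false, true⟩ * e2⁻¹) (mul_mem hx (inv_mem he2e))
      (by simp [he2, El.mul_def, El.inv_def]) (by simp [he2, El.mul_def, El.inv_def])
    exact ⟨u, v * e2, hu, by rw [map_mul]; exact mul_mem hv h2, by rw [← mul_assoc, ← e, inv_mul_cancel_right]⟩
  · obtain ⟨u, v, hu, hv, e⟩ := flat (⟨a, b, true, false⟩ * (e1 * e2)⁻¹)
      (mul_mem hx (inv_mem (mul_mem (D.side_even hh h1) he2e)))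
      (by simp [he1, he2, El.mul_def, El.inv_def]) (by simp [he1, he2, El.mul_def, El.inv_def])
    refine ⟨u * e1, v * e2, mul_mem hu h1, by rw [map_mul]; exact mul_mem hv h2, ?_⟩
    rw [mul_assoc u e1, ← mul_assoc e1, D.side_comm hh h1 hv, mul_assoc, ← mul_assoc u v, ← e,
      inv_mul_cancel_right]
  · obtain ⟨u, v, hu, hv, e⟩ := flat (⟨a, b, true, true⟩ * e1⁻¹) (mul_mem hx (inv_mem (D.side_even hh h1)))
      (by simp [he1, El.mul_def, El.inv_def]) (by simp [he1, El.mul_def, El.inv_def])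
    refine ⟨u * e1, v, mul_mem hu h1, hv, ?_⟩
    rw [mul_assoc, D.side_comm hh h1 hv, ← mul_assoc, ← e, inv_mul_cancel_right]

variable {X : Type*} [Group X] [Finite X] [Finite R] {φ : El R →* X} {P : Sylow 2 X}

/-- The set-up in the centraliser modulo its core. -/
structure Top (π : R →+* ZMod 2) (h q : R) (r : ℕ) (φ : El R →* X) (P : Sylow 2 X) : Prop
    extends Amb π h q r φ P where
  cyc : Cyc R
  gen : ∀ v : R, ∃ m : ℕ, v = m • 1
  core : Cfsg.pPrimeCore 2 X = ⊥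
  one : ∀ x : El R, x * x = 1 → x ≠ 1 → x ∈ even π → x ≠ ⟨h, h, false, false⟩ →
    ∃ u : X, u * φ x * u⁻¹ = φ ⟨h, 0, false, false⟩

/-- A component. -/
def comp (hh : h + h = 0) (φ : El R →* X) : Subgroup X :=
  normalClosure (((side hh).map φ : Subgroup X) : Set X)

instance comp_normal (hh : h + h = 0) (φ : El R →* X) : (comp hh φ).Normal := normalClosure_normal

theorem Top.z_order (D : Top π h q r φ P) : orderOf (φ ⟨h, h, false, false⟩) = 2 :=
  orderOf_eq_prime (by rw [pow_two, D.z_sq]) D.z_ne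

theorem side_le_comp (hh : h + h = 0) {x : El R} (hx : x ∈ side hh) : φ x ∈ comp hh φ :=
  subset_normalClosure (Subgroup.mem_map_of_mem φ hx)

theorem Top.z_mem_comp (D : Top π h q r φ P) : φ ⟨h, h, false, false⟩ ∈ comp D.halves.two_h φ :=
  side_le_comp _ (rot_mem _ h)

theorem Top.comp_le (D : Top π h q r φ P) {K : Subgroup X} [K.Normal]
    (hK : (P : Subgroup X) ⊓ K = (even π).map φ) : comp D.halves.two_h φ ≤ K :=
  normalClosure_le_normal fun x hx => by
    obtain ⟨w, hw, rfl⟩ := Subgroup.mem_map.1 hx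
    exact (hK ▸ D.mem_map.2 (D.toPar.side_even _ hw) : φ w ∈ (P : Subgroup X) ⊓ K).2

theorem Amb.mem_comp_theta_map (D : Amb π h q r φ P) (hh : h + h = 0) {x : El R} :
    φ x ∈ (side hh).map (φ.comp theta) ↔ theta x ∈ side hh := by
  rw [← Subgroup.mem_map_iff_mem (f := φ.comp theta) (D.inj.comp theta_injective)]
  rw [MonoidHom.comp_apply, theta_theta]

theorem Amb.map_even_theta (D : Amb π h q r φ P) : (even π).map (φ.comp theta) = (even π).map φ := by
  rw [← Subgroup.map_map]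
  congr 1
  ext x
  rw [← theta_theta x, Subgroup.mem_map_iff_mem theta_injective, theta_theta, D.toPar.theta_even]

theorem Top.comp_theta (D : Top π h q r φ P) : Top π h q r (φ.comp theta) P where
  toAmb := D.toAmb.comp_theta
  cyc := D.cyc
  gen := D.gen
  core := D.core
  one x hx hx1 he hxz := by
    have hz := D.toPar.theta_z
    obtain ⟨u, hu⟩ := D.one (theta x) (by rw [← map_mul, hx, map_one])
      (fun e => hx1 (theta_injective (e.trans (map_one theta).symm))) (D.toPar.theta_even.2 he)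
      (fun e => hxz (theta_injective (e.trans hz.symm)))
    refine ⟨u, ?_⟩
    rw [MonoidHom.comp_apply, hu, MonoidHom.comp_apply]
    simp [theta_apply]

/-- The facts on the two components. -/
theorem Top.components (D : Top π h q r φ P) :
    (P : Subgroup X) ⊓ comp D.halves.two_h φ = (side D.halves.two_h).map φ ∧
    comp D.halves.two_h φ ⊓ comp D.halves.two_h (φ.comp theta) ≤ zpowers (φ ⟨h, h, false, false⟩) ∧
    ∀ a ∈ comp D.halves.two_h φ, ∀ b ∈ comp D.halves.two_h (φ.comp theta),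
      ⁅a, b⁆ ∈ zpowers (φ ⟨h, h, false, false⟩) := by
  haveI : Fact (Nat.Prime 2) := ⟨Nat.prime_two⟩
  set hh := D.halves.two_h
  obtain ⟨K, hKn, hK, -⟩ := D.exists_even_subgroup
  set z := φ ⟨h, h, false, false⟩ with hzdef
  have hzc : z ∈ Subgroup.center X := Subgroup.mem_center_iff.2 D.central
  haveI : (zpowers z).Normal := ⟨fun y hy g => by
    obtain ⟨i, rfl⟩ := mem_zpowers_iff.1 hy
    rw [Subgroup.mem_center_iff.1 (zpow_mem hzc i) g, mul_inv_cancel_right]
    exact zpow_mem (mem_zpowers z) i⟩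
  set f := QuotientGroup.mk' (zpowers z) with hf
  set Q1 := (side hh).map φ with hQ1
  set Q2 := (side hh).map (φ.comp theta) with hQ2
  set P' := P.mapSurjective (QuotientGroup.mk'_surjective (zpowers z)) with hP'
  have hmem2 : ∀ x : El R, φ x ∈ Q2 ↔ theta x ∈ side hh := fun x => D.toAmb.mem_comp_theta_map hh
  have hzQ1 : zpowers z ≤ Q1 := zpowers_le.2 (Subgroup.mem_map_of_mem φ (rot_mem hh h))
  have hzQ2 : zpowers z ≤ Q2 := zpowers_le.2 ((hmem2 _).2 (by rw [D.toPar.theta_z]; exact rot_mem hh h))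
  have hQP : Q1 ≤ (P : Subgroup X) ∧ Q2 ≤ (P : Subgroup X) :=
    ⟨fun x hx => by obtain ⟨w, -, rfl⟩ := Subgroup.mem_map.1 hx; exact D.mem w,
     fun x hx => by obtain ⟨w, -, rfl⟩ := Subgroup.mem_map.1 hx; exact D.mem _⟩
  have hcomm : ∀ a ∈ Q1, ∀ b ∈ Q2, a * b = b * a := fun a ha b hb => by
    obtain ⟨x, hx, rfl⟩ := Subgroup.mem_map.1 ha
    obtain ⟨y, rfl⟩ := D.exists_eq (hQP.2 hb)
    rw [← map_mul, ← map_mul, D.toPar.side_comm hh hx ((hmem2 y).1 hb)]
  have hinf : ∀ x, x ∈ Q1 → x ∈ Q2 → x ∈ zpowers z := fun x hx hx' => by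
    obtain ⟨w, hw, rfl⟩ := Subgroup.mem_map.1 hx
    rcases D.toPar.side_inf hh hw ((hmem2 w).1 hx') with e | e <;> rw [e]
    · rw [map_one]; exact one_mem _
    · exact mem_zpowers z
  have hsetup : ProductFusion.Setup P' (Q1.map f) (Q2.map f) := by
    refine ⟨?_, ?_, ?_, ?_⟩
    · rw [hP', Sylow.coe_mapSurjective]
      exact S1250.result P Q1 ⟨hQP.1, fun x hx g hg => D.side_invariant D.cyc hx hg⟩ _
    · rw [hP', Sylow.coe_mapSurjective]
      exact S1250.result P Q2 ⟨hQP.2, fun x hx g hg => D.toAmb.comp_theta.side_invariant D.cyc hx hg⟩ _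
    · rintro _ ⟨a, ha, rfl⟩ _ ⟨b, hb, rfl⟩
      rw [← map_mul, ← map_mul, hcomm a ha b hb]
    · rw [eq_bot_iff]
      rintro _ ⟨⟨a, ha, rfl⟩, b, hb, hab⟩
      have h1 : b⁻¹ * a ∈ zpowers z := QuotientGroup.eq.1 hab
      have h2 : a ∈ Q2 := by
        have := mul_mem hb (hzQ2 h1)
        rwa [mul_inv_cancel_left] at this
      exact mem_bot.2 ((QuotientGroup.eq_one_iff a).2 (hinf a ha h2))
  have hO : Cfsg.pPrimeCore 2 (X ⧸ zpowers z) = ⊥ := by
    refine RankOneClosed59.no_odd_normal (fun N hN hodd => ?_) D.z_order hzc _ inferInstance ?_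
    · haveI := hN
      exact le_bot_iff.1 (D.core ▸ Cores.le_pPrimeCore (Nat.coprime_two_right.2 hodd))
    · exact Nat.coprime_two_right.1 (Cores.pPrimeCore_coprime 2)
  set N1 := normalClosure ((Q1.map f : Subgroup _) : Set (X ⧸ zpowers z)) with hN1
  set N2 := normalClosure ((Q2.map f : Subgroup _) : Set (X ⧸ zpowers z)) with hN2
  have hmap1 : (comp hh φ).map f = N1 := by
    rw [comp, Subgroup.map_normalClosure _ f (QuotientGroup.mk'_surjective _), hN1, hQ1, Subgroup.coe_map f]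
  have hmap2 : (comp hh (φ.comp theta)).map f = N2 := by
    rw [comp, Subgroup.map_normalClosure _ f (QuotientGroup.mk'_surjective _), hN2, hQ2, Subgroup.coe_map f]
  have hsplit : ∀ x ∈ (P : Subgroup X), x ∈ K → f x ∈ Q1.map f ⊔ Q2.map f := by
    intro x hxP hxK
    obtain ⟨w, hw, rfl⟩ := Subgroup.mem_map.1 (hK ▸ mem_inf.2 ⟨hxP, hxK⟩ : x ∈ (even π).map φ)
    obtain ⟨a, b, ha, hb, rfl⟩ := D.toPar.decomp hh hw
    rw [map_mul, map_mul]
    exact mul_mem (mem_sup_left (mem_map_of_mem f (mem_map_of_mem φ ha)))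
      (mem_sup_right (mem_map_of_mem f ((hmem2 b).2 hb)))
  have hzK : zpowers z ≤ K := zpowers_le.2
    (hK ▸ D.mem_map.2 (by rw [mem_even]) : z ∈ (P : Subgroup X) ⊓ K).2
  have hback : ∀ (Y : Subgroup X), zpowers z ≤ Y → ∀ x, f x ∈ Y.map f → x ∈ Y := by
    rintro Y hY x ⟨y, hy, e⟩
    have h1 : y⁻¹ * x ∈ zpowers z := QuotientGroup.eq.1 e
    have := mul_mem hy (hY h1)
    rwa [mul_inv_cancel_left] at this
  have hP'le : (P' : Subgroup (X ⧸ zpowers z)) ⊓ N1 ≤ Q1.map f ⊔ Q2.map f := by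
    rw [hP', Sylow.coe_mapSurjective, ← hmap1]
    rintro _ ⟨⟨x, hxP, rfl⟩, hx⟩
    exact hsplit x hxP (D.comp_le hK (hback _ (zpowers_le.2 D.z_mem_comp) x hx))
  have e1 := inf_normalClosure_eq_of_le hsetup hO hP'le
  have hP'le2 : (P' : Subgroup (X ⧸ zpowers z)) ⊓ N2 ≤ Q2.map f ⊔ Q1.map f := by
    rw [hP', Sylow.coe_mapSurjective, ← hmap2, sup_comm]
    rintro _ ⟨⟨x, hxP, rfl⟩, hx⟩
    exact hsplit x hxP (D.comp_theta.comp_le (hK.trans D.toAmb.map_even_theta.symm) (hback _ (zpowers_le.2 (by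
      have := D.comp_theta.z_mem_comp
      rwa [MonoidHom.comp_apply, D.toPar.theta_z] at this)) x hx))
  have e2 := inf_normalClosure_eq_of_le hsetup.symm hO hP'le2
  have hcc := ProductFusion.commutator_normalClosure_eq_bot hO hsetup
  have hN12 : N1 ⊓ N2 = ⊥ := by
    haveI h1 : N1.Normal := normalClosure_normal
    haveI h2 : N2.Normal := normalClosure_normal
    have htriv : (P' : Subgroup (X ⧸ zpowers z)) ⊓ (N1 ⊓ N2) = ⊥ := by
      rw [eq_bot_iff, ← hsetup.disj]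
      rintro x ⟨hx, hx1, hx2⟩
      exact ⟨e1.le ⟨hx, hx1⟩, e2.le ⟨hx, hx2⟩⟩
    refine le_bot_iff.1 (hO ▸ Cores.le_pPrimeCore (Nat.coprime_two_right.2 ?_))
    obtain ⟨T, hT⟩ := ProductFusion.exists_sylow_of_normal P' (N1 ⊓ N2)
    have hT1 : Nat.card T = 1 := by
      show Nat.card (T : Subgroup ↥(N1 ⊓ N2)) = 1
      rw [hT, Subgroup.card_eq_one, ← Subgroup.inf_subgroupOf_right, htriv, bot_subgroupOf]
    rw [← T.toSubgroup.card_mul_index]
    have := T.not_dvd_index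
    exact (show Odd (Nat.card (T : Subgroup ↥(N1 ⊓ N2))) by rw [show Nat.card (T : Subgroup ↥(N1 ⊓ N2)) = 1 from hT1]; exact odd_one).mul (Nat.odd_iff.2 (by omega))
  refine ⟨?_, fun x hx => ?_, fun a ha b hb => ?_⟩
  · refine le_antisymm (fun x hx => hback Q1 hzQ1 x ?_) (le_inf hQP.1 subset_normalClosure)
    rw [← e1, hP', Sylow.coe_mapSurjective]
    exact ⟨mem_map_of_mem f hx.1, hmap1.le (mem_map_of_mem f hx.2)⟩
  · exact (QuotientGroup.eq_one_iff x).1 (mem_bot.1 (hN12 ▸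
      (⟨hmap1.le (mem_map_of_mem f hx.1), hmap2.le (mem_map_of_mem f hx.2)⟩ : f x ∈ N1 ⊓ N2)))
  · refine (QuotientGroup.eq_one_iff _).1 (mem_bot.1 (hcc ▸ ?_))
    show f ⁅a, b⁆ ∈ _
    rw [map_commutatorElement]
    exact commutator_mem_commutator (hmap1.le (mem_map_of_mem f ha)) (hmap2.le (mem_map_of_mem f hb))

theorem Top.z_mem_comp' (D : Top π h q r φ P) :
    φ ⟨h, h, false, false⟩ ∈ comp D.halves.two_h (φ.comp theta) := by
  have := D.comp_theta.z_mem_comp
  rwa [MonoidHom.comp_apply, D.toPar.theta_z] at this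

/-- A map to the centre killing a Sylow subgroup and with 2-group image kills everything. -/
theorem hom_eq_one {Y : Type*} [Group Y] [Finite Y] (T : Sylow 2 Y) {A : Type*} [Group A] (χ : Y →* A)
    (hA : ∀ y, χ y * χ y = 1) (hT : ∀ y ∈ (T : Subgroup Y), χ y = 1) (y : Y) : χ y = 1 := by
  have : χ.ker = ⊤ := eq_top_of_sylow_of_odd χ.ker T (fun y hy => hT y hy) fun n hn => by
    obtain ⟨k, hk⟩ := hn
    have h1 : χ n ^ orderOf n = 1 := by rw [← map_pow, pow_orderOf_eq_one, map_one]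
    rw [hk, pow_succ, pow_mul, pow_two, hA, one_pow, one_mul] at h1
    exact h1
  exact MonoidHom.mem_ker.1 (this ▸ mem_top y)

/-- The components commute. -/
theorem Top.comp_commute (D : Top π h q r φ P) {a : X} (ha : a ∈ comp D.halves.two_h φ) {b : X}
    (hb : b ∈ comp D.halves.two_h (φ.comp theta)) : a * b = b * a := by
  haveI : Fact (Nat.Prime 2) := ⟨Nat.prime_two⟩
  set hh := D.halves.two_h
  set z := φ ⟨h, h, false, false⟩ with hzdef
  obtain ⟨hP1, -, hc⟩ := D.components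
  obtain ⟨hP2, -, -⟩ := D.comp_theta.components
  have hzz : ∀ c ∈ zpowers z, (∀ g : X, g * c = c * g) ∧ c * c = 1 := by
    intro c hc
    obtain ⟨i, rfl⟩ := mem_zpowers_iff.1 hc
    refine ⟨fun g => ((show Commute g z from D.central g).zpow_right i).eq, ?_⟩
    rw [← (Commute.refl z).mul_zpow, D.z_sq, one_zpow]
  -- for fixed `a`, `y ↦ ⁅a, y⁆` is a homomorphism
  have key : ∀ a ∈ comp hh φ, (∀ y ∈ (side hh).map (φ.comp theta), ⁅a, y⁆ = 1) →
      ∀ y ∈ comp hh (φ.comp theta), ⁅a, y⁆ = 1 := by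
    intro a ha hker y hy
    let χ : ↥(comp hh (φ.comp theta)) →* X := MonoidHom.mk' (fun y => ⁅a, (y : X)⁆) fun y y' => by
      simp only [Subgroup.coe_mul, commutatorElement_def]
      have h1 := (hzz _ (hc a ha y' y'.2)).1 ((y : X))
      rw [commutatorElement_def] at h1
      calc a * ((y : X) * y') * a⁻¹ * ((y : X) * y')⁻¹
          = a * y * a⁻¹ * ((a * y' * a⁻¹ * (y' : X)⁻¹) * (y : X)⁻¹) := by group
        _ = a * y * a⁻¹ * ((y : X)⁻¹ * (a * y' * a⁻¹ * (y' : X)⁻¹)) := by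
            rw [((show Commute (y : X) _ from h1).inv_left).eq]
        _ = _ := by group
    obtain ⟨T, hT⟩ := ProductFusion.exists_sylow_of_normal P (comp hh (φ.comp theta))
    refine hom_eq_one T χ (fun w => (hzz _ (hc a ha w w.2)).2) (fun w hw => ?_) ⟨y, hy⟩
    rw [hT, mem_subgroupOf] at hw
    exact hker w (hP2 ▸ mem_inf.2 ⟨hw, w.2⟩)
  have hQ : ∀ x ∈ (side hh).map φ, ∀ y ∈ comp hh (φ.comp theta), ⁅x, y⁆ = 1 := by
    intro x hx
    refine key x (subset_normalClosure hx) fun y hy => ?_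
    obtain ⟨x', hx', rfl⟩ := Subgroup.mem_map.1 hx
    obtain ⟨y', hy', rfl⟩ := Subgroup.mem_map.1 hy
    rw [commutatorElement_eq_one_iff_mul_comm, MonoidHom.comp_apply, ← map_mul, ← map_mul,
      D.toPar.side_comm hh hx' (by rw [theta_theta]; exact hy')]
  rw [← commutatorElement_eq_one_iff_mul_comm]
  refine key a ha (fun y hy => ?_) b hb
  have hy' : y ∈ comp hh (φ.comp theta) := subset_normalClosure hy
  let χ : ↥(comp hh φ) →* X := MonoidHom.mk' (fun x => ⁅(x : X), y⁆) fun x x' => by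
    simp only [Subgroup.coe_mul, commutatorElement_def]
    have h1 := (hzz _ (hc x' x'.2 y hy')).1 (x : X)
    rw [commutatorElement_def] at h1
    calc (x : X) * x' * y * ((x : X) * x')⁻¹ * y⁻¹
        = ((x : X) * ((x' : X) * y * (x' : X)⁻¹ * y⁻¹)) * y * (x : X)⁻¹ * y⁻¹ := by group
      _ = (((x' : X) * y * (x' : X)⁻¹ * y⁻¹) * x) * y * (x : X)⁻¹ * y⁻¹ := by rw [h1]
      _ = ((x' : X) * y * (x' : X)⁻¹ * y⁻¹) * ((x : X) * y * (x : X)⁻¹ * y⁻¹) := by group
      _ = ((x : X) * y * (x : X)⁻¹ * y⁻¹) * ((x' : X) * y * (x' : X)⁻¹ * y⁻¹) := by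
          have h2 := (hzz _ (hc x' x'.2 y hy')).1 ((x : X) * y * (x : X)⁻¹ * y⁻¹)
          rw [commutatorElement_def] at h2
          exact h2.symm
  obtain ⟨T, hT⟩ := ProductFusion.exists_sylow_of_normal P (comp hh φ)
  refine hom_eq_one T χ (fun w => (hzz _ (hc w w.2 y hy')).2) (fun w hw => ?_) ⟨a, ha⟩
  rw [hT, mem_subgroupOf] at hw
  exact hQ w (hP1 ▸ mem_inf.2 ⟨hw, w.2⟩) y hy'

end Cfsg.Agent.Lib.G2Fong23
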