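import Cfsg.Agent.Lib.G2Fong23.Mover
import Cfsg.Agent.Lib.PGroups.SLTwoThree

/-!
# The factors `SL(2, q)` (helper23)
-/

set_option autoImplicit false
set_option linter.style.haveILetI false
set_option linter.unusedSectionVars false

namespace Cfsg.Agent.Lib.G2Fong23

open Subgroup G2Fusion23
open scoped commutatorElement MatrixGroups

/-- A subgroup containing both a `2 ^ a`-th and an odd power contains the element. -/
theorem mem_of_two_pows {G : Type*} [Group G] (H : Subgroup G) {c : G} {a m : ℕ} (hm : Odd m)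
    (h1 : c ^ 2 ^ a ∈ H) (h2 : c ^ m ∈ H) : c ∈ H := by
  have hg : Nat.gcd (2 ^ a) m = 1 := (Nat.coprime_two_left.2 hm).pow_left a
  have key := Nat.gcd_eq_gcd_ab (2 ^ a) m
  rw [hg] at key
  rw [← zpow_one c, show (1 : ℤ) = _ from key, zpow_add, zpow_mul, zpow_mul, zpow_natCast, zpow_natCast]
  exact mul_mem (zpow_mem h1 _) (zpow_mem h2 _)

variable {R : Type*} [CommRing R] {π : R →+* ZMod 2} {h q : R} {r : ℕ}
theorem Par.double_small (D : Par π h q r) (h2 : (1 : R) + 1 = h) (u : R) : u + u = 0 ∨ u + u = h := by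
  rw [show u + u = ((1 : R) + 1) * u by ring, h2]
  exact D.h_mul u

/-- The factor is abelian modulo the centre when `2 = h`. -/
theorem Par.side_comm_mod (D : Par π h q r) (hh : h + h = 0) (h2 : (1 : R) + 1 = h) {a b : El R}
    (ha : a ∈ side hh) (hb : b ∈ side hh) :
    a * b * a⁻¹ * b⁻¹ = 1 ∨ a * b * a⁻¹ * b⁻¹ = ⟨h, h, false, false⟩ := by
  rcases side_cases hh ha with e | e <;> rcases side_cases hh hb with e' | e' <;> rw [e, e'] <;>
    simp [El.mul_def, El.inv_def, El.one_def, twist, D.neg]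
  all_goals
    rcases D.double_small h2 a.i with u | u <;> rcases D.double_small h2 b.i with v | v
  all_goals first
    | (left; constructor <;> first | linear_combination u | linear_combination u + hh | linear_combination -v | linear_combination -v + hh | linear_combination -v - hh | linear_combination u - v | linear_combination u - v + hh | linear_combination u - v + 2 * hh | linear_combination u - v - hh | linear_combination -v + 2 * hh)
    | (right; constructor <;> first | linear_combination u | linear_combination u + hh | linear_combination -v | linear_combination -v + hh | linear_combination -v - hh | linear_combination u - v | linear_combination u - v + hh)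

variable {X : Type*} [Group X] [Finite X] [Finite R] {φ : El R →* X} {P : Sylow 2 X}

/-- A factor. -/
structure Factor (h : R) (hh : h + h = 0) (φ : El R →* X) (P : Sylow 2 X) (L : Subgroup X) : Prop where
  normal : L.Normal
  cent : ∀ a ∈ L, ∀ b ∈ comp hh (φ.comp theta), a * b = b * a
  side_le : (side hh).map φ ≤ L
  trace : ∀ x ∈ (P : Subgroup X), x ∈ L → x ∈ (side hh).map φ
  iso : ∃ (F : Type) (_ : Field F) (_ : Fintype F), Odd (Fintype.card F) ∧
    Nonempty (↥L ≃* Matrix.SpecialLinearGroup (Fin 2) F)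
  le_comm : L ≤ _root_.commutator X

/-- An element of odd order centralising modulo `Z` centralises. -/
theorem Top.comm_of_near (D : Top π h q r φ P) {c x : X} (hc : Odd (orderOf c))
    (e : Eqv h φ (c * x * c⁻¹) x) : c * x = x * c := by
  set ε := c * x * c⁻¹ * x⁻¹ with hε
  obtain ⟨hεc, hε2⟩ := D.zed_central e
  have hk : ∀ k : ℕ, c ^ k * x * (c ^ k)⁻¹ = ε ^ k * x := by
    intro k
    induction k with
    | zero => simp
    | succ k ih =>
      rw [show c ^ (k + 1) * x * (c ^ (k + 1))⁻¹ = c * (c ^ k * x * (c ^ k)⁻¹) * c⁻¹ by rw [pow_succ']; group,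
        ih, show c * (ε ^ k * x) * c⁻¹ = c * ε ^ k * c⁻¹ * (c * x * c⁻¹) by group,
        ((show Commute c ε from hεc c).pow_right k).eq, mul_inv_cancel_right, pow_succ, mul_assoc (ε ^ k)]
      congr 1
      rw [hε]; group
  have h1 := hk (orderOf c)
  rw [pow_orderOf_eq_one, one_mul, inv_one, mul_one] at h1
  obtain ⟨o, ho⟩ := hc
  rw [ho, pow_succ, pow_mul, pow_two, hε2, one_pow, one_mul, eq_comm, mul_eq_right, hε,
    mul_inv_eq_one, mul_inv_eq_iff_eq_mul] at h1
  exact h1

theorem Top.pow_near (D : Top π h q r φ P) {c x : X} (e : Eqv h φ (c * x * c⁻¹) x) (n : ℕ) :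
    Eqv h φ (c ^ n * x * (c ^ n)⁻¹) x := by
  induction n with
  | zero => exact Eqv.of_eq (by simp)
  | succ n ih =>
    rw [show c ^ (n + 1) * x * (c ^ (n + 1))⁻¹ = c * (c ^ n * x * (c ^ n)⁻¹) * c⁻¹ by rw [pow_succ']; group]
    exact (Eqv.conj D c ih).trans e

theorem Top.commutator_le_index_two (_D : Top π h q r φ P) {K : Subgroup X} (hK : K.index = 2) :
    _root_.commutator X ≤ K := by
  rw [_root_.commutator_def, Subgroup.commutator_le]
  intro a _ b _
  rw [commutatorElement_def, Subgroup.mul_mem_iff_of_index_two hK, Subgroup.mul_mem_iff_of_index_two hK,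
    Subgroup.mul_mem_iff_of_index_two hK, inv_mem_iff, inv_mem_iff]
  tauto

/-- The trace of the centraliser of the other component. -/
theorem Top.trace_cent (D : Top π h q r φ P) {x : El R} (hx : x ∈ even π)
    (hc : ∀ b ∈ comp D.halves.two_h (φ.comp theta), φ x * b = b * φ x) : x ∈ side D.halves.two_h := by
  set hh := D.halves.two_h
  obtain ⟨a, b, ha, hb, rfl⟩ := D.toPar.decomp hh hx
  have hz : theta b = 1 ∨ theta b = ⟨h, h, false, false⟩ := by
    refine D.toPar.side_center hh hb fun y hy => theta_injective ?_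
    rw [map_mul, map_mul, theta_theta]
    have h1 : φ (a * b) * φ (theta y) = φ (theta y) * φ (a * b) :=
      hc _ (by rw [← MonoidHom.comp_apply]; exact side_le_comp hh hy)
    rw [← map_mul, ← map_mul, D.inj.eq_iff] at h1
    have h2 := D.toPar.side_comm hh ha (y := theta y) (by rw [theta_theta]; exact hy)
    rw [← mul_assoc (theta y), ← h2, mul_assoc, mul_assoc] at h1
    exact mul_left_cancel h1
  refine mul_mem ha (D.toPar.zmem hh ?_)
  rcases hz with e | e
  · exact Or.inl (theta_injective (e.trans (map_one theta).symm))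
  · exact Or.inr (theta_injective (e.trans D.toPar.theta_z.symm))

/-- The factor in the perfect case. -/
theorem Top.factor_perfect (D : Top π h q r φ P)
    (hperf : ⁅comp D.halves.two_h φ, comp D.halves.two_h φ⁆ = comp D.halves.two_h φ) :
    Factor h D.halves.two_h φ P (comp D.halves.two_h φ) where
  normal := comp_normal _ _
  cent a ha b hb := D.comp_commute ha hb
  side_le := subset_normalClosure
  trace x hx hxL := D.components.1 ▸ mem_inf.2 ⟨hx, hxL⟩
  iso := D.perfect_iso hperf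
  le_comm := by rw [← hperf]; exact commutator_mono le_top le_top

/-- The factor in the normal case. -/
theorem Top.factor_normal (D : Top π h q r φ P)
    (hN : comp D.halves.two_h φ = (side D.halves.two_h).map φ) :
    ∃ L, Factor h D.halves.two_h φ P L := by
  haveI : Fact (Nat.Prime 2) := ⟨Nat.prime_two⟩
  set hh := D.halves.two_h
  set Q := (side hh).map φ with hQ
  set Y₂ := comp hh (φ.comp theta) with hY₂
  haveI hQn : Q.Normal := hN ▸ comp_normal hh φ
  obtain ⟨K, hKn, hK, hKi⟩ := D.exists_even_subgroup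
  set z := φ ⟨h, h, false, false⟩ with hz
  set jj := φ ⟨q, q, false, false⟩ with hj
  obtain ⟨nJ, -, -, hjj⟩ := D.not_class
  have hjQ : jj ∈ Q := mem_map_of_mem φ (rot_mem hh q)
  have hzQ : z ∈ Q := mem_map_of_mem φ (rot_mem hh h)
  have hQY₂ : ∀ a ∈ Q, ∀ b ∈ Y₂, a * b = b * a := fun a ha b hb =>
    D.comp_commute (hN.ge ha) hb
  have h2 := D.two_eq hN
  have hQab : ∀ a ∈ Q, ∀ b ∈ Q, Eqv h φ (a * b * a⁻¹) b := by
    intro a ha b hb
    obtain ⟨a', ha', rfl⟩ := Subgroup.mem_map.1 ha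
    obtain ⟨b', hb', rfl⟩ := Subgroup.mem_map.1 hb
    rw [Eqv, ← map_inv, ← map_mul, ← map_mul, ← map_inv, ← map_mul, D.zed_image]
    exact D.toPar.side_comm_mod hh h2 ha' hb'
  -- the two-elements of `K` fix the classes
  have hKfix : ∀ u ∈ K, ∀ i : ℕ, u ^ 2 ^ i = 1 → ∀ v ∈ Q, Eqv h φ (u * v * u⁻¹) v := by
    intro u huK i hu v hv
    obtain ⟨k, hk⟩ := ProductFusion.exists_conj_le P (IsPGroup.of_card_dvd_pow (n := i) (by
      rw [Nat.card_zpowers]; exact orderOf_dvd_of_pow_eq_one hu) : IsPGroup 2 ↥(zpowers u))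
    obtain ⟨m, hm, hme⟩ := Subgroup.mem_map.1
      (hK ▸ mem_inf.2 ⟨hk u (mem_zpowers u), hKn.conj_mem u huK k⟩ : k * u * k⁻¹ ∈ (even π).map φ)
    obtain ⟨a, b, ha, hb, rfl⟩ := D.toPar.decomp hh hm
    have hv' : k * v * k⁻¹ ∈ Q := hQn.conj_mem v hv k
    have hbv : φ b * (k * v * k⁻¹) * (φ b)⁻¹ = k * v * k⁻¹ := by
      have hbY : φ b ∈ Y₂ := by
        have := side_le_comp (φ := φ.comp theta) hh hb
        rwa [MonoidHom.comp_apply, theta_theta] at this
      rw [← hQY₂ _ hv' _ hbY, mul_inv_cancel_right]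
    have h1 := hQab (φ a) (mem_map_of_mem φ ha) _ hv'
    rw [show φ a * (k * v * k⁻¹) * (φ a)⁻¹ = φ (a * b) * (k * v * k⁻¹) * (φ (a * b))⁻¹ by
      rw [map_mul]; nth_rewrite 1 [← hbv]; group, hme] at h1
    have h3 := Eqv.conj D k⁻¹ h1
    rwa [show k⁻¹ * (k * u * k⁻¹ * (k * v * k⁻¹) * (k * u * k⁻¹)⁻¹) * k⁻¹⁻¹ = u * v * u⁻¹ by group,
      show k⁻¹ * (k * v * k⁻¹) * k⁻¹⁻¹ = v by group] at h3
  -- stabilisers
  let St : X → Subgroup X := fun v =>
    { carrier := {g | Eqv h φ (g * v * g⁻¹) v}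
      one_mem' := Eqv.of_eq (by simp)
      mul_mem' := fun {g k} hg hk => by
        refine Eqv.trans (Eqv.of_eq ?_) ((Eqv.conj D g hk).trans hg)
        group
      inv_mem' := fun {g} hg => by
        have h' : Eqv h φ (g⁻¹ * v * g⁻¹⁻¹) v := by
          have := Eqv.conj D g⁻¹ (Eqv.symm hg)
          rwa [show g⁻¹ * (g * v * g⁻¹) * g⁻¹⁻¹ = v by group] at this
        exact h' }
  obtain ⟨c₁, hc₁X, hc₁j, hc₁Y⟩ := D.exists_mover hN
  have hc₁K : c₁ ∈ K := D.commutator_le_index_two hKi hc₁X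
  obtain ⟨a, m, hm, hord⟩ := Nat.exists_eq_two_pow_mul_odd (orderOf_pos c₁).ne'
  set c := c₁ ^ 2 ^ a with hc
  have hcodd : Odd (orderOf c) := hm.of_dvd_nat (orderOf_dvd_of_pow_eq_one (by
    rw [hc, ← pow_mul, ← hord, pow_orderOf_eq_one]))
  have hcX : c ∈ _root_.commutator X := pow_mem hc₁X _
  have hcK : c ∈ K := pow_mem hc₁K _
  have hcj : ¬ Eqv h φ (c * jj * c⁻¹) jj := fun e => hc₁j (mem_of_two_pows (St jj) hm e
    (hKfix (c₁ ^ m) (pow_mem hc₁K m) a (by rw [← pow_mul, mul_comm, ← hord, pow_orderOf_eq_one]) jj hjQ))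
  have hcY : ∀ x ∈ Y₂, c * x = x * c := fun x hx =>
    D.comm_of_near hcodd (D.pow_near (hc₁Y x hx) _)
  -- the three classes
  set y₁ := c * jj * c⁻¹ with hy₁
  set y₂ := c * y₁ * c⁻¹ with hy₂
  have hy₁Q : y₁ ∈ Q := hQn.conj_mem _ hjQ c
  have hy₂Q : y₂ ∈ Q := hQn.conj_mem _ hy₁Q c
  have inj : ∀ (g : X) {v w : X}, Eqv h φ (g * v * g⁻¹) (g * w * g⁻¹) → Eqv h φ v w := fun g v w e => by
    have := Eqv.conj D g⁻¹ e
    simpa [mul_assoc] using this
  have n21 : ¬ Eqv h φ y₂ y₁ := fun e => hcj (inj c e)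
  have hhalf : ∀ d : X, Odd (orderOf d) → ∀ v : X, Eqv h φ (d ^ 2 * v * (d ^ 2)⁻¹) v →
      Eqv h φ (d * v * d⁻¹) v := by
    intro d hd v e
    obtain ⟨o, ho⟩ := hd
    have := pow_mem (show d ^ 2 ∈ St v from e) (o + 1)
    rwa [← pow_mul, show 2 * (o + 1) = orderOf d + 1 by omega, pow_succ, pow_orderOf_eq_one, one_mul] at this
  have n20 : ¬ Eqv h φ y₂ jj := fun e => hcj (hhalf c hcodd jj (by
    refine Eqv.trans (Eqv.of_eq ?_) e
    rw [hy₂, hy₁, pow_two]; group))
  have nz1 : ∀ g : X, ¬ Eqv h φ (g * jj * g⁻¹) 1 := fun g e => nJ (inj g (e.trans (Eqv.of_eq (by simp))))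
  have n10 : ¬ Eqv h φ y₁ 1 := nz1 c
  have n30 : ¬ Eqv h φ y₂ 1 := by
    have := nz1 (c * c)
    rwa [show c * c * jj * (c * c)⁻¹ = y₂ by rw [hy₂, hy₁]; group] at this
  -- everything is one of four
  have hfour : ∀ v ∈ Q, Eqv h φ v 1 ∨ Eqv h φ v jj ∨ Eqv h φ v y₁ ∨ Eqv h φ v y₂ := by
    intro v hv
    set yy := φ ⟨0, h, true, true⟩
    have c3 : ∀ w ∈ Q, ¬ Eqv h φ w 1 → ¬ Eqv h φ w jj → Eqv h φ w yy ∨ Eqv h φ w (jj * yy) :=
      fun w hw n1 n2 => ((D.side_classes hN hw).resolve_left n1).resolve_left n2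
    by_cases h1 : Eqv h φ v 1
    · exact Or.inl h1
    by_cases h2' : Eqv h φ v jj
    · exact Or.inr (Or.inl h2')
    refine Or.inr (Or.inr ?_)
    rcases c3 v hv h1 h2' with e | e <;> rcases c3 y₁ hy₁Q n10 hcj with e1 | e1 <;>
      rcases c3 y₂ hy₂Q n30 n20 with e2 | e2 <;>
      first
      | exact Or.inl (e.trans e1.symm)
      | exact Or.inr (e.trans e2.symm)
      | exact absurd (e2.trans e1.symm) n21
  have hprod : Eqv h φ y₂ (jj * y₁) := by
    rcases hfour _ (mul_mem hjQ hy₁Q) with e | e | e | e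
    · exfalso
      apply hcj
      have hjz : Eqv h φ (jj * jj) 1 := by rw [Eqv, inv_one, mul_one, hjj]; exact mem_zpowers _
      exact D.zed_cancel (e.trans hjz.symm)
    · exact absurd (D.zed_cancel (e.trans (Eqv.of_eq (mul_one jj).symm))) n10
    · exfalso
      have := Eqv.mul D e (Eqv.refl h φ y₁⁻¹)
      simp at this
      exact nJ this
    · exact e.symm
  have hfix_all : ∀ g : X, Eqv h φ (g * jj * g⁻¹) jj → Eqv h φ (g * y₁ * g⁻¹) y₁ →
      ∀ v ∈ Q, Eqv h φ (g * v * g⁻¹) v := by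
    intro g e0 e1 v hv
    have e2 : Eqv h φ (g * y₂ * g⁻¹) y₂ := by
      refine (Eqv.conj D g hprod).trans ?_
      rw [show g * (jj * y₁) * g⁻¹ = g * jj * g⁻¹ * (g * y₁ * g⁻¹) by group]
      exact (Eqv.mul D e0 e1).trans hprod.symm
    rcases hfour v hv with e | e | e | e <;> refine (Eqv.conj D g e).trans (Eqv.trans ?_ e.symm)
    · exact Eqv.of_eq (by group)
    · exact e0
    · exact e1
    · exact e2
  have hcube : ∀ v ∈ Q, Eqv h φ (c ^ 3 * v * (c ^ 3)⁻¹) v := by
    have e0 : Eqv h φ (c * y₂ * c⁻¹) jj := by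
      rcases hfour _ (hQn.conj_mem _ hy₂Q c) with e | e | e | e
      · exact absurd (inj c (e.trans (Eqv.of_eq (by simp)))) n30
      · exact e
      · exact absurd (inj c e) n20
      · exact absurd (inj c e) n21
    refine hfix_all _ (Eqv.trans (Eqv.of_eq ?_) e0) ?_
    · rw [hy₂, hy₁, pow_succ, pow_two]; group
    · refine Eqv.trans (Eqv.of_eq ?_) (Eqv.conj D c e0)
      rw [hy₂, hy₁, pow_succ, pow_two]; group
  -- the centraliser of both components
  set M₁ := K ⊓ centralizer (Y₂ : Set X) with hM₁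
  have hY₂n : Y₂.Normal := comp_normal _ _
  haveI hM₁n : M₁.Normal := inferInstanceAs (K ⊓ centralizer (Y₂ : Set X)).Normal
  haveI : (M₁ ⊓ centralizer (Q : Set X)).Normal := inferInstanceAs (M₁ ⊓ centralizer (Q : Set X)).Normal
  have htr : ∀ x ∈ (P : Subgroup X), x ∈ M₁ → x ∈ Q := by
    intro x hxP hx
    obtain ⟨w, hw, rfl⟩ := Subgroup.mem_map.1 (hK ▸ mem_inf.2 ⟨hxP, hx.1⟩ : x ∈ (even π).map φ)
    exact mem_map_of_mem φ (D.trace_cent hw fun b hb => (mem_centralizer_iff.1 hx.2 b hb).symm)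
  have hCz : ∀ g : X, g ∈ K → (∀ x ∈ Y₂, g * x = x * g) → (∀ v ∈ Q, g * v = v * g) → g ∈ zed h φ := by
    intro g hgK hgY hgQ
    refine D.le_zed (M₁ ⊓ centralizer (Q : Set X)) (fun x hxP hx => ?_)
      ⟨⟨hgK, mem_centralizer_iff.2 fun b hb => (hgY b hb).symm⟩,
        mem_centralizer_iff.2 fun b hb => (hgQ b hb).symm⟩
    obtain ⟨w, hw, rfl⟩ := Subgroup.mem_map.1 (htr x hxP hx.1)
    refine D.zed_image.2 (D.toPar.side_center hh hw fun y hy => D.inj ?_)
    rw [map_mul, map_mul]
    exact (mem_centralizer_iff.1 hx.2 _ (mem_map_of_mem φ hy)).symm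
  have hc3 : c ^ 3 = 1 := by
    have ho : Odd (orderOf (c ^ 3)) := hcodd.of_dvd_nat (orderOf_pow_dvd 3)
    have := hCz (c ^ 3) (pow_mem hcK 3) (fun x hx => ((show Commute c x from hcY x hx).pow_left 3).eq)
      (fun v hv => D.comm_of_near ho (hcube v hv))
    rcases D.zed_cases this with e | e
    · exact e
    · rw [e, D.z_order] at ho; exact absurd ho (by decide)
  have hc1 : c ≠ 1 := fun e => hcj (by rw [hy₁, e]; exact Eqv.of_eq (by group))
  -- quaternion relations
  have hsq : ∀ v : X, jj * jj = z → (v * jj * v⁻¹) * (v * jj * v⁻¹) = z := fun v e => by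
    rw [show v * jj * v⁻¹ * (v * jj * v⁻¹) = v * (jj * jj) * v⁻¹ by group, e, D.central, mul_inv_cancel_right]
  have hy₁sq : y₁ * y₁ = z := hsq c hjj
  have hrel : y₁ * jj * y₁⁻¹ = jj * z ∧ jj * y₁ * jj⁻¹ = y₁ * z := by
    have hne : jj * y₁ ≠ y₁ * jj := by
      intro e
      obtain ⟨w, hw, hwe⟩ := Subgroup.mem_map.1 hy₁Q
      rcases D.toPar.side_pair hh (rot_mem hh q) hw D.toPar.rot_q (D.inj (by rw [map_mul, hwe, hy₁sq]))
        (D.inj (by rw [map_mul, map_mul, hwe]; exact e)) with a | a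
      · exact hcj (Eqv.of_eq (by rw [← hwe, a]))
      · refine hcj ?_
        rw [← hwe, a, map_inv, Eqv, ← mul_inv_rev, hjj]
        exact inv_mem (mem_zpowers _)
    have key : ∀ a ∈ Q, ∀ b ∈ Q, a * b ≠ b * a → a * b * a⁻¹ = b * z := by
      intro a ha b hb hab
      rcases D.zed_cases (hQab a ha b hb) with e | e
      · exact absurd (mul_inv_eq_iff_eq_mul.1 (mul_inv_eq_one.1 e)) hab
      · rw [mul_inv_eq_iff_eq_mul] at e
        rw [e]; exact (D.central b).symm
    exact ⟨key _ hy₁Q _ hjQ (Ne.symm hne), key _ hjQ _ hy₁Q hne⟩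
  have hjM : jj ∈ M₁ := ⟨(hK.ge (D.mem_map.2 (D.toPar.side_even hh (rot_mem hh q)))).2,
    mem_centralizer_iff.2 fun b hb => (hQY₂ _ hjQ b hb).symm⟩
  have hcM : c ∈ M₁ := ⟨hcK, mem_centralizer_iff.2 fun b hb => (hcY b hb).symm⟩
  have hy₁M : y₁ ∈ M₁ := mul_mem (mul_mem hcM hjM) (inv_mem hcM)
  set C := closure ({jj, y₁, c} : Set X) with hC
  have hjC : jj ∈ C := subset_closure (by simp)
  have hy₁C : y₁ ∈ C := subset_closure (by simp)
  have hcC : c ∈ C := subset_closure (by simp)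
  have hzC : zed h φ ≤ C := zpowers_le.2 (hjj ▸ mul_mem hjC hjC)
  have hQC : Q ≤ C := by
    intro v hv
    rcases hfour v hv with e | e | e | e <;>
      refine (Subgroup.mul_mem_cancel_right C ?_).1 (hzC e)
    · exact inv_mem (one_mem C)
    · exact inv_mem hjC
    · exact inv_mem hy₁C
    · exact inv_mem (mul_mem (mul_mem hcC hy₁C) (inv_mem hcC))
  have hCM : M₁ ≤ C := by
    intro g hg
    -- move `g jj g⁻¹` back to `jj`
    obtain ⟨g', hg', hg'M, hg'j⟩ : ∃ g', (g' ∈ C → g ∈ C) ∧ g' ∈ M₁ ∧ Eqv h φ (g' * jj * g'⁻¹) jj := by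
      rcases hfour _ (hQn.conj_mem _ hjQ g) with e | e | e | e
      · exact absurd e (nz1 g)
      · exact ⟨g, id, hg, e⟩
      · refine ⟨c⁻¹ * g, fun h' => by simpa using mul_mem hcC h', mul_mem (inv_mem hcM) hg, inj c ?_⟩
        rw [show c * (c⁻¹ * g * jj * (c⁻¹ * g)⁻¹) * c⁻¹ = g * jj * g⁻¹ by group]
        exact e
      · refine ⟨(c * c)⁻¹ * g, fun h' => by simpa [mul_assoc] using mul_mem (mul_mem hcC hcC) h',
          mul_mem (inv_mem (mul_mem hcM hcM)) hg, inj (c * c) ?_⟩
        rw [show c * c * ((c * c)⁻¹ * g * jj * ((c * c)⁻¹ * g)⁻¹) * (c * c)⁻¹ = g * jj * g⁻¹ by group,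
          show c * c * jj * (c * c)⁻¹ = y₂ by rw [hy₂, hy₁]; group]
        exact e
    refine hg' ?_
    obtain ⟨b, l, hl, hb⟩ := Nat.exists_eq_two_pow_mul_odd (orderOf_pos g').ne'
    have hdodd : Odd (orderOf (g' ^ 2 ^ b)) := hl.of_dvd_nat (orderOf_dvd_of_pow_eq_one (by
      rw [← pow_mul, ← hb, pow_orderOf_eq_one]))
    have hdy : Eqv h φ (g' ^ 2 ^ b * y₁ * (g' ^ 2 ^ b)⁻¹) y₁ := by
      refine hhalf _ hdodd _ ?_
      set d := g' ^ 2 ^ b with hd
      have hdj : Eqv h φ (d * jj * d⁻¹) jj := pow_mem (show g' ∈ St jj from hg'j) _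
      rcases hfour _ (hQn.conj_mem _ hy₁Q d) with e | e | e | e
      · exact absurd (inj d (e.trans (Eqv.of_eq (by simp)))) n10
      · exact absurd (inj d (e.trans hdj.symm)) hcj
      · exact Eqv.trans (Eqv.of_eq (by rw [pow_two]; group)) ((Eqv.conj D d e).trans e)
      · have hjz : Eqv h φ (jj * jj) 1 := by rw [Eqv, inv_one, mul_one, hjj]; exact mem_zpowers _
        refine Eqv.trans (Eqv.of_eq ?_) ((Eqv.conj D d (e.trans hprod)).trans ?_) (b := d * (d * y₁ * d⁻¹) * d⁻¹)
        · rw [pow_two]; group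
        · rw [show d * (jj * y₁) * d⁻¹ = d * jj * d⁻¹ * (d * y₁ * d⁻¹) by group]
          refine (Eqv.mul D hdj (e.trans hprod)).trans ?_
          rw [← mul_assoc]
          exact (Eqv.mul D hjz (Eqv.refl h φ _)).trans (Eqv.of_eq (one_mul _))
    have hg'y : Eqv h φ (g' * y₁ * g'⁻¹) y₁ := mem_of_two_pows (St y₁) hl hdy
      (hKfix (g' ^ l) (pow_mem hg'M.1 l) b (by rw [← pow_mul, mul_comm, ← hb, pow_orderOf_eq_one]) y₁ hy₁Q)
    have hg'all := hfix_all g' hg'j hg'y
    -- correct by an element of `Q`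
    obtain ⟨w, hw, hwM, hwj, hwy⟩ : ∃ w, w ∈ C ∧ w ∈ M₁ ∧ w * jj * w⁻¹ = g' * jj * g'⁻¹ ∧
        w * y₁ * w⁻¹ = g' * y₁ * g'⁻¹ := by
      have hj2 : jj * z * z = jj := by rw [mul_assoc, D.z_sq, mul_one]
      rcases D.zed_cases hg'j with e | e <;> rcases D.zed_cases hg'y with e' | e' <;>
        rw [mul_inv_eq_iff_eq_mul] at e e'
      · exact ⟨1, one_mem _, one_mem _, by rw [e]; group, by rw [e']; group⟩
      · refine ⟨jj, hjC, hjM, by rw [e]; group, ?_⟩
        rw [hrel.2, e']; exact D.central y₁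
      · refine ⟨y₁, hy₁C, hy₁M, ?_, by rw [e']; group⟩
        rw [hrel.1, e]; exact D.central jj
      · refine ⟨jj * y₁, mul_mem hjC hy₁C, mul_mem hjM hy₁M, ?_, ?_⟩
        · rw [e, show jj * y₁ * jj * (jj * y₁)⁻¹ = jj * (y₁ * jj * y₁⁻¹) * jj⁻¹ by group, hrel.1,
            show jj * (jj * z) * jj⁻¹ = jj * jj * (z * jj⁻¹) by group, ← D.central jj⁻¹,
            show jj * jj * (jj⁻¹ * z) = jj * z by group]
          exact D.central jj
        · rw [e', show jj * y₁ * y₁ * (jj * y₁)⁻¹ = jj * y₁ * jj⁻¹ by group, hrel.2]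
          exact D.central y₁
    have hz' : w⁻¹ * g' ∈ zed h φ := by
      have hj' : (w⁻¹ * g') * jj = jj * (w⁻¹ * g') := by
        calc w⁻¹ * g' * jj = w⁻¹ * (g' * jj * g'⁻¹) * g' := by group
          _ = w⁻¹ * (w * jj * w⁻¹) * g' := by rw [hwj]
          _ = jj * (w⁻¹ * g') := by group
      have hy' : (w⁻¹ * g') * y₁ = y₁ * (w⁻¹ * g') := by
        calc w⁻¹ * g' * y₁ = w⁻¹ * (g' * y₁ * g'⁻¹) * g' := by group
          _ = w⁻¹ * (w * y₁ * w⁻¹) * g' := by rw [hwy]
          _ = y₁ * (w⁻¹ * g') := by group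
      refine hCz _ (mul_mem (inv_mem hwM.1) hg'M.1)
        (fun x hx => (mem_centralizer_iff.1 (mul_mem (inv_mem hwM) hg'M).2 x hx).symm) fun v hv => ?_
      have hcz : ∀ t ∈ zed h φ, Commute (w⁻¹ * g') t := fun t ht => (D.zed_central ht).1 _
      have hy2' : ∀ v, Eqv h φ v 1 ∨ Eqv h φ v jj ∨ Eqv h φ v y₁ ∨ Eqv h φ v (jj * y₁) →
          Commute (w⁻¹ * g') v := by
        intro v hv
        rcases hv with e | e | e | e <;> rw [show v = (v * _⁻¹) * _ from (inv_mul_cancel_right v _).symm]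
        · exact (hcz _ e).mul_right (Commute.one_right _)
        · exact (hcz _ e).mul_right hj'
        · exact (hcz _ e).mul_right hy'
        · exact (hcz _ e).mul_right ((show Commute _ jj from hj').mul_right hy')
      refine hy2' v ?_
      rcases hfour v hv with e | e | e | e
      · exact Or.inl e
      · exact Or.inr (Or.inl e)
      · exact Or.inr (Or.inr (Or.inl e))
      · exact Or.inr (Or.inr (Or.inr (e.trans hprod)))
    simpa using mul_mem hw (hzC hz')
  have hCle : C ≤ M₁ := (closure_le _).2 (by rintro x (rfl | rfl | rfl) <;> assumption)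
  -- `SL(2, 3)`
  have hj4 : jj ^ 4 = 1 := by rw [show (4 : ℕ) = 2 * 2 from rfl, pow_mul, pow_two, pow_two, hjj, D.z_sq]
  have hjinv : jj⁻¹ = jj * z := inv_eq_of_mul_eq_one_right (by rw [← mul_assoc, hjj, D.z_sq])
  have hiso : Nonempty (↥C ≃* Matrix.SpecialLinearGroup (Fin 2) (ZMod 3)) := by
    have hgen : ∀ s : X, s ∈ zed h φ → PGroups.SLRel (jj * s) (y₁ * s) c → closure ({jj * s, y₁ * s, c} : Set X) = C →
        Nonempty (↥C ≃* Matrix.SpecialLinearGroup (Fin 2) (ZMod 3)) := by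
      intro s hs hrels hcl
      have m1 : jj * s ∈ C := mul_mem hjC (hzC hs)
      have m2 : y₁ * s ∈ C := mul_mem hy₁C (hzC hs)
      refine PGroups.nonempty_sl_equiv (i := ⟨_, m1⟩) (j := ⟨_, m2⟩) (g := ⟨c, hcC⟩) ?_ ?_ ?_
      · obtain ⟨r1, r2, r3, r4, r5, r6⟩ := hrels
        exact ⟨Subtype.ext r1, Subtype.ext r2, Subtype.ext r3, Subtype.ext r4, Subtype.ext r5, Subtype.ext r6⟩
      · apply Subgroup.map_injective C.subtype_injective
        rw [MonoidHom.map_closure, ← MonoidHom.range_eq_map, Subgroup.range_subtype]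
        conv_rhs => rw [← hcl]
        simp [Set.image_insert_eq]
      · have h3 : 3 ∣ Nat.card C := by
          rw [← orderOf_eq_prime hc3 hc1, ← Subgroup.orderOf_mk c hcC]
          exact orderOf_dvd_natCard _
        have h8 : 8 ∣ Nat.card C := by
          have hp : IsPGroup 2 ↥Q := IsPGroup.to_le P.2 fun x hx => by
            obtain ⟨w, -, rfl⟩ := Subgroup.mem_map.1 hx; exact D.mem w
          obtain ⟨n, hn⟩ := IsPGroup.iff_card.1 hp
          have h4 : orderOf jj = 4 := by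
            refine orderOf_eq_prime_pow (p := 2) (n := 1) ?_ hj4
            rw [pow_one, pow_two, hjj]; exact D.z_ne
          have hlt : zpowers jj < Q := by
            refine lt_of_le_of_ne (zpowers_le.2 hjQ) fun e => ?_
            obtain ⟨i, hi⟩ := mem_zpowers_iff.1 (e ▸ hy₁Q : y₁ ∈ zpowers jj)
            have hne : jj * y₁ ≠ y₁ * jj := fun e' => by
              have := hrel.2
              rw [e', mul_inv_cancel_right] at this
              exact D.z_ne (mul_eq_left.1 this.symm)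
            exact hne (by rw [← hi]; exact ((Commute.refl jj).zpow_right i).eq)
          have h5 := Set.ncard_lt_ncard (s := (zpowers jj : Set X)) (t := (Q : Set X)) hlt (Set.toFinite _)
          rw [show (zpowers jj : Set X).ncard = Nat.card (zpowers jj) from rfl,
            show (Q : Set X).ncard = Nat.card Q from rfl, Nat.card_zpowers, h4, hn] at h5
          refine dvd_trans ?_ (card_dvd_of_le hQC)
          rw [hn, show 8 = 2 ^ 3 from rfl]
          refine pow_dvd_pow 2 ?_
          by_contra hlt3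
          have := Nat.pow_le_pow_right (show 1 ≤ 2 by norm_num) (show n ≤ 2 by omega)
          omega
        exact Nat.le_of_dvd Nat.card_pos (Nat.Coprime.mul_dvd_of_dvd_of_dvd (by decide) h8 h3)
    rcases D.zed_cases hprod with e | e <;> rw [mul_inv_eq_iff_eq_mul] at e
    · rw [one_mul] at e
      refine hgen 1 (one_mem _) ?_ (by simp [hC])
      simp only [mul_one]
      exact ⟨hj4, by rw [hy₁sq, hjj], by rw [hrel.1, hjinv], hc3, hy₁.symm, by rw [← hy₂]; exact e⟩
    · have hzc : ∀ g : X, g * z = z * g := D.central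
      have hcz : ∀ v : X, c * (v * z) * c⁻¹ = c * v * c⁻¹ * z := fun v => by
        calc c * (v * z) * c⁻¹ = c * v * (z * c⁻¹) := by group
          _ = c * v * c⁻¹ * z := by rw [← hzc c⁻¹]; group
      have hzz : ∀ v w : X, v * z * (w * z) = v * w := fun v w => by
        rw [mul_assoc v, ← mul_assoc z w, ← hzc w, mul_assoc w z z, D.z_sq, mul_one]
      refine hgen z (mem_zpowers _) ⟨?_, ?_, ?_, hc3, ?_, ?_⟩ ?_
      · rw [show (4 : ℕ) = 2 * 2 from rfl, pow_mul, pow_two, pow_two, hzz, hjj, D.z_sq]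
      · rw [hzz, hzz, hy₁sq, hjj]
      · rw [mul_inv_rev, show y₁ * z * (jj * z) * (z⁻¹ * y₁⁻¹) = y₁ * z * jj * y₁⁻¹ by group,
          mul_assoc y₁ z jj, ← hzc jj, ← mul_assoc y₁ jj z, mul_assoc (y₁ * jj) z y₁⁻¹,
          ← hzc y₁⁻¹, ← mul_assoc, hrel.1, mul_inv_rev, hjinv, show z⁻¹ = z from inv_eq_of_mul_eq_one_right D.z_sq, ← hzc (jj * z)]
      · rw [hcz, ← hy₁]
      · rw [hcz, ← hy₂, hzz, e, mul_assoc, hzc (jj * y₁), ← mul_assoc, D.z_sq, one_mul]
      · refine le_antisymm ((closure_le _).2 ?_) ((closure_le _).2 ?_)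
        · rintro x (rfl | rfl | rfl)
          · exact mul_mem hjC (hzC (mem_zpowers _))
          · exact mul_mem hy₁C (hzC (mem_zpowers _))
          · exact hcC
        · set C' := closure ({jj * z, y₁ * z, c} : Set X)
          have m1 : jj * z ∈ C' := subset_closure (by simp)
          have m2 : y₁ * z ∈ C' := subset_closure (by simp)
          have m3 : c ∈ C' := subset_closure (by simp)
          have mz : z ∈ C' := by
            have := mul_mem m1 m1
            rwa [hzz, hjj] at this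
          rintro x (rfl | rfl | rfl)
          · simpa using mul_mem m1 (inv_mem mz)
          · simpa using mul_mem m2 (inv_mem mz)
          · exact m3
  have hcomm : C ≤ _root_.commutator X := by
    have hcj' : ⁅c, jj⁆ ∈ _root_.commutator X := commutator_mem_commutator (mem_top _) (mem_top _)
    rw [commutatorElement_def, ← hy₁] at hcj'
    set a' := y₁ * jj⁻¹ with ha'
    have ha2 : a' * a' = z := by
      have e1 : jj⁻¹ * y₁ * jj⁻¹ = jj * y₁ * jj := by
        rw [hjinv, show jj * z * y₁ * (jj * z) = jj * (z * (y₁ * jj)) * z by group, ← D.central (y₁ * jj),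
          show jj * (y₁ * jj * z) * z = jj * y₁ * jj * (z * z) by group, D.z_sq, mul_one]
      calc a' * a' = y₁ * (jj⁻¹ * y₁ * jj⁻¹) := by rw [ha']; group
        _ = y₁ * jj * y₁⁻¹ * (y₁ * y₁ * jj) := by rw [e1]; group
        _ = jj * z * (z * jj) := by rw [hrel.1, hy₁sq]
        _ = z := by rw [mul_assoc, ← mul_assoc z z, D.z_sq, one_mul, hjj]
    have hzX : zed h φ ≤ _root_.commutator X := zpowers_le.2 (show z ∈ _ by rw [← ha2]; exact mul_mem hcj' hcj')
    have hb : y₂ * y₁⁻¹ ∈ _root_.commutator X := by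
      have := (inferInstance : (_root_.commutator X).Normal).conj_mem _ hcj' c
      rwa [show c * a' * c⁻¹ = y₂ * y₁⁻¹ by rw [ha', hy₂, hy₁]; group] at this
    have hjX : jj ∈ _root_.commutator X := by
      have e : Eqv h φ (y₂ * y₁⁻¹) jj :=
        (Eqv.mul D hprod (Eqv.refl h φ y₁⁻¹)).trans (Eqv.of_eq (mul_inv_cancel_right jj y₁))
      have := mul_mem (hzX (Eqv.symm e)) hb
      rwa [inv_mul_cancel_right] at this
    refine (closure_le _).2 ?_
    rintro x (rfl | rfl | rfl)
    · exact hjX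
    · have := mul_mem hcj' hjX
      rwa [ha', inv_mul_cancel_right] at this
    · exact hcX
  have hCeq : C = M₁ := le_antisymm hCle hCM
  haveI : Fact (Nat.Prime 3) := ⟨Nat.prime_three⟩
  exact ⟨C, { normal := hCeq ▸ hM₁n
              cent := fun a ha b hb => (mem_centralizer_iff.1 (hCle ha).2 b hb).symm
              side_le := hQC
              trace := fun x hxP hxC => htr x hxP (hCle hxC)
              iso := ⟨ZMod 3, inferInstance, inferInstance, by rw [ZMod.card]; decide, hiso⟩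
              le_comm := hcomm }⟩

/-- There is a factor. -/
theorem Top.exists_factor (D : Top π h q r φ P) : ∃ L, Factor h D.halves.two_h φ P L :=
  D.perfect_or_normal.elim (fun e => ⟨_, D.factor_perfect e⟩) D.factor_normal

end Cfsg.Agent.Lib.G2Fong23
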