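import Cfsg.Agent.Lib.G2Fong23.Sides

/-!
# Facts on the factor in the model (helper23)
-/

set_option autoImplicit false
set_option linter.style.haveILetI false
set_option linter.unusedSectionVars false

namespace Cfsg.Agent.Lib.G2Fong23

open G2Fusion23

variable {R : Type*} [CommRing R] {π : R →+* ZMod 2} {h q : R} {r : ℕ}

/-- `0` or `h`. -/
def Small (h : R) (a : R) : Prop := a = 0 ∨ a = h

theorem Par.zmem (_D : Par π h q r) (hh : h + h = 0) {x : El R} (hx : x = 1 ∨ x = ⟨h, h, false, false⟩) :
    x ∈ side hh := by
  rcases hx with rfl | rfl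
  · exact one_mem _
  · exact rot_mem hh h

/-- An odd element moves `y₀` modulo the centre. -/
theorem Par.odd_moves (D : Par π h q r) {p : El R} (hp : p ∉ even π) :
    p * ⟨0, h, true, true⟩ * p⁻¹ * (⟨0, h, true, true⟩ : El R)⁻¹ ≠ 1 ∧
    p * ⟨0, h, true, true⟩ * p⁻¹ * (⟨0, h, true, true⟩ : El R)⁻¹ ≠ ⟨h, h, false, false⟩ := by
  obtain ⟨a, b, k, l⟩ := p
  rw [mem_even] at hp
  constructor <;> intro e <;> apply hp <;>
    have e' := congrArg (fun x : El R => π x.i) e <;>
    cases k <;> cases l <;>
      simp [El.mul_def, El.inv_def, El.one_def, twist, D.pi_h] at e' <;>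
      rcases zmod_two (π a) with ea | ea <;> rcases zmod_two (π b) with eb | eb <;>
      simp [ea, eb] at e' ⊢

/-- Involutions of the factor. -/
theorem Par.side_invol (D : Par π h q r) (hh : h + h = 0) {x : El R} (hx : x ∈ side hh) (hx2 : x * x = 1) :
    x = 1 ∨ x = ⟨h, h, false, false⟩ := by
  rcases side_cases hh hx with e | e <;> rw [e] at hx2 ⊢ <;>
    simp [El.mul_def, El.one_def, twist] at hx2
  · rcases D.halves.tor x.i hx2 with a | a <;> rw [a]
    · exact Or.inl rfl
    · exact Or.inr rfl
  · exact absurd hx2 (by simp [D.halves.h_ne])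

/-- The rotation of order four. -/
theorem Par.rot_q (D : Par π h q r) :
    (⟨q, q, false, false⟩ : El R) * ⟨q, q, false, false⟩ = ⟨h, h, false, false⟩ := by
  simp [El.mul_def, twist, D.halves.two_q]

/-- The reflection of order four. -/
theorem Par.refl_sq (D : Par π h q r) (a : R) :
    (⟨a, a + h, true, true⟩ : El R) * ⟨a, a + h, true, true⟩ = ⟨h, h, false, false⟩ := by
  simp [El.mul_def, twist, D.neg]

/-- The centre of the factor. -/
theorem Par.side_center (D : Par π h q r) (hh : h + h = 0) {x : El R} (hx : x ∈ side hh)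
    (hc : ∀ y ∈ side hh, x * y = y * x) : x = 1 ∨ x = ⟨h, h, false, false⟩ := by
  rcases side_cases hh hx with e | e <;> rw [e] at hc ⊢
  · have h1 := hc ⟨0, h, true, true⟩ ⟨rfl, by simp⟩
    simp [El.mul_def, twist] at h1
    rcases D.halves.tor x.i (by linear_combination h1.1) with a | a <;> rw [a]
    · exact Or.inl rfl
    · exact Or.inr rfl
  · exfalso
    have h1 := hc ⟨q, q, false, false⟩ (rot_mem hh q)
    simp [El.mul_def, twist] at h1
    exact D.q_ne (by linear_combination -h1.1)

/-- A rotation is a product of two reflections. -/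
theorem Par.rot_prod (D : Par π h q r) (u : R) :
    (⟨u, u, false, false⟩ : El R) = ⟨u + h, u + h + h, true, true⟩ * ⟨0, 0 + h, true, true⟩ := by
  simp [El.mul_def, twist, D.neg]
  linear_combination -D.halves.two_h

/-- A non-central element of the factor has a power or equals a root of `z`. -/
theorem Par.exists_root (D : Par π h q r) (hh : h + h = 0) {x : El R} (hx : x ∈ side hh)
    (hx1 : x ≠ 1) (hxz : x ≠ ⟨h, h, false, false⟩) (j : ℕ) (hj : x ^ 2 ^ j = 1) :
    ∃ n : ℕ, x ^ n * x ^ n = ⟨h, h, false, false⟩ := by
  induction j generalizing x with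
  | zero => exact absurd (by simpa using hj) hx1
  | succ j ih =>
    rcases eq_or_ne (x * x) ⟨h, h, false, false⟩ with e | e
    · exact ⟨1, by rw [pow_one]; exact e⟩
    · have h2 : x * x ≠ 1 := fun e' => by rcases D.side_invol hh hx e' with a | a <;> contradiction
      obtain ⟨n, hn⟩ := ih (x := x * x) (mul_mem hx hx) h2 e
        (by rw [← pow_two, ← pow_mul, ← pow_succ']; exact hj)
      exact ⟨2 * n, by rwa [pow_mul, pow_two x]⟩

/-- With four coordinates the classes modulo the centre are four. -/
theorem Par.side_small (D : Par π h q r) (hh : h + h = 0) (h4 : (1 : R) + 1 = h)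
    (gen : ∀ v : R, ∃ m : ℕ, v = m • 1) {x : El R} (hx : x ∈ side hh) :
    ∃ s : El R, (s = 1 ∨ s = ⟨q, q, false, false⟩ ∨ s = ⟨0, h, true, true⟩ ∨
        s = (⟨q, q, false, false⟩ : El R) * ⟨0, h, true, true⟩) ∧
      (s⁻¹ * x = 1 ∨ s⁻¹ * x = ⟨h, h, false, false⟩) := by
  have key : ∀ v : R, Small h v ∨ Small h (v - q) := by
    intro v
    have h1 : ∀ m : ℕ, Small h (m • (1 : R)) ∨ Small h (m • (1 : R) - 1) := by
      intro m
      induction m with
      | zero => exact Or.inl (Or.inl (zero_smul ℕ _))
      | succ m ih =>
        rw [succ_nsmul]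
        rcases ih with (e | e) | (e | e)
        · exact Or.inr (Or.inl (by linear_combination e))
        · exact Or.inr (Or.inr (by linear_combination e))
        · exact Or.inl (Or.inr (by linear_combination e + h4))
        · exact Or.inl (Or.inl (by linear_combination e + h4 + hh))
    obtain ⟨m, rfl⟩ := gen v
    rcases h1 m with e | e
    · exact Or.inl e
    · refine Or.inr ?_
      rcases D.half_cases h4 with a | a <;> rcases e with b | b
      · exact Or.inl (by linear_combination b + a)
      · exact Or.inr (by linear_combination b + a)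
      · exact Or.inr (by linear_combination b + a)
      · exact Or.inl (by linear_combination b + a + hh)
  rcases side_cases hh hx with e | e <;> rw [e] <;> rcases key x.i with a | a
  · refine ⟨1, Or.inl rfl, ?_⟩
    rw [inv_one, one_mul]
    rcases a with a | a <;> rw [a]
    · exact Or.inl rfl
    · exact Or.inr rfl
  · refine ⟨⟨q, q, false, false⟩, Or.inr (Or.inl rfl), ?_⟩
    rcases a with a | a
    · left; simp [El.mul_def, El.inv_def, El.one_def, twist]; linear_combination a
    · right; simp [El.mul_def, El.inv_def, twist]; linear_combination a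
  · refine ⟨⟨0, h, true, true⟩, Or.inr (Or.inr (Or.inl rfl)), ?_⟩
    rcases a with a | a <;> rw [a] <;> simp [El.mul_def, El.inv_def, El.one_def, twist, D.neg, hh]
  · refine ⟨_, Or.inr (Or.inr (Or.inr rfl)), ?_⟩
    rcases a with a | a
    · left; simp [El.mul_def, El.inv_def, El.one_def, twist, D.neg]
      constructor
      · first | linear_combination -a | linear_combination -a + hh
      · linear_combination -a
    · right; simp [El.mul_def, El.inv_def, twist, D.neg]
      constructor
      · linear_combination -a
      · first | linear_combination -a | linear_combination -a + hh | linear_combination -a - hh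

end Cfsg.Agent.Lib.G2Fong23
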