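import Cfsg.Agent.Lib.G2Fong23.Components
import Cfsg.Agent.Lib.G2Fong23.Shapes

/-!
# Facts on normal subgroups of the centraliser (helper23)
-/

set_option autoImplicit false
set_option linter.style.haveILetI false
set_option linter.unusedSectionVars false

namespace Cfsg.Agent.Lib.G2Fong23

open Subgroup G2Fusion23
open scoped commutatorElement

variable {R : Type*} [CommRing R] {π : R →+* ZMod 2} {h q : R} {r : ℕ}
variable {X : Type*} [Group X] [Finite X] [Finite R] {φ : El R →* X} {P : Sylow 2 X}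

/-- The group of order two. -/
abbrev zed (h : R) (φ : El R →* X) : Subgroup X := zpowers (φ ⟨h, h, false, false⟩)

theorem Top.zed_cases (D : Top π h q r φ P) {x : X} (hx : x ∈ zed h φ) :
    x = 1 ∨ x = φ ⟨h, h, false, false⟩ := by
  obtain ⟨i, rfl⟩ := mem_zpowers_iff.1 hx
  have h2 : φ ⟨h, h, false, false⟩ ^ (2 : ℤ) = 1 := by rw [zpow_two, D.z_sq]
  rcases Int.even_or_odd' i with ⟨j, rfl | rfl⟩
  · left; rw [zpow_mul, h2, one_zpow]
  · right; rw [zpow_add, zpow_mul, h2, one_zpow, one_mul, zpow_one]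

theorem Top.zed_central (D : Top π h q r φ P) {x : X} (hx : x ∈ zed h φ) :
    (∀ g : X, g * x = x * g) ∧ x * x = 1 := by
  rcases D.zed_cases hx with rfl | rfl
  · exact ⟨fun g => by simp, by simp⟩
  · exact ⟨D.central, D.z_sq⟩

theorem Top.zed_normal (D : Top π h q r φ P) : (zed h φ).Normal :=
  ⟨fun y hy g => by rw [(D.zed_central hy).1 g, mul_inv_cancel_right]; exact hy⟩

theorem Top.zed_image (D : Top π h q r φ P) {x : El R} :
    φ x ∈ zed h φ ↔ (x = 1 ∨ x = ⟨h, h, false, false⟩) := by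
  constructor
  · intro hx
    rcases D.zed_cases hx with e | e
    · exact Or.inl (D.inj (e.trans (map_one φ).symm))
    · exact Or.inr (D.inj e)
  · rintro (rfl | rfl)
    · rw [map_one]; exact one_mem _
    · exact mem_zpowers _

theorem Top.zed_le_sylow (D : Top π h q r φ P) : zed h φ ≤ (P : Subgroup X) := zpowers_le.2 (D.mem _)

theorem Top.zed_le_side (D : Top π h q r φ P) : zed h φ ≤ (side D.halves.two_h).map φ :=
  zpowers_le.2 (Subgroup.mem_map_of_mem φ (rot_mem _ h))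

theorem Top.quot_core (D : Top π h q r φ P) :
    haveI := D.zed_normal
    ∀ N : Subgroup (X ⧸ zed h φ), N.Normal → Odd (Nat.card N) → N = ⊥ :=
  haveI := D.zed_normal
  RankOneClosed59.no_odd_normal (fun N hN hodd => by
    haveI := hN
    haveI : Fact (Nat.Prime 2) := ⟨Nat.prime_two⟩
    exact le_bot_iff.1 (D.core ▸ Cores.le_pPrimeCore (Nat.coprime_two_right.2 hodd))) D.z_order
    (Subgroup.mem_center_iff.2 D.central)

/-- A normal subgroup whose trace is central is central. -/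
theorem Top.le_zed (D : Top π h q r φ P) (N : Subgroup X) [N.Normal]
    (hN : ∀ x ∈ (P : Subgroup X), x ∈ N → x ∈ zed h φ) : N ≤ zed h φ := by
  haveI : Fact (Nat.Prime 2) := ⟨Nat.prime_two⟩
  haveI := D.zed_normal
  set f := QuotientGroup.mk' (zed h φ)
  set N' := (N ⊔ zed h φ).map f
  haveI : N'.Normal := Subgroup.Normal.map inferInstance f (QuotientGroup.mk'_surjective _)
  set P' := P.mapSurjective (QuotientGroup.mk'_surjective (zed h φ)) with hP'
  have htriv : (P' : Subgroup (X ⧸ zed h φ)) ⊓ N' = ⊥ := by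
    rw [eq_bot_iff, hP', Sylow.coe_mapSurjective]
    rintro _ ⟨⟨x, hx, rfl⟩, y, hy, hyx⟩
    have h1 : y⁻¹ * x ∈ zed h φ := QuotientGroup.eq.1 hyx
    have hxN : x ∈ N ⊔ zed h φ := by
      have := mul_mem hy (mem_sup_right h1 : y⁻¹ * x ∈ N ⊔ zed h φ)
      rwa [mul_inv_cancel_left] at this
    obtain ⟨a, ha, c, hc, rfl⟩ := (Subgroup.mem_sup_of_normal_right (t := zed h φ)).1 hxN
    have haP : a ∈ (P : Subgroup X) := (Subgroup.mul_mem_cancel_right _ (D.zed_le_sylow hc)).1 hx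
    exact mem_bot.2 ((QuotientGroup.eq_one_iff _).2 (mul_mem (hN a haP ha) hc))
  have hbot : N' = ⊥ := by
    refine D.quot_core N' inferInstance ?_
    obtain ⟨T, hT⟩ := ProductFusion.exists_sylow_of_normal P' N'
    have hT1 : Nat.card (T : Subgroup ↥N') = 1 := by
      rw [hT, Subgroup.card_eq_one, ← Subgroup.inf_subgroupOf_right, htriv, bot_subgroupOf]
    rw [← T.toSubgroup.card_mul_index, hT1, one_mul]
    have := T.not_dvd_index
    exact Nat.odd_iff.2 (by omega)
  intro x hx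
  exact (QuotientGroup.eq_one_iff x).1 (mem_bot.1 (hbot ▸ mem_map_of_mem f (mem_sup_left hx) : f x ∈ _))

/-- Subgroups commuting modulo the centre, one trace commuting with the other, commute. -/
theorem Top.commute_of_trace (D : Top π h q r φ P) {A B : Subgroup X} [A.Normal]
    (hc : ∀ a ∈ A, ∀ b ∈ B, ⁅a, b⁆ ∈ zed h φ)
    (ht : ∀ a ∈ A, a ∈ (P : Subgroup X) → ∀ b ∈ B, a * b = b * a) {a : X} (ha : a ∈ A) {b : X}
    (hb : b ∈ B) : a * b = b * a := by
  haveI : Fact (Nat.Prime 2) := ⟨Nat.prime_two⟩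
  let χ : ↥A →* X := MonoidHom.mk' (fun x => ⁅(x : X), b⁆) fun x x' => by
    simp only [Subgroup.coe_mul, commutatorElement_def]
    have h1 := (D.zed_central (hc x' x'.2 b hb)).1 (x : X)
    have h2 := (D.zed_central (hc x' x'.2 b hb)).1 ((x : X) * b * (x : X)⁻¹ * b⁻¹)
    rw [commutatorElement_def] at h1 h2
    calc (x : X) * x' * b * ((x : X) * x')⁻¹ * b⁻¹
        = ((x : X) * ((x' : X) * b * (x' : X)⁻¹ * b⁻¹)) * b * (x : X)⁻¹ * b⁻¹ := by group
      _ = (((x' : X) * b * (x' : X)⁻¹ * b⁻¹) * x) * b * (x : X)⁻¹ * b⁻¹ := by rw [h1]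
      _ = ((x' : X) * b * (x' : X)⁻¹ * b⁻¹) * ((x : X) * b * (x : X)⁻¹ * b⁻¹) := by group
      _ = ((x : X) * b * (x : X)⁻¹ * b⁻¹) * ((x' : X) * b * (x' : X)⁻¹ * b⁻¹) := h2.symm
  obtain ⟨T, hT⟩ := ProductFusion.exists_sylow_of_normal P A
  rw [← commutatorElement_eq_one_iff_mul_comm]
  refine hom_eq_one T χ (fun w => (D.zed_central (hc w w.2 b hb)).2) (fun w hw => ?_) ⟨a, ha⟩
  rw [hT, mem_subgroupOf] at hw
  exact commutatorElement_eq_one_iff_mul_comm.2 (ht w w.2 hw b hb)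

/-- Roots of `z` in the factor are conjugate modulo the centre, with a prescribed partner fixed. -/
theorem Top.root_conj (D : Top π h q r φ P) {x : El R} (hx : x ∈ side D.halves.two_h)
    (hx2 : x * x = ⟨h, h, false, false⟩) :
    ∃ u : X, (u * φ x * u⁻¹ * (φ ⟨q, q, false, false⟩)⁻¹ ∈ zed h φ) ∧
      (u * φ ⟨q, -q, false, false⟩ * u⁻¹ * (φ ⟨q, -q, false, false⟩)⁻¹ ∈ zed h φ) := by
  set hh := D.halves.two_h
  set t : El R := ⟨q, -q, false, false⟩ with ht
  set j : El R := ⟨q, q, false, false⟩ with hj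
  have htheta : theta t = j := by simp [ht, hj, theta_apply]
  have hts : theta t ∈ side hh := by rw [htheta]; exact rot_mem hh q
  have hte : t ∈ even π := D.toPar.theta_even.1 (D.toPar.side_even hh hts)
  have ht2 : t * t = ⟨h, h, false, false⟩ := theta_injective (by rw [map_mul, htheta, D.toPar.theta_z, hj, D.toPar.rot_q])
  have hcomm := D.toPar.side_comm hh hx hts
  have hz2 : (⟨h, h, false, false⟩ : El R) * ⟨h, h, false, false⟩ = 1 := by
    simp [El.mul_def, El.one_def, twist, hh]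
  have hxt2 : x * t * (x * t) = 1 := by
    rw [mul_assoc, ← mul_assoc t, ← hcomm, mul_assoc x t, ht2, ← mul_assoc, hx2, hz2]
  have hzs : theta (⟨h, h, false, false⟩ : El R) ∈ side hh := by rw [D.toPar.theta_z]; exact rot_mem hh h
  have hbad : ∀ w : El R, (w = 1 ∨ w = ⟨h, h, false, false⟩) → x * t ≠ w := by
    intro w hw e
    have h1 : t ∈ side hh := by
      rw [show t = x⁻¹ * w by rw [← e, inv_mul_cancel_left]]
      exact mul_mem (inv_mem hx) (D.toPar.zmem hh hw)
    rcases D.toPar.side_inf hh h1 hts with a | a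
    · rw [a, one_mul] at ht2; exact D.halves.h_ne (congrArg El.i ht2).symm
    · rw [a, hz2] at ht2; exact D.halves.h_ne (congrArg El.i ht2).symm
  obtain ⟨u, hu⟩ := D.one (x * t) hxt2 (hbad 1 (Or.inl rfl)) (mul_mem (D.toPar.side_even hh hx) hte)
    (hbad _ (Or.inr rfl))
  have hh0 : φ ⟨h, 0, false, false⟩ = φ j * φ t := by
    rw [← map_mul]
    congr 1
    simp [hj, ht, El.mul_def, twist, D.halves.two_q]
  rw [hh0, map_mul, show u * (φ x * φ t) * u⁻¹ = u * φ x * u⁻¹ * (u * φ t * u⁻¹) by group] at hu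
  have hinf := D.components.2.1
  have hjY : φ j ∈ comp hh φ := side_le_comp hh (rot_mem hh q)
  have htY : φ t ∈ comp hh (φ.comp theta) := by
    have := side_le_comp (φ := φ.comp theta) hh hts
    rwa [MonoidHom.comp_apply, theta_theta] at this
  have h1 : (φ j)⁻¹ * (u * φ x * u⁻¹) ∈ comp hh φ :=
    mul_mem (inv_mem hjY) ((comp_normal hh φ).conj_mem _ (side_le_comp hh hx) u)
  have h2 : φ t * (u * φ t * u⁻¹)⁻¹ ∈ comp hh (φ.comp theta) :=
    mul_mem htY (inv_mem ((comp_normal hh _).conj_mem _ htY u))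
  have e : (φ j)⁻¹ * (u * φ x * u⁻¹) = φ t * (u * φ t * u⁻¹)⁻¹ := by
    rw [eq_mul_inv_iff_mul_eq, mul_assoc, hu, inv_mul_cancel_left]
  have hz := hinf ⟨h1, e ▸ h2⟩
  haveI := D.zed_normal
  refine ⟨u, ?_, ?_⟩
  · have := D.zed_normal.conj_mem _ hz (φ j)
    rwa [mul_inv_cancel_left] at this
  · have := inv_mem (e ▸ hz : φ t * (u * φ t * u⁻¹)⁻¹ ∈ zed h φ)
    rwa [mul_inv_rev, inv_inv] at this

/-- A normal subgroup meeting the factor outside the centre contains it. -/
theorem Top.side_le (D : Top π h q r φ P) (N : Subgroup X) [N.Normal] {x : El R}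
    (hx : x ∈ side D.halves.two_h) (hx1 : x ≠ 1) (hxz : x ≠ ⟨h, h, false, false⟩) (hxN : φ x ∈ N) :
    comp D.halves.two_h φ ≤ N := by
  set hh := D.halves.two_h
  haveI : Fact (Nat.Prime 2) := ⟨Nat.prime_two⟩
  obtain ⟨j, hj⟩ := IsPGroup.iff_orderOf.1 P.2 ⟨φ x, D.mem x⟩
  rw [Subgroup.orderOf_mk, orderOf_injective φ D.inj] at hj
  obtain ⟨n, hn⟩ := D.toPar.exists_root hh hx hx1 hxz j (hj ▸ pow_orderOf_eq_one x)
  have hroot : φ (x ^ n) ∈ N := by rw [map_pow]; exact pow_mem hxN n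
  have hzN : φ ⟨h, h, false, false⟩ ∈ N := by rw [← hn, map_mul]; exact mul_mem hroot hroot
  have hzedN : zed h φ ≤ N := zpowers_le.2 hzN
  have hjN : φ ⟨q, q, false, false⟩ ∈ N := by
    obtain ⟨u, hu, -⟩ := D.root_conj (pow_mem hx n) hn
    have := mul_mem (inv_mem (hzedN hu)) (Subgroup.Normal.conj_mem inferInstance _ hroot u : u * φ (x ^ n) * u⁻¹ ∈ N)
    rwa [mul_inv_rev, inv_inv, inv_mul_cancel_right] at this
  have hall : ∀ y ∈ side hh, y * y = ⟨h, h, false, false⟩ → φ y ∈ N := by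
    intro y hy hy2
    obtain ⟨u, hu, -⟩ := D.root_conj hy hy2
    have h1 : u * φ y * u⁻¹ ∈ N := by
      have := mul_mem (hzedN hu) hjN
      rwa [inv_mul_cancel_right] at this
    have := Subgroup.Normal.conj_mem inferInstance _ h1 u⁻¹ (H := N)
    simpa [mul_assoc] using this
  have hrefl : ∀ a, φ ⟨a, a + h, true, true⟩ ∈ N := fun a =>
    hall _ ⟨rfl, by simp⟩ (D.toPar.refl_sq a)
  refine normalClosure_le_normal fun w hw => ?_
  obtain ⟨y, hy, rfl⟩ := Subgroup.mem_map.1 hw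
  rcases side_cases hh hy with e | e <;> rw [e]
  · rw [D.toPar.rot_prod, map_mul]; exact mul_mem (hrefl _) (hrefl _)
  · exact hrefl _

end Cfsg.Agent.Lib.G2Fong23
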