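import Cfsg.Agent.Lib.G2Fong23.Facts
import Cfsg.Agent.Lib.G2Fong23.AltSeven
import Cfsg.Agent.Lib.GWConsumers31.AutPSLTwo
import Cfsg.Agent.Lib.PushUpP.Psl
import Cfsg.Agent.Lib.Goldschmidt92.PSL
import Cfsg.Agent.S3099

/-!
# Identification of a perfect component (helper23)
-/

set_option autoImplicit false
set_option linter.style.haveILetI false
set_option linter.unusedSectionVars false

namespace Cfsg.Agent.Lib.G2Fong23

open Subgroup G2Fusion23
open scoped commutatorElement MatrixGroups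

section Generic

variable {L : Type*} [Group L]

/-- The centre of a copy of `SL(2, F)`. -/
theorem center_of_sl {F : Type} [Field F] (e : L ≃* SL(2, F)) {c : L} (hc : c ∈ center L) (hc1 : c ≠ 1)
    {x : L} (hx : x ∈ center L) : x = 1 ∨ x = c := by
  have hmem : ∀ y : L, y ∈ center L → e y ∈ center (SL(2, F)) := fun y hy => by
    rw [Subgroup.mem_center_iff] at hy ⊢
    intro g
    obtain ⟨g, rfl⟩ := e.surjective g
    rw [← map_mul, ← map_mul, hy g]
  rcases Goldschmidt92.center_cases (hmem x hx) with h | h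
  · exact Or.inl (e.injective (h.trans (map_one e).symm))
  · rcases Goldschmidt92.center_cases (hmem c hc) with h' | h'
    · exact absurd (e.injective (h'.trans (map_one e).symm)) hc1
    · exact Or.inr (e.injective (h.trans h'.symm))

/-- The map onto `PSL(2, F)`. -/
noncomputable def toPSL {F : Type} [Field F] (e : L ≃* SL(2, F)) :
    L →* Matrix.ProjectiveSpecialLinearGroup (Fin 2) F :=
  (QuotientGroup.mk' (center (SL(2, F)))).comp e.toMonoidHom

theorem toPSL_surjective {F : Type} [Field F] (e : L ≃* SL(2, F)) : Function.Surjective (toPSL e) :=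
  (QuotientGroup.mk'_surjective _).comp e.surjective

theorem toPSL_eq_one {F : Type} [Field F] (e : L ≃* SL(2, F)) {x : L} :
    toPSL e x = 1 ↔ x ∈ center L := by
  rw [show toPSL e x = QuotientGroup.mk' _ (e x) from rfl, QuotientGroup.mk'_apply, QuotientGroup.eq_one_iff]
  constructor
  · intro hx
    rw [Subgroup.mem_center_iff] at hx ⊢
    exact fun g => e.injective (by rw [map_mul, map_mul, hx (e g)])
  · intro hx
    rw [Subgroup.mem_center_iff] at hx ⊢
    intro g
    obtain ⟨g, rfl⟩ := e.surjective g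
    rw [← map_mul, ← map_mul, hx g]

/-- An automorphism passes to the quotient by the centre. -/
theorem exists_descend {A : Type*} [Group A] (f : L →* A) (hf : Function.Surjective f)
    (hker : ∀ x, f x = 1 ↔ x ∈ center L) (σ : MulAut L) : ∃ α : MulAut A, ∀ x, α (f x) = f (σ x) := by
  have hmap : ∀ (τ : MulAut L) (x : L), x ∈ center L → τ x ∈ center L := fun τ x hx => by
    rw [Subgroup.mem_center_iff] at hx ⊢
    intro g
    obtain ⟨g, rfl⟩ := τ.surjective g
    rw [← map_mul, ← map_mul, hx g]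
  have hiff : ∀ x, f x = 1 ↔ f (σ x) = 1 := fun x => by
    rw [hker, hker]
    exact ⟨hmap σ x, fun h => by simpa using hmap σ⁻¹ _ h⟩
  have hwd : ∀ x y, f x = f y ↔ f (σ x) = f (σ y) := fun x y => by
    rw [← mul_inv_eq_one, ← map_inv, ← map_mul, hiff, map_mul, map_mul, map_inv, map_inv, mul_inv_eq_one]
  let g : A → A := fun a => f (σ (Function.surjInv hf a))
  have hg : ∀ x, g (f x) = f (σ x) := fun x => (hwd _ _).1 (Function.surjInv_eq hf _)
  let gh : A →* A := MonoidHom.mk' g fun a b => by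
    obtain ⟨a, rfl⟩ := hf a
    obtain ⟨b, rfl⟩ := hf b
    rw [← map_mul, hg, hg, hg, map_mul, map_mul]
  have hbij : Function.Bijective gh := by
    refine ⟨fun a b hab => ?_, fun a => ?_⟩
    · obtain ⟨a, rfl⟩ := hf a
      obtain ⟨b, rfl⟩ := hf b
      exact (hwd a b).2 ((hg a).symm.trans (hab.trans (hg b)))
    · obtain ⟨a, rfl⟩ := hf a
      exact ⟨f (σ.symm a), (hg _).trans (by rw [MulEquiv.apply_symm_apply])⟩
  exact ⟨MulEquiv.ofBijective gh hbij, hg⟩

/-- An element central modulo the centre is central. -/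
theorem center_of_central_mod {F : Type} [Field F] (e : L ≃* SL(2, F)) {a : L}
    (ha : ∀ x, ⁅a, x⁆ ∈ center L) : a ∈ center L := by
  rw [← toPSL_eq_one e]
  have : toPSL e a ∈ center (Matrix.ProjectiveSpecialLinearGroup (Fin 2) F) := by
    rw [Subgroup.mem_center_iff]
    intro g
    obtain ⟨g, rfl⟩ := toPSL_surjective e g
    have := (toPSL_eq_one e).2 (ha g)
    rw [map_commutatorElement, commutatorElement_eq_one_iff_mul_comm] at this
    exact this.symm
  rwa [show center (Matrix.ProjectiveSpecialLinearGroup (Fin 2) F) = ⊥ from PushUpP.center_psl, mem_bot] at this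

/-- Commutators of the ambient group induce inner automorphisms modulo the centre. -/
theorem commutator_inner {X : Type*} [Group X] (N : Subgroup X) [N.Normal] {F : Type} [Field F] [Fintype F]
    (hodd : Odd (Fintype.card F)) (e : ↥N ≃* SL(2, F)) (a b : X) :
    ∃ y : N, ∀ x : N, (MulAut.conjNormal ⁅a, b⁆ x) * (y * x * y⁻¹)⁻¹ ∈ center N := by
  have hd := exists_descend (toPSL e) (toPSL_surjective e) (fun x => toPSL_eq_one e)
  obtain ⟨α, hα⟩ := hd (MulAut.conjNormal a)
  obtain ⟨β, hβ⟩ := hd (MulAut.conjNormal b)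
  have key : ∀ x, ⁅α, β⁆ (toPSL e x) = toPSL e (MulAut.conjNormal ⁅a, b⁆ x) := by
    have hinv : ∀ (γ : MulAut (Matrix.ProjectiveSpecialLinearGroup (Fin 2) F)) (g : X),
        (∀ x, γ (toPSL e x) = toPSL e (MulAut.conjNormal g x)) →
        ∀ x, γ⁻¹ (toPSL e x) = toPSL e (MulAut.conjNormal g⁻¹ x) := by
      intro γ g hγ x
      refine γ.injective ?_
      rw [MulAut.apply_inv_self, hγ, ← MulAut.mul_apply, ← map_mul, mul_inv_cancel, map_one]
      rfl
    intro x
    simp only [commutatorElement_def, map_mul, MulAut.mul_apply]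
    rw [hinv β b hβ, hinv α a hα, hβ, hα]
  obtain ⟨y', hy'⟩ := GWConsumers31.commutator_mem_inn hodd α β
  obtain ⟨y, rfl⟩ := toPSL_surjective e y'
  refine ⟨y, fun x => ?_⟩
  rw [← toPSL_eq_one e, map_mul, map_inv, ← key, ← hy', MulAut.conj_apply, map_mul, map_mul, map_inv,
    mul_inv_cancel]

end Generic

variable {R : Type*} [CommRing R] {π : R →+* ZMod 2} {h q : R} {r : ℕ}
variable {X : Type*} [Group X] [Finite X] [Finite R] {φ : El R →* X} {P : Sylow 2 X}

/-- The component is perfect or the factor is normal. -/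
theorem Top.perfect_or_normal (D : Top π h q r φ P) :
    ⁅comp D.halves.two_h φ, comp D.halves.two_h φ⁆ = comp D.halves.two_h φ ∨
      comp D.halves.two_h φ = (side D.halves.two_h).map φ := by
  haveI : Fact (Nat.Prime 2) := ⟨Nat.prime_two⟩
  set hh := D.halves.two_h
  set Y := comp hh φ with hY
  obtain ⟨hP1, -, -⟩ := D.components
  refine or_iff_not_imp_left.2 fun hnp => ?_
  -- the derived series
  set E : ℕ → Subgroup X := fun n => (derivedSeries Y n).map Y.subtype with hE
  have hEn : ∀ n, (E n).Normal := fun n => Cores.normal_map_subtype Y _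
  have hEsucc : ∀ n, E (n + 1) = ⁅E n, E n⁆ := fun n => by
    simp only [hE, derivedSeries_succ, Subgroup.map_commutator]
  have hYle : ∀ n, ¬ E n ≤ zed h φ → Y ≤ E n := by
    intro n hn
    haveI := hEn n
    by_contra hle
    refine hn (D.le_zed (E n) fun x hxP hxE => ?_)
    by_contra hxz
    obtain ⟨w, hw, rfl⟩ := Subgroup.mem_map.1
      (hP1 ▸ mem_inf.2 ⟨hxP, map_subtype_le _ hxE⟩ : x ∈ (side hh).map φ)
    exact hle (D.side_le (E n) hw (fun e => hxz (D.zed_image.2 (Or.inl e)))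
      (fun e => hxz (D.zed_image.2 (Or.inr e))) hxE)
  have hE0 : E 0 = Y := by simp [hE, ← MonoidHom.range_eq_map]
  have hcomm : ⁅Y, Y⁆ ≤ zed h φ := by
    by_contra hle
    refine hnp (le_antisymm ?_ ?_)
    · rw [Subgroup.commutator_le]
      exact fun a ha b hb => mul_mem (mul_mem (mul_mem ha hb) (inv_mem ha)) (inv_mem hb)
    · have := hYle 1 (by rw [hEsucc, hE0]; exact hle)
      rwa [hEsucc, hE0] at this
  -- the Sylow subgroup is normal
  set Q := (side hh).map φ with hQ
  have hQY : Q ≤ Y := subset_normalClosure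
  obtain ⟨T, hT⟩ := ProductFusion.exists_sylow_of_normal P Y
  haveI : ((T : Subgroup Y)).Normal := Subgroup.Normal.of_commutator_le Y (fun x hx => by
    rw [hT, mem_subgroupOf]
    refine D.zed_le_sylow (hcomm ?_)
    rw [← map_subtype_commutator]
    exact mem_map_of_mem Y.subtype hx)
  refine le_antisymm (fun y hy => ?_) hQY
  have hconj : ∀ g : X, ∀ w ∈ Q, g * w * g⁻¹ ∈ Q := by
    intro g w hw
    have hwP : w ∈ (P : Subgroup X) := by obtain ⟨x, -, rfl⟩ := Subgroup.mem_map.1 hw; exact D.mem x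
    set c : Y := ⟨g * w * g⁻¹, (comp_normal hh φ).conj_mem w (hQY hw) g⟩ with hc
    have hp : IsPGroup 2 ↥(zpowers c) := by
      obtain ⟨j, hj⟩ := IsPGroup.iff_orderOf.1 P.2 ⟨w, hwP⟩
      rw [Subgroup.orderOf_mk] at hj
      refine IsPGroup.of_card (n := j) ?_
      rw [Nat.card_zpowers, ← Subgroup.orderOf_coe]
      exact (orderOf_injective (MulAut.conj g).toMonoidHom (MulEquiv.injective _) w).trans hj
    have hT' := T.3 (hp.to_sup_of_normal_right T.2) le_sup_right
    have hcT : c ∈ (T : Subgroup Y) := hT'.le (mem_sup_left (mem_zpowers c))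
    rw [hT, mem_subgroupOf] at hcT
    rw [← hP1]
    exact ⟨hcT, c.2⟩
  haveI : Q.Normal := ⟨fun w hw g => hconj g w hw⟩
  exact normalClosure_le_normal (N := Q) (fun w hw => hw) hy

/-- A perfect component is `SL(2, F)`. -/
theorem Top.perfect_iso (D : Top π h q r φ P)
    (hperf : ⁅comp D.halves.two_h φ, comp D.halves.two_h φ⁆ = comp D.halves.two_h φ) :
    ∃ (F : Type) (_ : Field F) (_ : Fintype F), Odd (Fintype.card F) ∧
      Nonempty (↥(comp D.halves.two_h φ) ≃* Matrix.SpecialLinearGroup (Fin 2) F) := by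
  haveI : Fact (Nat.Prime 2) := ⟨Nat.prime_two⟩
  set hh := D.halves.two_h
  set Y := comp hh φ with hY
  set z := φ ⟨h, h, false, false⟩ with hz
  obtain ⟨hP1, -, -⟩ := D.components
  have hzY : z ∈ Y := D.z_mem_comp
  have hP : Group.IsPerfect Y := Subgroup.isPerfect_iff.2 hperf
  have hinY : ∀ x ∈ (P : Subgroup X), x ∈ Y → x * x = 1 → x ∈ zed h φ := by
    intro x hx hxY hx2
    obtain ⟨w, hw, rfl⟩ := Subgroup.mem_map.1 (hP1 ▸ mem_inf.2 ⟨hx, hxY⟩ : x ∈ (side hh).map φ)
    exact D.zed_image.2 (D.toPar.side_invol hh hw (D.sq_eq_one.1 hx2))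
  have hrank : Cfsg.PRankLE 2 1 Y := by
    intro A _ hA2
    have hp : IsPGroup 2 ↥(A.map Y.subtype) := by
      refine fun a => ⟨1, Subtype.ext ?_⟩
      obtain ⟨w, hw, hwa⟩ := Subgroup.mem_map.1 a.2
      rw [Subgroup.coe_pow, ← hwa, pow_one, ← map_pow, hA2 w hw, map_one]
      rfl
    obtain ⟨g, hg⟩ := ProductFusion.exists_conj_le P hp
    rw [pow_one, ← D.z_order, ← Nat.card_zpowers, ← Subgroup.card_map_of_injective Y.subtype_injective]
    refine Nat.card_le_card_of_injective (fun a => (⟨g * (a : X) * g⁻¹, ?_⟩ : zed h φ)) fun a b hab => ?_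
    · obtain ⟨w, hw, hwa⟩ := Subgroup.mem_map.1 a.2
      have haY : (a : X) ∈ Y := map_subtype_le _ a.2
      refine hinY _ (hg _ a.2) ((comp_normal hh φ).conj_mem _ haY g) ?_
      rw [show g * (a : X) * g⁻¹ * (g * (a : X) * g⁻¹) = g * ((a : X) * a) * g⁻¹ by group, ← hwa,
        ← map_mul, ← pow_two, hA2 w hw, map_one]
      group
    · exact Subtype.ext (by simpa using congrArg Subtype.val hab)
  have heven : Even (Nat.card Y) := by
    rw [even_iff_two_dvd, ← D.z_order, ← Subgroup.orderOf_mk z hzY]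
    exact orderOf_dvd_natCard _
  have hcore : Cfsg.oddCore Y = ⊥ := by
    haveI : (Cfsg.oddCore Y).Characteristic := Cores.pPrimeCore_characteristic 2
    haveI := Cores.normal_map_subtype Y (Cfsg.oddCore Y)
    have h1 : Odd (Nat.card ((Cfsg.oddCore Y).map Y.subtype)) := by
      rw [Subgroup.card_map_of_injective Y.subtype_injective]
      exact Cores.oddCore_odd
    have h2 := le_bot_iff.1 (D.core ▸ Cores.le_pPrimeCore (Nat.coprime_two_right.2 h1))
    exact (Subgroup.map_eq_bot_iff_of_injective _ Y.subtype_injective).1 h2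
  have eq0 : Y ≃* Y ⧸ Cfsg.oddCore Y :=
    ((QuotientGroup.quotientMulEquivOfEq hcore).trans QuotientGroup.quotientBot).symm
  rcases S3099.result hP hrank heven with ⟨F, iF, iF', hF, -, ⟨e⟩⟩ | ⟨hcard, ⟨e⟩, -⟩
  · exact ⟨F, iF, iF', hF, ⟨eq0.trans e⟩⟩
  exfalso
  -- the double cover of `A₇`
  let f : Y →* alternatingGroup (Fin 7) :=
    (e.toMonoidHom.comp (QuotientGroup.mk' _)).comp eq0.toMonoidHom
  have hf : Function.Surjective f := (e.surjective.comp (QuotientGroup.mk'_surjective _)).comp eq0.surjective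
  have hker : ∀ x, f x = 1 ↔ x ∈ center Y := by
    intro x
    rw [show f x = e (QuotientGroup.mk' _ (eq0 x)) from rfl, MulEquiv.map_eq_one_iff, QuotientGroup.mk'_apply,
      QuotientGroup.eq_one_iff, Subgroup.mem_center_iff, Subgroup.mem_center_iff]
    refine ⟨fun hx g => eq0.injective (by rw [map_mul, map_mul, hx]), fun hx g => ?_⟩
    obtain ⟨g, rfl⟩ := eq0.surjective g
    rw [← map_mul, ← map_mul, hx g]
  have hcenter : ∀ x : Y, x ∈ center Y → (x : X) ∈ zed h φ := by
    intro x hx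
    have h2 : x * x = 1 := by
      have hx' : eq0 x ∈ center (Y ⧸ Cfsg.oddCore Y) := by
        rw [Subgroup.mem_center_iff] at hx ⊢
        intro g
        obtain ⟨g, rfl⟩ := eq0.surjective g
        rw [← map_mul, ← map_mul, hx g]
      have hpc := pow_card_eq_one' (x := (⟨eq0 x, hx'⟩ : center (Y ⧸ Cfsg.oddCore Y)))
      rw [hcard] at hpc
      apply eq0.injective
      rw [map_mul, map_one, ← pow_two]
      exact congrArg Subtype.val hpc
    have hp : IsPGroup 2 ↥(zpowers (x : X)) := IsPGroup.of_card_dvd_pow (n := 1) (by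
      rw [Nat.card_zpowers]; exact orderOf_dvd_of_pow_eq_one (by
        rw [pow_one, pow_two, ← Subgroup.coe_mul, h2]; rfl))
    obtain ⟨g, hg⟩ := ProductFusion.exists_conj_le P hp
    have h3 := hinY _ (hg _ (mem_zpowers _)) ((comp_normal hh φ).conj_mem _ x.2 g) (by
      rw [show g * (x : X) * g⁻¹ * (g * (x : X) * g⁻¹) = g * ((x : X) * x) * g⁻¹ by group, ← Subgroup.coe_mul, h2]
      simp)
    have := D.zed_normal.conj_mem _ h3 g⁻¹
    simpa [mul_assoc] using this
  set ep := φ ⟨1, 0, false, false⟩ with hep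
  have hodd : (⟨1, 0, false, false⟩ : El R) ∉ even π := by rw [mem_even]; simp
  obtain ⟨α, hα⟩ := exists_descend f hf hker (MulAut.conjNormal ep)
  obtain ⟨m, hm⟩ := IsPGroup.iff_orderOf.1 P.2 ⟨ep, D.mem _⟩
  rw [Subgroup.orderOf_mk] at hm
  have hαk : ∀ k : ℕ, ∀ x, (α ^ k) (f x) = f (MulAut.conjNormal (ep ^ k) x) := by
    intro k
    induction k with
    | zero => intro x; simp
    | succ k ih =>
      intro x
      rw [pow_succ, MulAut.mul_apply, hα, ih, pow_succ, map_mul, MulAut.mul_apply]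
  have hα2 : α ^ 2 ^ m = 1 := MulEquiv.ext fun a => by
    obtain ⟨x, rfl⟩ := hf a
    rw [hαk, ← hm, pow_orderOf_eq_one, map_one]
    rfl
  obtain ⟨T, hT⟩ := ProductFusion.exists_sylow_of_normal P Y
  have hTY : ∀ x : Y, x ∈ (T : Subgroup Y) ↔ (x : X) ∈ (side hh).map φ := fun x => by
    rw [hT, mem_subgroupOf, ← hP1, mem_inf]
    exact ⟨fun h' => ⟨h', x.2⟩, fun h' => h'.1⟩
  set T' := T.mapSurjective hf with hT'
  have hTc : (T' : Subgroup (alternatingGroup (Fin 7))) = (T : Subgroup Y).map f := by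
    rw [hT', Sylow.coe_mapSurjective]
  have hnorm : ∀ x ∈ (T : Subgroup Y), MulAut.conjNormal ep x ∈ (T : Subgroup Y) := by
    intro x hx
    rw [hT, mem_subgroupOf] at hx ⊢
    rw [MulAut.conjNormal_apply]
    exact mul_mem (mul_mem (D.mem _) hx) (inv_mem (D.mem _))
  obtain ⟨d, hd, hdα⟩ := alt_seven_inner T' α hα2 (fun a ha => by
    rw [hTc] at ha ⊢
    obtain ⟨x, hx, rfl⟩ := Subgroup.mem_map.1 ha
    rw [hα]
    exact mem_map_of_mem f (hnorm x hx))
  rw [hTc] at hd
  obtain ⟨d, hdT, rfl⟩ := Subgroup.mem_map.1 hd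
  obtain ⟨w, hw, hwd⟩ := Subgroup.mem_map.1 ((hTY d).1 hdT)
  set y0 : El R := ⟨0, h, true, true⟩ with hy0
  have hy0s : y0 ∈ side hh := ⟨rfl, by simp [hy0]⟩
  set x : Y := ⟨φ y0, side_le_comp hh hy0s⟩ with hx
  have hxT : x ∈ (T : Subgroup Y) := (hTY x).2 (mem_map_of_mem φ hy0s)
  have h1 := hdα (f x) (hTc ▸ mem_map_of_mem f hxT)
  rw [hα, ← map_inv, ← map_mul, ← map_mul] at h1
  -- `d⁻¹ e` fixes `y₀` modulo the centre
  have h2 : f (d⁻¹ * MulAut.conjNormal ep x * d * x⁻¹) = 1 := by
    rw [map_mul, map_mul, map_mul, h1]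
    simp only [map_mul, map_inv]
    group
  have h3 := hcenter _ ((hker _).1 h2)
  have h4 : φ (w⁻¹ * ⟨1, 0, false, false⟩ * y0 * (w⁻¹ * ⟨1, 0, false, false⟩)⁻¹ * y0⁻¹) ∈ zed h φ := by
    convert h3 using 1
    rw [map_mul, map_mul, map_mul, map_mul, map_inv, map_inv, map_inv, map_mul, map_inv, hwd, ← hep]
    push_cast
    rw [MulAut.conjNormal_apply, hx]
    group
  have hwo : w⁻¹ * ⟨1, 0, false, false⟩ ∉ even π := fun hm' =>
    hodd ((Subgroup.mul_mem_cancel_left _ (inv_mem (D.toPar.side_even hh hw))).1 hm')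
  obtain ⟨n1, n2⟩ := D.toPar.odd_moves hwo
  rcases D.zed_image.1 h4 with e1 | e1
  · exact n1 e1
  · exact n2 e1

end Cfsg.Agent.Lib.G2Fong23
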