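import Cfsg.Agent.Lib.G2Fong23.Factor

/-!
# The two factors generate the derived subgroup (helper23)
-/

set_option autoImplicit false
set_option linter.style.haveILetI false
set_option linter.unusedSectionVars false

namespace Cfsg.Agent.Lib.G2Fong23

open Subgroup G2Fusion23
open scoped commutatorElement MatrixGroups

variable {R : Type*} [CommRing R] {π : R →+* ZMod 2} {h q : R} {r : ℕ}
variable {X : Type*} [Group X] [Finite X] [Finite R] {φ : El R →* X} {P : Sylow 2 X}

theorem Top.factor_z_mem (D : Top π h q r φ P) {L : Subgroup X} (hL : Factor h D.halves.two_h φ P L) :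
    zed h φ ≤ L := D.zed_le_side.trans hL.side_le

/-- Two factors commute. -/
theorem Top.factors_commute (D : Top π h q r φ P) {L M : Subgroup X}
    (hL : Factor h D.halves.two_h φ P L) (hM : Factor h D.halves.two_h (φ.comp theta) P M)
    {a : X} (ha : a ∈ L) {b : X} (hb : b ∈ M) : a * b = b * a := by
  set hh := D.halves.two_h
  haveI := hL.normal
  haveI := hM.normal
  have hLM : L ⊓ M ≤ zed h φ := D.le_zed _ fun x hxP hx => by
    obtain ⟨w, hw, rfl⟩ := Subgroup.mem_map.1 (hL.trace x hxP hx.1)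
    exact D.zed_image.2 (D.toPar.side_inf hh hw ((D.toAmb.mem_comp_theta_map hh).1 (hM.trace _ hxP hx.2)))
  refine D.commute_of_trace (fun x hx y hy => hLM (mem_inf.2 ⟨?_, ?_⟩)) (fun x hx hxP y hy => ?_) ha hb
  · rw [commutatorElement_def, show x * y * x⁻¹ * y⁻¹ = x * (y * x⁻¹ * y⁻¹) by group]
    exact mul_mem hx (hL.normal.conj_mem _ (inv_mem hx) y)
  · rw [commutatorElement_def]
    exact mul_mem (hM.normal.conj_mem _ hy x) (inv_mem hy)
  · obtain ⟨w, hw, rfl⟩ := Subgroup.mem_map.1 (hL.trace x hxP hx)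
    have := hM.cent y hy (φ w) (by rw [comp_theta_theta]; exact side_le_comp hh hw)
    exact this.symm

/-- An element of a factor central modulo `Z` is in `Z`. -/
theorem Top.factor_central (D : Top π h q r φ P) {L : Subgroup X}
    (hL : Factor h D.halves.two_h φ P L) {a : X} (ha : a ∈ L) (hc : ∀ x ∈ L, ⁅a, x⁆ ∈ zed h φ) :
    a ∈ zed h φ := by
  obtain ⟨F, iF, iF', -, ⟨e⟩⟩ := hL.iso
  have hz : φ ⟨h, h, false, false⟩ ∈ L := D.factor_z_mem hL (mem_zpowers _)
  have hzc : (⟨_, hz⟩ : L) ∈ center L := Subgroup.mem_center_iff.2 fun g => Subtype.ext (D.central g)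
  have h1 : (⟨a, ha⟩ : L) ∈ center L := center_of_central_mod e fun x => Subgroup.mem_center_iff.2 fun g =>
    Subtype.ext (by push_cast; exact (D.zed_central (hc x x.2)).1 g)
  rcases center_of_sl e hzc (fun e' => D.z_ne (congrArg Subtype.val e')) h1 with e' | e'
  · rw [show a = 1 from congrArg Subtype.val e']; exact one_mem _
  · rw [show a = φ ⟨h, h, false, false⟩ from congrArg Subtype.val e']; exact mem_zpowers _

/-- The commutators act on a factor as inner automorphisms modulo the centre. -/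
theorem Top.inner_on (D : Top π h q r φ P) {L : Subgroup X} (hL : Factor h D.halves.two_h φ P L)
    {g : X} (hg : g ∈ _root_.commutator X) :
    ∃ y ∈ L, ∀ x ∈ L, Eqv h φ (g * x * g⁻¹) (y * x * y⁻¹) := by
  obtain ⟨F, iF, iF', hF, ⟨e⟩⟩ := hL.iso
  haveI := hL.normal
  have hz : φ ⟨h, h, false, false⟩ ∈ L := D.factor_z_mem hL (mem_zpowers _)
  have hzc : (⟨_, hz⟩ : L) ∈ center L := Subgroup.mem_center_iff.2 fun g => Subtype.ext (D.central g)
  rw [commutator_eq_closure] at hg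
  induction hg using closure_induction with
  | mem g hg =>
    obtain ⟨a, b, rfl⟩ := hg
    obtain ⟨y, hy⟩ := commutator_inner L hF e a b
    refine ⟨y, y.2, fun x hx => ?_⟩
    rw [Eqv]
    rcases center_of_sl e hzc (fun e' => D.z_ne (congrArg Subtype.val e')) (hy ⟨x, hx⟩) with e' | e' <;>
      have e'' := congrArg Subtype.val e' <;> push_cast at e'' <;> rw [MulAut.conjNormal_apply] at e'' <;>
      rw [e'']
    · exact one_mem _
    · exact mem_zpowers _
  | one => exact ⟨1, one_mem _, fun x _ => Eqv.of_eq (by simp)⟩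
  | mul g k _ _ ihg ihk =>
    obtain ⟨y, hy, ey⟩ := ihg
    obtain ⟨y', hy', ey'⟩ := ihk
    refine ⟨y * y', mul_mem hy hy', fun x hx => ?_⟩
    refine Eqv.trans (Eqv.of_eq ?_) (((Eqv.conj D g (ey' x hx)).trans (ey (y' * x * y'⁻¹)
      (mul_mem (mul_mem hy' hx) (inv_mem hy')))).trans (Eqv.of_eq ?_)) <;> group
  | inv g _ ih =>
    obtain ⟨y, hy, ey⟩ := ih
    refine ⟨y⁻¹, inv_mem hy, fun x hx => ?_⟩
    have := Eqv.conj D g⁻¹ (ey (y⁻¹ * x * y) (mul_mem (mul_mem (inv_mem hy) hx) hy))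
    rw [show g⁻¹ * (g * (y⁻¹ * x * y) * g⁻¹) * g⁻¹⁻¹ = y⁻¹ * x * y by group,
      show g⁻¹ * (y * (y⁻¹ * x * y) * y⁻¹) * g⁻¹⁻¹ = g⁻¹ * x * g⁻¹⁻¹ by group] at this
    rw [inv_inv] at this
    simp only [inv_inv]
    exact this.symm

/-- The theorem in the quotient by the core. -/
theorem Top.exists_factors (D : Top π h q r φ P) : ∃ L M : Subgroup X, L.Normal ∧ M.Normal ∧
    (∃ (F : Type) (_ : Field F) (_ : Fintype F), Odd (Fintype.card F) ∧
      Nonempty (↥L ≃* Matrix.SpecialLinearGroup (Fin 2) F)) ∧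
    (∃ (F : Type) (_ : Field F) (_ : Fintype F), Odd (Fintype.card F) ∧
      Nonempty (↥M ≃* Matrix.SpecialLinearGroup (Fin 2) F)) ∧
    ⁅L, M⁆ = ⊥ ∧ L ⊔ M = _root_.commutator X := by
  set hh := D.halves.two_h
  obtain ⟨L, hL⟩ := D.exists_factor
  obtain ⟨M, hM⟩ := D.comp_theta.exists_factor
  haveI := hL.normal
  haveI := hM.normal
  haveI := D.zed_normal
  refine ⟨L, M, hL.normal, hM.normal, hL.iso, hM.iso, ?_, le_antisymm (sup_le hL.le_comm hM.le_comm) ?_⟩
  · exact le_bot_iff.1 (Subgroup.commutator_le.2 fun a ha b hb =>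
      mem_bot.2 (commutatorElement_eq_one_iff_mul_comm.2 (D.factors_commute hL hM ha hb)))
  -- the centraliser modulo `Z` is trivial
  let N : Subgroup X :=
    { carrier := {g | ∀ x ∈ L ⊔ M, Eqv h φ (g * x * g⁻¹) x}
      one_mem' := fun x _ => Eqv.of_eq (by simp)
      mul_mem' := fun {g k} hg hk x hx =>
        Eqv.trans (Eqv.of_eq (by group)) ((Eqv.conj D g (hk x hx)).trans (hg x hx))
      inv_mem' := fun {g} hg x hx => by
        have := Eqv.conj D g⁻¹ (hg x hx).symm
        rwa [show g⁻¹ * (g * x * g⁻¹) * g⁻¹⁻¹ = x by group] at this }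
  haveI : N.Normal := ⟨fun g hg k x hx => by
    have := Eqv.conj D k (hg _ ((Subgroup.Normal.conj_mem (inferInstance : (L ⊔ M).Normal) x hx k⁻¹)))
    refine Eqv.trans (Eqv.of_eq ?_) (this.trans (Eqv.of_eq ?_)) <;> group⟩
  have hN : N ≤ zed h φ := D.le_zed N fun x hxP hx => by
    obtain ⟨w, rfl⟩ := D.exists_eq hxP
    have hy0 : (⟨0, h, true, true⟩ : El R) ∈ side hh := ⟨rfl, by simp⟩
    by_cases hw : w ∈ even π
    · obtain ⟨a, b, ha, hb, rfl⟩ := D.toPar.decomp hh hw
      have haL : φ a ∈ L := hL.side_le (mem_map_of_mem φ ha)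
      have hbM : φ b ∈ M := hM.side_le ((D.toAmb.mem_comp_theta_map hh).2 hb)
      rw [map_mul] at hx ⊢
      refine mul_mem (D.factor_central hL haL fun y hy => ?_) ?_
      · have := hx y (mem_sup_left hy)
        rw [show φ a * φ b * y * (φ a * φ b)⁻¹ = φ a * (φ b * y * (φ b)⁻¹) * (φ a)⁻¹ by group,
          ← D.factors_commute hL hM hy hbM, mul_inv_cancel_right] at this
        exact this
      · rw [← zed_theta D]
        refine D.comp_theta.factor_central hM hbM fun y hy => ?_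
        have := hx y (mem_sup_right hy)
        rw [show φ a * φ b * y * (φ a * φ b)⁻¹ = φ a * (φ b * y * (φ b)⁻¹) * (φ a)⁻¹ by group,
          D.factors_commute hL hM haL (mul_mem (mul_mem hbM hy) (inv_mem hbM)), mul_inv_cancel_right] at this
        rw [zed_theta D]
        exact this
    · exfalso
      have := hx _ (mem_sup_left (hL.side_le (mem_map_of_mem φ hy0)))
      rw [Eqv, ← map_inv, ← map_inv, ← map_mul, ← map_mul, ← map_mul, D.zed_image] at this
      obtain ⟨n1, n2⟩ := D.toPar.odd_moves hw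
      exact this.elim n1 n2
  intro g hg
  obtain ⟨y, hy, ey⟩ := D.inner_on hL hg
  obtain ⟨y', hy', ey'⟩ := D.comp_theta.inner_on hM hg
  have ey'' : ∀ x ∈ M, Eqv h φ (g * x * g⁻¹) (y' * x * y'⁻¹) := fun x hx => by
    have := ey' x hx
    rwa [Eqv, zed_theta D] at this
  have hgN : (y * y')⁻¹ * g ∈ N := by
    intro x hx
    obtain ⟨a, ha, b, hb, rfl⟩ := (Subgroup.mem_sup_of_normal_left (s := L)).1 hx
    have e1 : Eqv h φ ((y * y')⁻¹ * g * a * ((y * y')⁻¹ * g)⁻¹) a := by
      refine Eqv.trans (Eqv.of_eq ?_) ((Eqv.conj D (y * y')⁻¹ (ey a ha)).trans (Eqv.of_eq ?_))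
      · group
      · rw [show (y * y')⁻¹ * (y * a * y⁻¹) * (y * y')⁻¹⁻¹ = y'⁻¹ * (a * y') by group,
          D.factors_commute hL hM ha hy', inv_mul_cancel_left]
    have e2 : Eqv h φ ((y * y')⁻¹ * g * b * ((y * y')⁻¹ * g)⁻¹) b := by
      refine Eqv.trans (Eqv.of_eq ?_) ((Eqv.conj D (y * y')⁻¹ (ey'' b hb)).trans (Eqv.of_eq ?_))
      · group
      · rw [show (y * y')⁻¹ * (y' * b * y'⁻¹) * (y * y')⁻¹⁻¹ =
            y'⁻¹ * (y⁻¹ * (y' * b * y'⁻¹)) * (y * y') by group,
          D.factors_commute hL hM (inv_mem hy) (mul_mem (mul_mem hy' hb) (inv_mem hy'))]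
        group
    rw [show (y * y')⁻¹ * g * (a * b) * ((y * y')⁻¹ * g)⁻¹ =
      ((y * y')⁻¹ * g * a * ((y * y')⁻¹ * g)⁻¹) * ((y * y')⁻¹ * g * b * ((y * y')⁻¹ * g)⁻¹) by group]
    exact Eqv.mul D e1 e2
  have := mul_mem (mul_mem (mem_sup_left hy : y ∈ L ⊔ M) (mem_sup_right hy'))
    (mem_sup_left (D.factor_z_mem hL (hN hgN)))
  rwa [mul_inv_cancel_left] at this

end Cfsg.Agent.Lib.G2Fong23
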