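import Cfsg.Agent.Lib.G2Fong23.Cent
import Cfsg.Agent.Lib.G2Fong23.Tools

/-!
# The classes of involutions in the centraliser of the central involution (helper23)
-/

set_option autoImplicit false
set_option linter.style.haveILetI false

set_option linter.unusedSectionVars false

namespace Cfsg.Agent.Lib.G2Fong23

open Subgroup G2Fusion23
open scoped Pointwise

variable {R : Type*} [CommRing R] [Finite R] {G : Type*} [Group G] [Finite G]

/-- The global set-up. -/
structure Glob (π : R →+* ZMod 2) (h q : R) (r : ℕ) (φ : El R →* G) (S : Sylow 2 G) : Prop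
    extends Par π h q r where
  inj : Function.Injective φ
  range : φ.range = (S : Subgroup G)
  four : 4 ≤ Nat.card R
  oneClass : ∀ x y : G, x * x = 1 → x ≠ 1 → y * y = 1 → y ≠ 1 → IsConj x y
  even_keep : ∀ x : El R, x ∈ even π → ∀ c : G, Commute c (φ ⟨h, h, false, false⟩) →
    ∀ y : El R, c * φ x * c⁻¹ = φ y → y ∈ even π

variable {π : R →+* ZMod 2} {h q : R} {r : ℕ} {φ : El R →* G} {S : Sylow 2 G}

theorem Glob.mem (D : Glob π h q r φ S) (x : El R) : φ x ∈ (S : Subgroup G) := D.range ▸ ⟨x, rfl⟩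

theorem Glob.exists_eq (D : Glob π h q r φ S) {g : G} (hg : g ∈ (S : Subgroup G)) : ∃ x, φ x = g := by
  rw [← D.range] at hg
  exact hg

theorem Glob.inv2 (D : Glob π h q r φ S) {x : El R} (hx : x * x = 1) (hx1 : x ≠ 1) :
    φ x * φ x = 1 ∧ φ x ≠ 1 :=
  ⟨by rw [← map_mul, hx, map_one], fun e => hx1 (D.inj (e.trans (map_one φ).symm))⟩

theorem Glob.invol (_D : Glob π h q r φ S) {a : R} (ha : a + a = 0) (b : R) (hb : b + b = 0) :
    (⟨a, b, false, false⟩ : El R) * ⟨a, b, false, false⟩ = 1 := by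
  simp [El.mul_def, El.one_def, twist, ha, hb]

theorem Glob.z_comm (D : Glob π h q r φ S) {g : G} (hg : g ∈ (S : Subgroup G)) :
    Commute g (φ ⟨h, h, false, false⟩) := by
  obtain ⟨y, rfl⟩ := D.exists_eq hg
  exact (show Commute y (⟨h, h, false, false⟩ : El R) from zed_central D.halves y).map φ

/-- A conjugate moves an involution to the centre, and a 2-subgroup centralising it into `S`. -/
theorem Glob.exists_into (D : Glob π h q r φ S) {y : G} (hy : y * y = 1) (hy1 : y ≠ 1) (Q : Subgroup G)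
    (hQ : IsPGroup 2 Q) (hQy : ∀ a ∈ Q, Commute a y) :
    ∃ m : G, m * y * m⁻¹ = φ ⟨h, h, false, false⟩ ∧ ∀ a ∈ Q, m * a * m⁻¹ ∈ (S : Subgroup G) := by
  haveI : Fact (Nat.Prime 2) := ⟨Nat.prime_two⟩
  obtain ⟨z1, z2⟩ := D.inv2 (D.invol D.halves.two_h h D.halves.two_h) fun e => D.halves.h_ne (congrArg El.i e)
  obtain ⟨g, hg⟩ := isConj_iff.1 (D.oneClass _ y z1 z2 hy hy1)
  set C := centralizer ({y} : Set G) with hC
  have hgS : (g • S : Sylow 2 G).toSubgroup ≤ C := by
    intro a ha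
    have h2 : a ∈ MulAut.conj g • (S : Subgroup G) := ha
    rw [Subgroup.mem_pointwise_smul_iff_inv_smul_mem] at h2
    have h1 : g⁻¹ * a * g ∈ (S : Subgroup G) := by simpa using h2
    rw [hC, mem_centralizer_singleton_iff, ← hg]
    calc a * (g * φ ⟨h, h, false, false⟩ * g⁻¹) = g * ((g⁻¹ * a * g) * φ ⟨h, h, false, false⟩) * g⁻¹ := by group
      _ = g * (φ ⟨h, h, false, false⟩ * (g⁻¹ * a * g)) * g⁻¹ := by rw [(D.z_comm h1).eq]
      _ = g * φ ⟨h, h, false, false⟩ * g⁻¹ * a := by group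
  let T : Sylow 2 C := (g • S : Sylow 2 G).subtype hgS
  have hQC : Q ≤ C := fun a ha => mem_centralizer_singleton_iff.2 (hQy a ha)
  obtain ⟨k, hk⟩ := ProductFusion.exists_conj_le T
    (hQ.comap_of_injective C.subtype Subtype.val_injective : IsPGroup 2 ↥(Q.comap C.subtype))
  refine ⟨g⁻¹ * k, ?_, fun a ha => ?_⟩
  · rw [show g⁻¹ * (k : G) * y * (g⁻¹ * (k : G))⁻¹ = g⁻¹ * ((k : G) * y * (k : G)⁻¹) * g by group,
      mem_centralizer_singleton_iff.1 k.2, mul_inv_cancel_right, ← hg]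
    group
  · have h1 := hk ⟨a, hQC ha⟩ (mem_comap.2 ha)
    have h2 : (k : G) * a * (k : G)⁻¹ ∈ MulAut.conj g • (S : Subgroup G) := h1
    rw [Subgroup.mem_pointwise_smul_iff_inv_smul_mem] at h2
    simpa [mul_assoc] using h2

theorem Glob.pgroup_map (D : Glob π h q r φ S) (H : Subgroup (El R)) : IsPGroup 2 ↥(H.map φ) :=
  IsPGroup.to_le S.2 fun a ha => by obtain ⟨a, -, rfl⟩ := Subgroup.mem_map.1 ha; exact D.mem a

/-- An involution of `S` with a large centraliser is a translation. -/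
theorem Glob.big_central (D : Glob π h q r φ S) {a : El R} (ha : a * a = 1) (ha1 : a ≠ 1)
    (H : Subgroup (El R)) (hH : 2 * Nat.card R ^ 2 ≤ Nat.card H) (hc : ∀ y ∈ H, Commute y a) :
    IsZ0 h a := by
  by_contra h0
  have h1 := Nat.card_le_card_of_injective _ (inclusion_injective
    (show H ≤ centralizer ({a} : Set (El R)) from fun y hy => mem_centralizer_singleton_iff.2 (hc y hy)))
  have h2 := D.card_centralizer D.four ha ha1 h0
  omega

omit [Finite R] in
theorem El.card_lKer : 2 * Nat.card (lHom (R := R)).ker = Nat.card (El R) := by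
  have := Subgroup.card_mul_index (lHom (R := R)).ker
  rw [lHom_index] at this
  omega

theorem El.card_lKer' : 2 * Nat.card R ^ 2 ≤ Nat.card (lHom (R := R)).ker := by
  have h1 := El.card_lKer (R := R)
  have h2 : Nat.card (El R) = 4 * Nat.card R ^ 2 := by
    rw [Nat.card_congr El.equivProd]; simp [Nat.card_prod]; ring
  omega

omit [Finite R] in
theorem commute_lKer {h' k' : R} {y : El R} (hy : y ∈ (lHom (R := R)).ker)
    (h1 : -h' = h') (h2 : -k' = k') : Commute y (⟨h', k', false, false⟩ : El R) := by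
  rw [mem_lHom] at hy
  obtain ⟨i, j, k, l⟩ := y
  simp only at hy
  subst hy
  cases k <;> simp [commute_iff_eq, El.mul_def, twist, h1, h2, add_comm]

/-- `h₀` goes to the centre by an element stabilising the translations. -/
theorem Glob.exists_g0 (D : Glob π h q r φ S) : ∃ g : G,
    g * φ ⟨h, 0, false, false⟩ * g⁻¹ = φ ⟨h, h, false, false⟩ := by
  obtain ⟨x1, x2⟩ := D.inv2 (D.invol D.halves.two_h 0 (add_zero 0)) fun e => D.halves.h_ne (congrArg El.i e)
  obtain ⟨y1, y2⟩ := D.inv2 (D.invol D.halves.two_h h D.halves.two_h) fun e => D.halves.h_ne (congrArg El.i e)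
  exact isConj_iff.1 (D.oneClass _ _ x1 x2 y1 y2)

/-- An even inversion is conjugate under `C(z)` to `h₀`. -/
theorem Glob.inversion_conj (D : Glob π h q r φ S) {c d : R}
    (he : (⟨c, d, true, false⟩ : El R) ∈ even π) :
    ∃ u : G, Commute u (φ ⟨h, h, false, false⟩) ∧
      u * φ ⟨c, d, true, false⟩ * u⁻¹ = φ ⟨h, 0, false, false⟩ := by
  set z := φ ⟨h, h, false, false⟩ with hz
  set a := φ ⟨h, 0, false, false⟩ with ha
  set v : El R := ⟨c, d, true, false⟩ with hv
  have hn := D.halves.neg_h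
  have hv2 : v * v = 1 := by simp [hv, El.mul_def, El.one_def, twist]
  have hv1 : v ≠ 1 := fun e => Bool.noConfusion (congrArg El.k e)
  obtain ⟨g, hgv, hgQ⟩ := D.exists_into (D.inv2 hv2 hv1).1 (D.inv2 hv2 hv1).2
    ((centralizer ({v} : Set (El R))).map φ) (D.pgroup_map _) fun x hxm => by
      obtain ⟨x', hx', rfl⟩ := Subgroup.mem_map.1 hxm
      exact (show Commute x' v from mem_centralizer_singleton_iff.1 hx').map φ
  have hQz : ∀ h' k' : R, -h' = h' → -k' = k' → g * φ ⟨h', k', false, false⟩ * g⁻¹ ∈ (S : Subgroup G) :=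
    fun h' k' e1 e2 => hgQ _ (Subgroup.mem_map_of_mem φ (mem_centralizer_singleton_iff.2
      (commute_lKer (mem_lHom.2 rfl) e1 e2).symm.eq))
  obtain ⟨y, hy⟩ := D.exists_eq (hQz h h hn hn)
  obtain ⟨x, hx⟩ := D.exists_eq (hQz h 0 hn neg_zero)
  have inj : ∀ {s t : G}, g * s * g⁻¹ = g * t * g⁻¹ → s = t := fun e => by simpa using e
  have hy2 : y * y = 1 := D.inj (by
    rw [map_mul, map_one, hy, show g * φ ⟨h, h, false, false⟩ * g⁻¹ * (g * φ ⟨h, h, false, false⟩ * g⁻¹) =
      g * (φ ⟨h, h, false, false⟩ * φ ⟨h, h, false, false⟩) * g⁻¹ by group, ← map_mul,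
      D.invol D.halves.two_h h D.halves.two_h, map_one]
    group)
  have hx2 : x * x = 1 := D.inj (by
    rw [map_mul, map_one, hx, show g * φ ⟨h, 0, false, false⟩ * g⁻¹ * (g * φ ⟨h, 0, false, false⟩ * g⁻¹) =
      g * (φ ⟨h, 0, false, false⟩ * φ ⟨h, 0, false, false⟩) * g⁻¹ by group, ← map_mul,
      D.invol D.halves.two_h 0 (add_zero 0), map_one]
    group)
  have hne : ∀ u : El R, u ≠ ⟨h, h, false, false⟩ → φ u ≠ z := fun u hu e => hu (D.inj e)
  have hy1 : y ≠ 1 := fun e => D.halves.h_ne (congrArg El.i (D.inj (inj (show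
    g * φ ⟨h, h, false, false⟩ * g⁻¹ = g * φ 1 * g⁻¹ by rw [← hy, e]; simp))))
  have hyz : y ≠ ⟨h, h, false, false⟩ := fun e => Bool.noConfusion (congrArg El.k (D.inj (inj (show
    g * φ v * g⁻¹ = g * φ ⟨h, h, false, false⟩ * g⁻¹ by rw [← hy, e, hgv]))))
  -- the fused elements of `S`
  have back : ∀ s : El R, ∀ w : El R, ∀ t t' : G, g * t * g⁻¹ = φ w → g * t' * g⁻¹ = φ (s * w * s⁻¹) →
      (g⁻¹ * φ s * g) * t * (g⁻¹ * φ s * g)⁻¹ = t' := by
    intro s w t t' e e'
    rw [map_mul, map_mul, map_inv, ← e] at e'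
    calc (g⁻¹ * φ s * g) * t * (g⁻¹ * φ s * g)⁻¹ = g⁻¹ * (φ s * (g * t * g⁻¹) * (φ s)⁻¹) * g := by group
      _ = g⁻¹ * (g * t' * g⁻¹) * g := by rw [← e']
      _ = t' := by group
  have hfixz : ∀ s : El R, s * ⟨h, h, false, false⟩ * s⁻¹ = ⟨h, h, false, false⟩ := fun s => by
    rw [zed_central D.halves, mul_inv_cancel_right]
  have hgvz : g * φ v * g⁻¹ = φ ⟨h, h, false, false⟩ := hgv
  have hmulz : ∀ t : G, ∀ w : El R, g * t * g⁻¹ = φ w →
      g * (t * φ v) * g⁻¹ = φ (w * ⟨h, h, false, false⟩) := fun t w e => by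
    rw [map_mul, ← e, ← hgvz]; group
  suffices H : ∃ u : G, Commute u z ∧
      (u * a * u⁻¹ = a * φ v ∨ u * a * u⁻¹ = φ ⟨0, h, false, false⟩ * φ v) by
    obtain ⟨u, hu, e⟩ := H
    have hs : ∀ s : El R, ∀ w : El R, s * v * s⁻¹ = w → u * a * u⁻¹ = φ w →
        ∃ u : G, Commute u z ∧ u * φ v * u⁻¹ = a := by
      intro s w e1 e2
      refine ⟨u⁻¹ * φ s, hu.inv_left.mul_left (D.z_comm (D.mem s)), ?_⟩
      rw [show u⁻¹ * φ s * φ v * (u⁻¹ * φ s)⁻¹ = u⁻¹ * (φ s * φ v * (φ s)⁻¹) * u by group,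
        ← map_inv, ← map_mul, ← map_mul, e1, ← e2]
      group
    rcases e with e | e
    · refine hs ⟨q, 0, false, false⟩ (⟨h, 0, false, false⟩ * v) ?_ (by rw [e, map_mul])
      simp [hv, El.mul_def, El.inv_def, twist]
      linear_combination D.halves.two_q
    · refine hs ⟨0, q, false, false⟩ (⟨0, h, false, false⟩ * v) ?_ (by rw [e, map_mul])
      simp [hv, El.mul_def, El.inv_def, twist]
      linear_combination D.halves.two_q
  by_cases hyZ : IsZ0 h y
  · -- `x` is outside the translations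
    have hxZ : ¬ IsZ0 h x := by
      have hy' : y = ⟨h, 0, false, false⟩ ∨ y = ⟨0, h, false, false⟩ := hyZ.resolve_left hyz
      intro hxZ
      have h3 : x = ⟨h, h, false, false⟩ ∨ x = y ∨ x = y * ⟨h, h, false, false⟩ := by
        rcases hy' with rfl | rfl <;> rcases hxZ with rfl | rfl | rfl <;>
          simp [El.mul_def, twist, D.halves.two_h]
      rcases h3 with e | e | e
      · have := D.inj (inj (show g * φ ⟨h, 0, false, false⟩ * g⁻¹ = g * φ v * g⁻¹ by rw [← hx, e, hgvz]))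
        exact Bool.noConfusion (congrArg El.k this)
      · exact D.halves.h_ne (congrArg El.j (D.inj (inj (show
          g * φ ⟨h, h, false, false⟩ * g⁻¹ = g * φ ⟨h, 0, false, false⟩ * g⁻¹ by rw [← hx, e, hy]))))
      · have h4 := inj ((hmulz _ y hy.symm).trans (e ▸ hx))
        rw [← map_mul] at h4
        exact Bool.noConfusion (congrArg El.k (D.inj h4))
    have hx1 : x ≠ 1 := fun e => D.halves.h_ne (congrArg El.i (D.inj (inj (show
      g * φ ⟨h, 0, false, false⟩ * g⁻¹ = g * φ 1 * g⁻¹ by rw [← hx, e]; simp))))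
    obtain ⟨s, hsx, hs0, -⟩ := D.exists_shift hx2 hx1 hxZ
    refine ⟨g⁻¹ * φ s * g, ?_, Or.inl ?_⟩
    · exact mul_inv_eq_iff_eq_mul.1 (back s y _ _ hy.symm (by rw [hs0 y hyZ, hy]))
    · exact back s x _ _ hx.symm (by rw [hsx]; exact hmulz _ _ hx.symm)
  · obtain ⟨s, hsy, -, hsnear⟩ := D.exists_shift hy2 hy1 hyZ
    set p := g⁻¹ * φ s * g with hp
    have pz : p * z * p⁻¹ = z * φ v := back s y _ _ hy.symm (by rw [hsy]; exact hmulz _ _ hy.symm)
    have pv : p * φ v * p⁻¹ = φ v := back s ⟨h, h, false, false⟩ _ _ hgvz (by rw [hfixz]; exact hgvz)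
    have pa : p * a * p⁻¹ = a ∨ p * a * p⁻¹ = a * φ v := by
      rcases hsnear x hx2 with e | e
      · exact Or.inl (back s x _ _ hx.symm (by rw [e, hx]))
      · exact Or.inr (back s x _ _ hx.symm (by rw [e]; exact hmulz _ _ hx.symm))
    obtain ⟨s₀, hs₀v, hs₀a⟩ := D.exists_swap he
    set w := φ s₀ with hw
    have wv : w * φ v * w⁻¹ = φ v := by rw [hw, ← map_inv, ← map_mul, ← map_mul, hv, hs₀v]
    have wa : w * a * w⁻¹ = a * z := by
      rw [hw, ha, hz, ← map_inv, ← map_mul, ← map_mul, hs₀a, ← map_mul]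
      congr 1
      simp [El.mul_def, twist, D.halves.two_h]
    have wz : Commute w z := D.z_comm (D.mem _)
    have hzz : z * z = 1 := by rw [hz, ← map_mul, D.invol D.halves.two_h h D.halves.two_h, map_one]
    have hvv : φ v * φ v = 1 := (D.inv2 hv2 hv1).1
    have hzv : Commute z (φ v) := (D.z_comm (D.mem v)).symm
    have pzi : p⁻¹ * z * p = z * φ v := by
      have e1 : p * (z * φ v) * p⁻¹ = z := by
        rw [show p * (z * φ v) * p⁻¹ = p * z * p⁻¹ * (p * φ v * p⁻¹) by group, pz, pv, mul_assoc, hvv, mul_one]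
      nth_rewrite 1 [← e1]
      group
    refine ⟨p⁻¹ * w * p, ?_, Or.inr ?_⟩
    · refine mul_inv_eq_iff_eq_mul.1 ?_
      calc p⁻¹ * w * p * z * (p⁻¹ * w * p)⁻¹ = p⁻¹ * (w * (p * z * p⁻¹) * w⁻¹) * p := by group
        _ = p⁻¹ * ((w * z * w⁻¹) * (w * φ v * w⁻¹)) * p := by rw [pz]; group
        _ = p⁻¹ * (z * φ v) * p := by rw [wz.eq, mul_inv_cancel_right, wv]
        _ = (p⁻¹ * z * p) * (p⁻¹ * φ v * p) := by group
        _ = z * φ v * φ v := by rw [pzi]; nth_rewrite 2 [← pv]; group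
        _ = z := by rw [mul_assoc, hvv, mul_one]
    · have e1 : w * (p * a * p⁻¹) * w⁻¹ = p * a * p⁻¹ * z := by
        rcases pa with e | e <;> rw [e]
        · exact wa
        · calc w * (a * φ v) * w⁻¹ = w * a * w⁻¹ * (w * φ v * w⁻¹) := by group
            _ = a * φ v * z := by rw [wa, wv, mul_assoc, mul_assoc, hzv.eq]
      calc p⁻¹ * w * p * a * (p⁻¹ * w * p)⁻¹ = p⁻¹ * (w * (p * a * p⁻¹) * w⁻¹) * p := by group
        _ = a * (p⁻¹ * z * p) := by rw [e1]; group
        _ = φ ⟨0, h, false, false⟩ * φ v := by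
          rw [pzi, ← mul_assoc, ha, hz, ← map_mul]
          congr 2
          simp [El.mul_def, twist, D.halves.two_h]

/-- Every even involution other than `z` is conjugate under `C(z)` to `h₀`. -/
theorem Glob.one_class_centralizer (D : Glob π h q r φ S) {x : El R} (hx : x * x = 1) (hx1 : x ≠ 1)
    (he : x ∈ even π) (hxz : x ≠ ⟨h, h, false, false⟩) :
    ∃ u : G, Commute u (φ ⟨h, h, false, false⟩) ∧ u * φ x * u⁻¹ = φ ⟨h, 0, false, false⟩ := by
  haveI : Fact (Nat.Prime 2) := ⟨Nat.prime_two⟩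
  set z := φ ⟨h, h, false, false⟩ with hz
  set a := φ ⟨h, 0, false, false⟩ with ha
  have hn := D.halves.neg_h
  -- the case without swap
  have easy : ∀ x : El R, x * x = 1 → x ≠ 1 → x ∈ even π → x ≠ ⟨h, h, false, false⟩ → x.l = false →
      ∃ u : G, Commute u z ∧ u * φ x * u⁻¹ = a := by
    intro x hx hx1 he hxz hl
    rcases sq_cases D.halves hx hx1 with rfl | rfl | rfl | ⟨ek, el⟩ | ⟨b, rfl⟩ | ⟨b, rfl⟩
    · exact absurd rfl hxz
    · exact ⟨1, Commute.one_left _, by rw [one_mul, inv_one, mul_one]⟩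
    · refine ⟨φ ⟨0, 0, false, true⟩, D.z_comm (D.mem _), ?_⟩
      rw [ha, ← map_inv, ← map_mul, ← map_mul]
      congr 1
      simp [El.mul_def, El.inv_def, twist]
    · obtain ⟨c, d, k, l⟩ := x
      simp only at ek el
      subst ek el
      exact D.inversion_conj he
    · exact Bool.noConfusion hl
    · exact Bool.noConfusion hl
  by_cases hl : x.l = false
  · exact easy x hx hx1 he hxz hl
  obtain ⟨c, d, hve, hcomm⟩ := D.exists_inversion (by simpa using hl) hx
  obtain ⟨n, hn1, hn2⟩ := D.inversion_conj hve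
  set t := n * φ x * n⁻¹ with ht
  have hta : Commute t a := by
    rw [ht, show a = n * φ ⟨c, d, true, false⟩ * n⁻¹ from hn2.symm]
    exact ((show Commute x _ from hcomm).map φ).map (MulAut.conj n)
  have htz : Commute t z := (hn1.mul_left (D.z_comm (D.mem x))).mul_left hn1.inv_left
  set H := centralizer ({z, a} : Set G) with hH
  have hmemH : ∀ g : G, g ∈ H ↔ Commute g z ∧ Commute g a := fun g => by
    rw [hH, mem_centralizer_iff]
    simp [commute_iff_eq, eq_comm]
  have hT0 : ((lHom (R := R)).ker).map φ ≤ H := by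
    intro g hg
    obtain ⟨y, hy, rfl⟩ := Subgroup.mem_map.1 hg
    exact (hmemH _).2 ⟨(commute_lKer hy hn hn).map φ, (commute_lKer hy hn neg_zero).map φ⟩
  have ht2 : t * t = 1 := by
    rw [ht, show n * φ x * n⁻¹ * (n * φ x * n⁻¹) = n * (φ x * φ x) * n⁻¹ by group, (D.inv2 hx hx1).1]
    group
  obtain ⟨Q, hQt⟩ : ∃ Q : Sylow 2 H, (⟨t, (hmemH t).2 ⟨htz, hta⟩⟩ : H) ∈ (Q : Subgroup H) := by
    obtain ⟨Q, hQ⟩ := (IsPGroup.of_card_dvd_pow (n := 1) (by
      rw [Nat.card_zpowers, pow_one]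
      refine orderOf_dvd_of_pow_eq_one (Subtype.ext ?_)
      simpa [pow_two] using ht2) :
      IsPGroup 2 ↥(zpowers (⟨t, (hmemH t).2 ⟨htz, hta⟩⟩ : H))).exists_le_sylow
    exact ⟨Q, hQ (mem_zpowers _)⟩
  have hQcard : 2 * Nat.card R ^ 2 ≤ Nat.card ((Q : Subgroup H).map H.subtype) := by
    refine El.card_lKer'.trans ?_
    rw [← Subgroup.card_map_of_injective (K := (lHom (R := R)).ker) D.inj,
      Subgroup.card_map_of_injective (K := (Q : Subgroup H)) H.subtype_injective, ← Nat.card_congr (Subgroup.subgroupOfEquivOfLe hT0).toEquiv]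
    have hp : IsPGroup 2 ↥((((lHom (R := R)).ker).map φ).subgroupOf H) :=
      (D.pgroup_map _).comap_of_injective _ Subtype.val_injective
    obtain ⟨Q', hQ'⟩ := hp.exists_le_sylow
    exact (Nat.card_le_card_of_injective _ (inclusion_injective hQ')).trans (by rw [Q'.card_eq_multiplicity, Q.card_eq_multiplicity])
  obtain ⟨m, hmz, hmQ⟩ := D.exists_into (D.inv2 (D.invol D.halves.two_h h D.halves.two_h)
    fun e => D.halves.h_ne (congrArg El.i e)).1 (D.inv2 (D.invol D.halves.two_h h D.halves.two_h)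
    fun e => D.halves.h_ne (congrArg El.i e)).2 ((Q : Subgroup H).map H.subtype) (Q.2.map _)
    fun g hg => by obtain ⟨g, -, rfl⟩ := Subgroup.mem_map.1 hg; exact ((hmemH _).1 g.2).1
  have hmz' : Commute m z := mul_inv_eq_iff_eq_mul.1 hmz
  set Q₂ := ((Q : Subgroup H).map H.subtype).map (MulAut.conj m).toMonoidHom with hQ₂
  have hQ₂S : Q₂ ≤ φ.range := by
    rintro _ ⟨g, hg, rfl⟩
    rw [D.range]
    exact hmQ g hg
  obtain ⟨y, hy⟩ := D.exists_eq (hmQ t ⟨_, hQt, rfl⟩)
  -- `h₀` goes into the translations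
  have hmaS : m * a * m⁻¹ ∈ (S : Subgroup G) := by
    by_contra hmaS
    have hp : IsPGroup 2 ↥(zpowers a) := IsPGroup.to_le S.2 (zpowers_le.2 (D.mem _))
    exact hmaS (hmQ a (by
      refine ⟨⟨a, (hmemH a).2 ⟨D.z_comm (D.mem _), Commute.refl a⟩⟩, ?_, rfl⟩
      haveI : ((zpowers a).subgroupOf H).Normal := ⟨fun g hg k => by
        rw [mem_subgroupOf] at hg ⊢
        obtain ⟨i, hi⟩ := mem_zpowers_iff.1 hg
        refine mem_zpowers_iff.2 ⟨i, ?_⟩
        push_cast
        rw [← hi, (((hmemH _).1 k.2).2.zpow_right i).eq, mul_inv_cancel_right]⟩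
      exact (show IsPGroup 2 ↥((zpowers a).subgroupOf H) from
        hp.comap_of_injective _ Subtype.val_injective).le_sylow_of_normal Q
        (mem_subgroupOf.2 (mem_zpowers a))))
  obtain ⟨b, hb⟩ := D.exists_eq hmaS
  have hbZ : IsZ0 h b := by
    refine D.big_central (D.inj ?_) (fun e => ?_) (Q₂.comap φ) ?_ ?_
    · rw [map_mul, map_one, hb, show m * a * m⁻¹ * (m * a * m⁻¹) = m * (a * a) * m⁻¹ by group, ha, ← map_mul,
        D.invol D.halves.two_h 0 (add_zero 0), map_one]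
      group
    · rw [e, map_one] at hb
      exact D.halves.h_ne (congrArg El.i (D.inj ((conj_eq_one_iff.1 hb.symm).trans (map_one φ).symm)))
    · rw [← Subgroup.card_map_of_injective (K := Q₂.comap φ) D.inj, Subgroup.map_comap_eq_self hQ₂S,
        hQ₂, Subgroup.card_map_of_injective (MulEquiv.injective _)]
      exact hQcard
    · intro w hw
      obtain ⟨g, hg, hgw⟩ := Subgroup.mem_map.1 (mem_comap.1 hw)
      obtain ⟨g, -, rfl⟩ := Subgroup.mem_map.1 hg
      apply D.inj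
      rw [map_mul, map_mul, hb, ← hgw]
      exact (((hmemH _).1 g.2).2.map (MulAut.conj m)).eq
  have hb' : b = ⟨h, 0, false, false⟩ ∨ b = ⟨0, h, false, false⟩ := by
    refine hbZ.resolve_left fun e => ?_
    rw [e, ← hz] at hb
    have h3 : a = z := by
      calc a = m⁻¹ * (m * a * m⁻¹) * m := by group
        _ = m⁻¹ * (m * z * m⁻¹) * m := by rw [← hb, hmz]
        _ = z := by group
    exact D.halves.h_ne (congrArg El.j (D.inj h3)).symm
  have hcc : Commute (m * n) z := hmz'.mul_left hn1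
  have hxy : m * n * φ x * (m * n)⁻¹ = φ y := by rw [hy, ht]; group
  have hyb : Commute y b := by
    apply D.inj
    rw [map_mul, map_mul, hy, hb]
    exact (hta.map (MulAut.conj m)).eq
  have hyl : y.l = false := by
    have hyb' := hyb.eq
    obtain ⟨i, j, k, l⟩ := y
    cases l
    · rfl
    rcases hb' with rfl | rfl <;> cases k <;>
      simp [El.mul_def, twist, D.halves.h_ne, hn] at hyb'
  have hy2 : y * y = 1 := D.inj (by
    rw [map_mul, map_one, ← hxy,
      show m * n * φ x * (m * n)⁻¹ * (m * n * φ x * (m * n)⁻¹) = m * n * (φ x * φ x) * (m * n)⁻¹ by group,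
      (D.inv2 hx hx1).1]
    group)
  obtain ⟨u, hu1, hu2⟩ := easy y hy2
    (fun e => (D.inv2 hx hx1).2 (conj_eq_one_iff.1 (by rw [hxy, e, map_one])))
    (D.even_keep x he (m * n) hcc y hxy)
    (fun e => hxz (D.inj (by
      calc φ x = (m * n)⁻¹ * (m * n * φ x * (m * n)⁻¹) * (m * n) := by group
        _ = (m * n)⁻¹ * z * (m * n) := by rw [hxy, e, hz]
        _ = z := by rw [mul_assoc, ← hcc.eq]; group))) hyl
  refine ⟨u * (m * n), hu1.mul_left hcc, ?_⟩
  rw [← hu2, ← hxy]; group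

end Cfsg.Agent.Lib.G2Fong23
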