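import Cfsg.Agent.Lib.G2Fong23.Join
import Cfsg.Agent.Lib.G2Fong23.OneClass
import Cfsg.Agent.Lib.G2Fusion23.G2
import Cfsg.Agent.Lib.GWConsumers12.RankOne

/-!
# The centraliser of an involution for Sylow 2-subgroups of type G₂(q) (helper23)
-/

set_option autoImplicit false
set_option linter.style.haveILetI false

namespace Cfsg.Agent.Lib.G2Fong23

open Subgroup G2Fusion23
open scoped MatrixGroups

/-- The reduction modulo two. -/
def red (k : ℕ) : ZMod (2 ^ (k + 2)) →+* ZMod 2 :=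
  ZMod.castHom (dvd_pow_self 2 (by omega)) (ZMod 2)

theorem par (k : ℕ) : Par (red k) (((2 : ℕ) ^ (k + 1) : ZMod (2 ^ (k + 2)))) (((2 : ℕ) ^ k : ZMod (2 ^ (k + 2)))) (2 ^ k) where
  halves := G2Fusion23.halves k
  ker x hx := by
    have h1 : ((x.val : ℕ) : ZMod 2) = 0 := by
      rw [ZMod.natCast_val]; exact hx
    obtain ⟨c, hc⟩ := (ZMod.natCast_eq_zero_iff _ _).1 h1
    refine ⟨(c : ZMod (2 ^ (k + 2))), ?_⟩
    rw [← ZMod.natCast_zmod_val x, hc]
    push_cast
    ring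
  cast := by push_cast; rfl

theorem cyc (k : ℕ) : Cyc (ZMod (2 ^ (k + 2))) := by
  classical
  intro u v e
  set o := addOrderOf u
  set W : Finset (ZMod (2 ^ (k + 2))) := Finset.univ.filter fun a => o • a = 0
  set U : Finset (ZMod (2 ^ (k + 2))) := (Finset.range o).image fun m => m • u
  have hUW : U ⊆ W := fun a ha => by
    obtain ⟨m, -, rfl⟩ := Finset.mem_image.1 ha
    simp only [W, Finset.mem_filter, Finset.mem_univ, true_and]
    rw [← mul_nsmul, mul_nsmul', addOrderOf_nsmul_eq_zero, smul_zero]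
  have hU : U.card = o := by
    rw [Finset.card_image_of_injOn, Finset.card_range]
    intro a ha b hb hab
    exact nsmul_injOn_Iio_addOrderOf (by simpa using ha) (by simpa using hb) hab
  have hW : W.card ≤ o := IsAddCyclic.card_nsmul_eq_zero_le (addOrderOf_pos u)
  have hv : v ∈ U := by
    rw [Finset.eq_of_subset_of_card_le hUW (hW.trans hU.ge)]
    simp only [W, Finset.mem_filter, Finset.mem_univ, true_and]
    rw [show o = addOrderOf v from e, addOrderOf_nsmul_eq_zero]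
  obtain ⟨m, -, hm⟩ := Finset.mem_image.1 hv
  exact ⟨m, hm.symm⟩

theorem gen (k : ℕ) (v : ZMod (2 ^ (k + 2))) : ∃ m : ℕ, v = m • 1 :=
  ⟨v.val, by rw [nsmul_one, ZMod.natCast_zmod_val]⟩

variable {G : Type*} [Group G] [Finite G]

/-- The theorem for a given model of the Sylow subgroup. -/
theorem model_structure {k : ℕ} (S : Sylow 2 G) (φ : El (ZMod (2 ^ (k + 2))) →* G)
    (hinj : Function.Injective φ) (hrange : φ.range = (S : Subgroup G))
    (h1 : ∀ x y : G, orderOf x = 2 → orderOf y = 2 → IsConj x y) (t : G) (ht : orderOf t = 2)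
    (htS : t ∈ (S : Subgroup G)) (htZ : ∀ s ∈ (S : Subgroup G), s * t = t * s) :
    ∃ L₁ L₂ : Subgroup (↥(Subgroup.centralizer ({t} : Set G)) ⧸ Cfsg.oddCore ↥(Subgroup.centralizer ({t} : Set G))),
      L₁.Normal ∧ L₂.Normal ∧
      (∃ (F₁ : Type) (_ : Field F₁) (_ : Fintype F₁), Odd (Fintype.card F₁) ∧ Nonempty (↥L₁ ≃* Matrix.SpecialLinearGroup (Fin 2) F₁)) ∧
      (∃ (F₂ : Type) (_ : Field F₂) (_ : Fintype F₂), Odd (Fintype.card F₂) ∧ Nonempty (↥L₂ ≃* Matrix.SpecialLinearGroup (Fin 2) F₂)) ∧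
      ⁅L₁, L₂⁆ = ⊥ ∧ L₁ ⊔ L₂ = _root_.commutator _ := by
  haveI : Fact (Nat.Prime 2) := ⟨Nat.prime_two⟩
  set R := ZMod (2 ^ (k + 2))
  set h : R := ((2 : ℕ) ^ (k + 1) : R) with hh
  have D₀ := par k
  have h4 : 4 ≤ Nat.card R := by
    rw [Nat.card_zmod, pow_add]; have := Nat.one_le_two_pow (n := k); omega
  obtain ⟨x, rfl⟩ : ∃ x, φ x = t := by rw [← hrange] at htS; exact htS
  have hx2 : x * x = 1 := hinj (by
    have h2 := pow_orderOf_eq_one (φ x)
    rw [ht, pow_two] at h2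
    rw [map_mul, map_one, h2])
  have hx1 : x ≠ 1 := fun e => by rw [e, map_one, orderOf_one] at ht; omega
  have hxc : ∀ y, y * x = x * y := fun y => hinj (by
    rw [map_mul, map_mul]; exact htZ _ (hrange ▸ ⟨y, rfl⟩))
  obtain rfl : x = ⟨h, h, false, false⟩ := by
    have h0 : IsZ0 h x := by
      by_contra h0
      have hlt := D₀.card_centralizer h4 hx2 hx1 h0
      rw [show centralizer ({x} : Set (El R)) = ⊤ from eq_top_iff.2 fun y _ =>
        mem_centralizer_singleton_iff.2 (hxc y), card_top, El.card, Nat.card_zmod] at hlt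
      omega
    have hw := hxc ⟨0, 0, false, true⟩
    rcases h0 with rfl | rfl | rfl
    · rfl
    · simp [El.mul_def, twist] at hw
      exact absurd hw.1 (fun e => D₀.halves.h_ne e.symm)
    · simp [El.mul_def, twist] at hw
      exact absurd hw.1 (fun e => D₀.halves.h_ne e)
  set z := φ ⟨h, h, false, false⟩ with hz
  set C := centralizer ({z} : Set G) with hC
  have hSC : ∀ y, φ y ∈ C := fun y => mem_centralizer_singleton_iff.2 (by
    rw [hz, ← map_mul, ← map_mul, zed_central D₀.halves])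
  let φc : El R →* C := φ.codRestrict C hSC
  have hφc : ∀ y, ((φc y : C) : G) = φ y := fun y => rfl
  have hSle : (S : Subgroup G) ≤ C := by
    rw [← hrange]; rintro _ ⟨y, rfl⟩; exact hSC y
  let Sc : Sylow 2 C := S.subtype hSle
  have hAmb : Amb (red k) h ((2 : ℕ) ^ k : R) (2 ^ k) φc Sc := by
    refine ⟨D₀, fun a b e => hinj (congrArg Subtype.val e), ?_, fun g => Subtype.ext ?_⟩
    · ext g
      rw [Sylow.coe_subtype, mem_subgroupOf, ← hrange]
      exact ⟨fun ⟨y, hy⟩ => ⟨y, by rw [← hy]; rfl⟩, fun ⟨y, hy⟩ => ⟨y, Subtype.ext hy⟩⟩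
    · exact mem_centralizer_singleton_iff.1 g.2
  have hGlob : Glob (red k) h ((2 : ℕ) ^ k : R) (2 ^ k) φ S := by
    refine ⟨D₀, hinj, hrange, h4, fun a b ha ha1 hb hb1 => h1 a b ?_ ?_, fun y hy c hc y' e => ?_⟩
    · exact orderOf_eq_prime (by rw [pow_two, ha]) ha1
    · exact orderOf_eq_prime (by rw [pow_two, hb]) hb1
    · exact hAmb.even_invariant hy (g := ⟨c, mem_centralizer_singleton_iff.2 hc.eq⟩) (Subtype.ext e)
  set f := QuotientGroup.mk' (Cfsg.oddCore C) with hf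
  let φb : El R →* C ⧸ Cfsg.oddCore C := f.comp φc
  have hodd : Odd (Nat.card (Cfsg.oddCore C)) := Cores.oddCore_odd
  have hinjb : Function.Injective φb := by
    intro a b e
    refine hinj (congrArg Subtype.val (congrArg Subtype.val (GWConsumers12.inj_on_two (N := Cfsg.oddCore C)
      (P := (Sc : Subgroup C)) Sc.2 hodd (a₁ := ⟨φc a, hAmb.mem a⟩) (a₂ := ⟨φc b, hAmb.mem b⟩) e)))
  have D : Top (red k) h ((2 : ℕ) ^ k : R) (2 ^ k) φb (Sc.mapSurjective (QuotientGroup.mk'_surjective (Cfsg.oddCore C))) := by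
    refine ⟨⟨D₀, hinjb, ?_, fun g => ?_⟩, cyc k, gen k, ?_, fun y hy hy1 he hyz => ?_⟩
    · rw [Sylow.coe_mapSurjective, MonoidHom.range_comp, hAmb.range]
    · obtain ⟨g, rfl⟩ := QuotientGroup.mk'_surjective (Cfsg.oddCore C) g
      show f g * f (φc _) = f (φc _) * f g
      rw [← map_mul, ← map_mul, hAmb.central]
    · exact Cores.pPrimeCore_quotient_pPrimeCore 2
    · obtain ⟨u, hu, hue⟩ := hGlob.one_class_centralizer hy hy1 he hyz
      refine ⟨f ⟨u, mem_centralizer_singleton_iff.2 hu.eq⟩, ?_⟩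
      show f _ * f (φc y) * (f _)⁻¹ = f (φc _)
      rw [← map_inv, ← map_mul, ← map_mul]
      exact congrArg f (Subtype.ext hue)
  exact D.exists_factors

/-- The theorem. -/
theorem centralizer_structure {F : Type*} [Field F] [Fintype F] (hF : Odd (Fintype.card F)) (S : Sylow 2 G)
    (P : Sylow 2 ↥(Cfsg.Lie.chevG2.group F))
    (hS : Nonempty (↥(S : Subgroup G) ≃* ↥(P : Subgroup ↥(Cfsg.Lie.chevG2.group F))))
    (h1 : ∀ x y : G, orderOf x = 2 → orderOf y = 2 → IsConj x y) (t : G) (ht : orderOf t = 2)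
    (htS : t ∈ (S : Subgroup G)) (htZ : ∀ s ∈ (S : Subgroup G), s * t = t * s) :
    ∃ L₁ L₂ : Subgroup (↥(Subgroup.centralizer ({t} : Set G)) ⧸ Cfsg.oddCore ↥(Subgroup.centralizer ({t} : Set G))),
      L₁.Normal ∧ L₂.Normal ∧
      (∃ (F₁ : Type) (_ : Field F₁) (_ : Fintype F₁), Odd (Fintype.card F₁) ∧ Nonempty (↥L₁ ≃* Matrix.SpecialLinearGroup (Fin 2) F₁)) ∧
      (∃ (F₂ : Type) (_ : Field F₂) (_ : Fintype F₂), Odd (Fintype.card F₂) ∧ Nonempty (↥L₂ ≃* Matrix.SpecialLinearGroup (Fin 2) F₂)) ∧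
      ⁅L₁, L₂⁆ = ⊥ ∧ L₁ ⊔ L₂ = _root_.commutator _ := by
  haveI : Fact (Nat.Prime 2) := ⟨Nat.prime_two⟩
  obtain ⟨k, φ, P₀, hφ, hr⟩ := exists_sylow hF
  obtain ⟨e⟩ := hS
  let f : El (ZMod (2 ^ (k + 2))) ≃* ↥(S : Subgroup G) :=
    (MonoidHom.ofInjective hφ).trans ((MulEquiv.subgroupCongr hr).trans ((Sylow.equiv P₀ P).trans e.symm))
  refine model_structure S ((S : Subgroup G).subtype.comp f.toMonoidHom)
    (Subtype.val_injective.comp f.injective) ?_ h1 t ht htS htZ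
  rw [MonoidHom.range_comp, MonoidHom.range_eq_top.2 f.surjective, ← MonoidHom.range_eq_map,
    Subgroup.range_subtype]

end Cfsg.Agent.Lib.G2Fong23
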