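import Cfsg.Agent.Lib.G2Fusion23.Hom

/-!
# Parity and squares in the model (helper23)
-/

set_option autoImplicit false
set_option linter.style.haveILetI false

namespace Cfsg.Agent.Lib.G2Fong23

open G2Fusion23

variable {R : Type*} [CommRing R]

/-- The parameters: `2 q = h`, `2 r' = r`, and the reduction modulo 2. -/
structure Par (π : R →+* ZMod 2) (h q : R) (r : ℕ) : Prop where
  halves : Halves h q
  ker : ∀ x : R, π x = 0 → ∃ y, x = y + y
  cast : (r : R) = q

variable {π : R →+* ZMod 2} {h q : R} {r : ℕ}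

theorem zmod_two (x : ZMod 2) : x = 0 ∨ x = 1 := by revert x; decide

theorem two_zero : (1 : ZMod 2) + 1 = 0 := by decide

theorem neg_two (x : ZMod 2) : -x = x := by revert x; decide

theorem Par.pi_h (D : Par π h q r) : π h = 0 := by
  rw [← D.halves.two_q, map_add]
  rcases zmod_two (π q) with e | e <;> rw [e] <;> decide

theorem Par.odd_ne (_D : Par π h q r) {x : R} (hx : π x = 1) (y : R) : y + y ≠ x := by
  rintro rfl
  rw [map_add] at hx
  rcases zmod_two (π y) with e | e <;> rw [e] at hx <;> exact absurd hx (by decide)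

/-- The parity of an element. -/
def parity (π : R →+* ZMod 2) : El R →* Multiplicative (ZMod 2) where
  toFun x := Multiplicative.ofAdd (π x.i + π x.j)
  map_one' := by simp [El.one_def]
  map_mul' x y := by
    obtain ⟨a, b, k, l⟩ := x
    obtain ⟨c, d, k', l'⟩ := y
    rw [← ofAdd_add]
    cases k <;> cases l <;> simp only [El.mul_def, twist, cond_true, cond_false, map_add, map_neg, neg_two] <;>
      exact congrArg Multiplicative.ofAdd (by abel)

/-- The even elements. -/
def even (π : R →+* ZMod 2) : Subgroup (El R) := (parity π).ker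

theorem mem_even {x : El R} : x ∈ even π ↔ π x.i = π x.j := by
  rw [even, MonoidHom.mem_ker]
  show Multiplicative.ofAdd (π x.i + π x.j) = 1 ↔ _
  rw [ofAdd_eq_one, add_eq_zero_iff_eq_neg, neg_two]

theorem transl_pow (a b : R) : ∀ m : ℕ,
    (⟨a, b, false, false⟩ : El R) ^ m = ⟨(m : R) * a, (m : R) * b, false, false⟩
  | 0 => by simp [El.one_def]
  | m + 1 => by
    rw [pow_succ, transl_pow a b m]
    simp [El.mul_def, twist, add_mul]

theorem sq_FT (a b : R) : (⟨a, b, false, true⟩ : El R) * ⟨a, b, false, true⟩ =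
    ⟨a + b, a + b, false, false⟩ := by simp [El.mul_def, twist, add_comm]

theorem sq_TT (a b : R) : (⟨a, b, true, true⟩ : El R) * ⟨a, b, true, true⟩ =
    ⟨a - b, -(a - b), false, false⟩ := by
  simp [El.mul_def, twist]
  exact ⟨by ring, by ring⟩

theorem sq_TF (a b : R) : (⟨a, b, true, false⟩ : El R) * ⟨a, b, true, false⟩ = 1 := by
  simp [El.mul_def, El.one_def, twist]

theorem Par.h_mul (D : Par π h q r) (y : R) : h * y = 0 ∨ h * y = h :=
  D.halves.tor _ (by rw [← add_mul, D.halves.two_h, zero_mul])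

theorem Par.h_mul_even (D : Par π h q r) {x : R} (hx : π x = 0) : h * x = 0 := by
  obtain ⟨y, rfl⟩ := D.ker x hx
  rw [mul_add, ← add_mul, D.halves.two_h, zero_mul]

theorem Par.h_mul_odd (D : Par π h q r) {x : R} (hx : π x = 1) : h * x = h := by
  obtain ⟨y, hy⟩ := D.ker (x - 1) (by rw [map_sub, map_one, hx, sub_self])
  rw [show x = (x - 1) + 1 by ring, mul_add, mul_one, D.h_mul_even (by rw [map_sub, map_one, hx, sub_self]),
    zero_add]

theorem Par.q_mul_even (D : Par π h q r) {x : R} (hx : π x = 0) : q * x = 0 ∨ q * x = h := by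
  obtain ⟨y, rfl⟩ := D.ker x hx
  rw [mul_add, ← add_mul, D.halves.two_q]
  exact D.h_mul y

theorem Par.q_mul_odd (D : Par π h q r) {x : R} (hx : π x = 1) : q * x ≠ 0 ∧ q * x ≠ h := by
  have h1 : q * x + q * x = h := by rw [← add_mul, D.halves.two_q, D.h_mul_odd hx]
  refine ⟨fun e => ?_, fun e => ?_⟩ <;> rw [e] at h1
  · rw [add_zero] at h1
    exact D.halves.h_ne h1.symm
  · rw [D.halves.two_h] at h1
    exact D.halves.h_ne h1.symm

/-- The criterion for evenness of an element with non-trivial square. -/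
theorem Par.even_iff (D : Par π h q r) (x : El R) (hx : x * x ≠ 1) :
    x ∈ even π ↔ (x ^ (2 * r) = 1 ∨ x ^ (2 * r) = ⟨h, h, false, false⟩) := by
  obtain ⟨a, b, k, l⟩ := x
  rw [mem_even, pow_mul, pow_two]
  cases k <;> cases l
  · rw [show (⟨a, b, false, false⟩ : El R) * ⟨a, b, false, false⟩ = ⟨a + a, b + b, false, false⟩ by
      simp [El.mul_def, twist], transl_pow, D.cast]
    simp only [El.one_def, El.ext_iff]
    rw [mul_add, ← add_mul, D.halves.two_q, mul_add, ← add_mul, D.halves.two_q]
    rcases zmod_two (π a) with ea | ea <;> rcases zmod_two (π b) with eb | eb <;>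
      simp [D.h_mul_even, D.h_mul_odd, ea, eb, D.halves.h_ne, D.halves.h_ne.symm]
  · rw [sq_FT, transl_pow, D.cast]
    simp only [El.one_def, El.ext_iff]
    have e : π (a + b) = 0 ↔ π a = π b := by rw [map_add, add_eq_zero_iff_eq_neg, neg_two]
    rw [← e]
    rcases zmod_two (π (a + b)) with ea | ea
    · rcases D.q_mul_even ea with e1 | e1 <;> simp [ea, e1]
    · have := D.q_mul_odd ea
      simp [ea, this.1, this.2]
  · exact absurd (sq_TF a b) hx
  · rw [sq_TT, transl_pow, D.cast]
    simp only [El.one_def, El.ext_iff]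
    have e : π (a - b) = 0 ↔ π a = π b := by rw [map_sub, sub_eq_zero]
    rw [← e]
    rcases zmod_two (π (a - b)) with ea | ea
    · rcases D.q_mul_even ea with e1 | e1 <;> rw [mul_neg, e1] <;> simp [ea, D.halves.neg_h]
    · have := D.q_mul_odd ea
      simp [ea, this.1, this.2]

/-- An odd involution inverts the translations. -/
theorem Par.odd_involution (D : Par π h q r) {x : El R} (hx : x * x = 1) (ho : x ∉ even π) :
    x.k = true ∧ x.l = false ∧ ∀ y : R, y + y ≠ x.i - x.j := by
  have h1 : x ≠ 1 := fun e => ho (e ▸ one_mem _)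
  have hph := D.pi_h
  rw [mem_even] at ho
  rcases sq_cases D.halves hx h1 with rfl | rfl | rfl | ⟨ek, el⟩ | ⟨a, rfl⟩ | ⟨a, rfl⟩
  · exact absurd rfl ho
  · exact absurd (by simp [hph]) ho
  · exact absurd (by simp [hph]) ho
  · refine ⟨ek, el, D.odd_ne ?_⟩
    rw [map_sub]
    rcases zmod_two (π x.i - π x.j) with e | e
    · exact absurd (sub_eq_zero.1 e) ho
    · exact e
  · exact absurd (by simp) ho
  · exact absurd rfl ho

end Cfsg.Agent.Lib.G2Fong23
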