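import Cfsg.Agent.Lib.G2Fong23.Ident

/-!
# A commutator moving one factor and centralising the other component (helper23)
-/

set_option autoImplicit false
set_option linter.style.haveILetI false
set_option linter.unusedSectionVars false

namespace Cfsg.Agent.Lib.G2Fong23

open Subgroup G2Fusion23
open scoped commutatorElement

variable {R : Type*} [CommRing R] {π : R →+* ZMod 2} {h q : R} {r : ℕ}
variable {X : Type*} [Group X] [Finite X] [Finite R] {φ : El R →* X} {P : Sylow 2 X}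

/-- Equality modulo the central involution. -/
def Eqv (h : R) (φ : El R →* X) (a b : X) : Prop := a * b⁻¹ ∈ zed h φ

theorem Eqv.refl (h : R) (φ : El R →* X) (a : X) : Eqv h φ a a := by
  rw [Eqv, mul_inv_cancel]; exact one_mem _

theorem Eqv.symm {a b : X} (e : Eqv h φ a b) : Eqv h φ b a := by
  have := inv_mem e
  rwa [mul_inv_rev, inv_inv] at this

theorem Eqv.trans {a b c : X} (e : Eqv h φ a b) (e' : Eqv h φ b c) : Eqv h φ a c := by
  have := mul_mem e e'
  rwa [mul_assoc, inv_mul_cancel_left] at this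

theorem Eqv.conj (D : Top π h q r φ P) {a b : X} (g : X) (e : Eqv h φ a b) :
    Eqv h φ (g * a * g⁻¹) (g * b * g⁻¹) := by
  have := D.zed_normal.conj_mem _ e g
  rwa [show g * (a * b⁻¹) * g⁻¹ = g * a * g⁻¹ * (g * b * g⁻¹)⁻¹ by group] at this

theorem Eqv.mul (D : Top π h q r φ P) {a b c d : X} (e : Eqv h φ a b) (e' : Eqv h φ c d) :
    Eqv h φ (a * c) (b * d) := by
  have h1 := mul_mem (D.zed_normal.conj_mem _ e' a) e
  rwa [show a * (c * d⁻¹) * a⁻¹ * (a * b⁻¹) = a * c * (b * d)⁻¹ by group] at h1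

theorem Eqv.of_eq {a b : X} (e : a = b) : Eqv h φ a b := e ▸ Eqv.refl h φ a

/-- In the normal case `2 = h`. -/
theorem Top.two_eq (D : Top π h q r φ P) (hN : comp D.halves.two_h φ = (side D.halves.two_h).map φ) :
    (1 : R) + 1 = h := by
  set hh := D.halves.two_h
  haveI : ((side hh).map φ).Normal := hN ▸ comp_normal hh φ
  set y0 : El R := ⟨0, h, true, true⟩ with hy0
  set o : El R := ⟨1, 1, false, false⟩ with ho
  have hy0s : y0 ∈ side hh := ⟨rfl, by simp [hy0]⟩
  obtain ⟨u, hu, -⟩ := D.root_conj hy0s (by simp [hy0, El.mul_def, twist, D.toPar.neg])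
  obtain ⟨w, hw, hwe⟩ := Subgroup.mem_map.1
    (Subgroup.Normal.conj_mem inferInstance _ (mem_map_of_mem φ (rot_mem hh (1 : R))) u :
      u * φ o * u⁻¹ ∈ (side hh).map φ)
  set jj := φ ⟨q, q, false, false⟩ with hj
  have hwj : Eqv h φ (φ w * jj * (φ w)⁻¹) jj := by
    rw [Eqv, hj, ← map_inv, ← map_inv, ← map_mul, ← map_mul, ← map_mul, D.zed_image]
    rcases side_cases hh hw with e | e <;> rw [e] <;>
      simp [El.mul_def, El.inv_def, El.one_def, twist, D.toPar.neg]
    refine Or.inr ?_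
    have hq := D.halves.two_q
    constructor <;> first
      | linear_combination -hq - hh
      | linear_combination -hq
  have h1 : Eqv h φ (u * (φ o * φ y0 * (φ o)⁻¹) * u⁻¹) (u * φ y0 * u⁻¹) := by
    rw [show u * (φ o * φ y0 * (φ o)⁻¹) * u⁻¹ =
      u * φ o * u⁻¹ * (u * φ y0 * u⁻¹) * (u * φ o * u⁻¹)⁻¹ by group, ← hwe]
    exact ((Eqv.conj D (φ w) hu).trans hwj).trans (Eqv.symm hu)
  have h2 := Eqv.conj D u⁻¹ h1
  rw [show u⁻¹ * (u * (φ o * φ y0 * (φ o)⁻¹) * u⁻¹) * u⁻¹⁻¹ = φ o * φ y0 * (φ o)⁻¹ by group,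
    show u⁻¹ * (u * φ y0 * u⁻¹) * u⁻¹⁻¹ = φ y0 by group, Eqv, ← map_inv, ← map_inv, ← map_mul,
    ← map_mul, ← map_mul, D.zed_image] at h2
  have hne : (1 : R) + 1 ≠ 0 := fun e => D.toPar.q_ne (by linear_combination q * e)
  rcases h2 with e | e
  · have := congrArg El.i e
    simp [ho, hy0, El.mul_def, El.inv_def, El.one_def, twist, D.toPar.neg] at this
    exact absurd (by linear_combination this) hne
  · have := congrArg El.i e
    simp [ho, hy0, El.mul_def, El.inv_def, twist, D.toPar.neg] at this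
    linear_combination this

/-- The classes of the normal factor. -/
theorem Top.side_classes (D : Top π h q r φ P) (hN : comp D.halves.two_h φ = (side D.halves.two_h).map φ)
    {x : X} (hx : x ∈ (side D.halves.two_h).map φ) :
    Eqv h φ x 1 ∨ Eqv h φ x (φ ⟨q, q, false, false⟩) ∨ Eqv h φ x (φ ⟨0, h, true, true⟩) ∨
      Eqv h φ x (φ ⟨q, q, false, false⟩ * φ ⟨0, h, true, true⟩) := by
  set hh := D.halves.two_h
  obtain ⟨w, hw, rfl⟩ := Subgroup.mem_map.1 hx
  obtain ⟨s, hs, hsw⟩ := D.toPar.side_small hh (D.two_eq hN) D.gen hw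
  have hc : Eqv h φ (φ w) (φ s) := by
    have h1 : (φ s)⁻¹ * φ w ∈ zed h φ := by rw [← map_inv, ← map_mul, D.zed_image]; exact hsw
    have := D.zed_normal.conj_mem _ h1 (φ s)
    rwa [mul_inv_cancel_left] at this
  rcases hs with rfl | rfl | rfl | rfl
  · rw [map_one] at hc; exact Or.inl hc
  · exact Or.inr (Or.inl hc)
  · exact Or.inr (Or.inr (Or.inl hc))
  · rw [map_mul] at hc; exact Or.inr (Or.inr (Or.inr hc))

/-- The outer element exchanges two classes. -/
theorem Top.outer_swap (D : Top π h q r φ P) (h2 : (1 : R) + 1 = h) :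
    Eqv h φ (φ ⟨1, 0, false, false⟩ * φ ⟨q, q, false, false⟩ * (φ ⟨1, 0, false, false⟩)⁻¹)
        (φ ⟨q, q, false, false⟩) ∧
      Eqv h φ (φ ⟨1, 0, false, false⟩ * φ ⟨0, h, true, true⟩ * (φ ⟨1, 0, false, false⟩)⁻¹)
        (φ ⟨q, q, false, false⟩ * φ ⟨0, h, true, true⟩) := by
  constructor
  · refine Eqv.of_eq ?_
    rw [← map_inv, ← map_mul, ← map_mul]
    congr 1
    simp [El.mul_def, El.inv_def, twist]
  · rw [Eqv, ← map_inv, ← map_mul, ← map_mul, ← map_mul, ← map_inv, ← map_mul, D.zed_image]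
    rcases D.toPar.half_cases h2 with e | e
    · left
      simp [El.mul_def, El.inv_def, El.one_def, twist]
      first
        | linear_combination e
        | (constructor <;> linear_combination e)
    · right
      simp [El.mul_def, El.inv_def, twist]
      first
        | linear_combination e
        | (constructor <;> linear_combination e)

/-- Elements of `X` modulo `Z` in the commutator subgroup. -/
theorem Top.zed_cancel (D : Top π h q r φ P) {a b c : X} (e : Eqv h φ (a * b) (a * c)) : Eqv h φ b c := by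
  have := Eqv.mul D (Eqv.refl h φ a⁻¹) e
  simpa using this

theorem Top.not_class (D : Top π h q r φ P) :
    ¬ Eqv h φ (φ ⟨q, q, false, false⟩) 1 ∧ ¬ Eqv h φ (φ ⟨0, h, true, true⟩) 1 ∧
      ¬ Eqv h φ (φ ⟨q, q, false, false⟩) (φ ⟨0, h, true, true⟩) ∧
      φ ⟨q, q, false, false⟩ * φ ⟨q, q, false, false⟩ = φ ⟨h, h, false, false⟩ := by
  refine ⟨?_, ?_, ?_, by rw [← map_mul, D.toPar.rot_q]⟩
  · rw [Eqv, inv_one, mul_one, D.zed_image]
    rintro (e | e)
    · have := congrArg El.i e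
      exact D.toPar.q_ne (by rw [show q = 0 from this, add_zero])
    · have := congrArg El.i e
      exact D.toPar.q_ne (by rw [show q = h from this, D.halves.two_h])
  · rw [Eqv, inv_one, mul_one, D.zed_image]
    rintro (e | e) <;> exact Bool.noConfusion (congrArg El.k e)
  · rw [Eqv, ← map_inv, ← map_mul, D.zed_image]
    rintro (e | e) <;> exact Bool.noConfusion (congrArg El.k e)

theorem comp_theta_theta (φ : El R →* X) : (φ.comp theta).comp theta = φ :=
  MonoidHom.ext fun x => by rw [MonoidHom.comp_apply, MonoidHom.comp_apply, theta_theta]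

theorem zed_theta (D : Top π h q r φ P) : zed h (φ.comp theta) = zed h φ := by
  rw [zed, zed, MonoidHom.comp_apply, D.toPar.theta_z]

/-- The mover. -/
theorem Top.exists_mover (D : Top π h q r φ P)
    (hN : comp D.halves.two_h φ = (side D.halves.two_h).map φ) :
    ∃ c : X, c ∈ _root_.commutator X ∧
      ¬ Eqv h φ (c * φ ⟨q, q, false, false⟩ * c⁻¹) (φ ⟨q, q, false, false⟩) ∧
      ∀ x ∈ comp D.halves.two_h (φ.comp theta), Eqv h φ (c * x * c⁻¹) x := by
  set hh := D.halves.two_h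
  haveI : ((side hh).map φ).Normal := hN ▸ comp_normal hh φ
  have h2 := D.two_eq hN
  set jj := φ ⟨q, q, false, false⟩ with hj
  set yy := φ ⟨0, h, true, true⟩ with hy
  set ep := φ ⟨1, 0, false, false⟩ with hep
  have hy0s : (⟨0, h, true, true⟩ : El R) ∈ side hh := ⟨rfl, by simp⟩
  obtain ⟨u, hu, hut⟩ := D.root_conj hy0s (by simp [El.mul_def, twist, D.toPar.neg])
  change Eqv h φ (u * yy * u⁻¹) jj at hu
  obtain ⟨eJ, eY⟩ := D.outer_swap h2
  change Eqv h φ (ep * jj * ep⁻¹) jj at eJ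
  change Eqv h φ (ep * yy * ep⁻¹) (jj * yy) at eY
  obtain ⟨nJ, -, -, hjj⟩ := D.not_class
  have hjz : Eqv h φ (jj * jj) 1 := by
    rw [Eqv, inv_one, mul_one, hjj]; exact mem_zpowers _
  -- `c` moves `j`
  have hmove : ¬ Eqv h φ (⁅ep, u⁆ * jj * ⁅ep, u⁆⁻¹) jj := by
    intro e
    have e1 : Eqv h φ (u⁻¹ * jj * u) yy := by
      have := Eqv.conj D u⁻¹ hu.symm
      simpa [mul_assoc] using this
    have e2 : Eqv h φ (ep⁻¹ * yy * ep) (jj * yy) := by
      have a1 := Eqv.conj D ep⁻¹ eY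
      rw [show ep⁻¹ * (ep * yy * ep⁻¹) * ep⁻¹⁻¹ = yy by group,
        show ep⁻¹ * (jj * yy) * ep⁻¹⁻¹ = ep⁻¹ * jj * ep * (ep⁻¹ * yy * ep) by group] at a1
      have a2 : Eqv h φ (ep⁻¹ * jj * ep) jj := by
        have := Eqv.conj D ep⁻¹ eJ.symm
        simpa [mul_assoc] using this
      have a3 := Eqv.mul D (Eqv.refl h φ jj) (a1.trans (Eqv.mul D a2 (Eqv.refl h φ _)))
      rw [← mul_assoc] at a3
      exact (a3.trans ((Eqv.mul D hjz (Eqv.refl h φ _)).trans (Eqv.of_eq (one_mul _)))).symm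
    have e3 : Eqv h φ (ep * (u * (jj * yy) * u⁻¹) * ep⁻¹) jj := by
      refine Eqv.trans ?_ e
      rw [commutatorElement_def, show ep * u * ep⁻¹ * u⁻¹ * jj * (ep * u * ep⁻¹ * u⁻¹)⁻¹ =
        ep * (u * (ep⁻¹ * (u⁻¹ * jj * u) * ep) * u⁻¹) * ep⁻¹ by group]
      refine Eqv.conj D ep (Eqv.conj D u ?_)
      have := Eqv.conj D ep⁻¹ e1
      rw [inv_inv] at this
      exact (this.trans e2).symm
    rw [show u * (jj * yy) * u⁻¹ = u * jj * u⁻¹ * (u * yy * u⁻¹) by group] at e3
    have e4 : Eqv h φ (u * jj * u⁻¹ * (u * yy * u⁻¹)) jj := by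
      have := Eqv.conj D ep⁻¹ (e3.trans eJ.symm)
      simpa [mul_assoc] using this
    have e5 : Eqv h φ (u * jj * u⁻¹ * jj) (1 * jj) := by
      rw [one_mul]; exact ((Eqv.mul D (Eqv.refl h φ _) hu.symm)).trans e4
    have e6 : Eqv h φ (u * jj * u⁻¹) 1 := by
      have := Eqv.mul D e5 (Eqv.refl h φ jj⁻¹)
      simpa using this
    have := Eqv.conj D u⁻¹ e6
    exact nJ (by simpa [mul_assoc] using this)
  have hcm : ⁅ep, u⁆ ∈ _root_.commutator X := commutator_mem_commutator (mem_top _) (mem_top _)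
  rcases D.comp_theta.perfect_or_normal with hperf | hN2
  · -- the other component is perfect
    obtain ⟨F, iF, iF', hF, ⟨e⟩⟩ := D.comp_theta.perfect_iso hperf
    obtain ⟨y, hy'⟩ := commutator_inner (comp hh (φ.comp theta)) hF e ep u
    refine ⟨(y : X)⁻¹ * ⁅ep, u⁆, mul_mem (inv_mem ?_) hcm, ?_, fun x hx => ?_⟩
    · have hle : comp hh (φ.comp theta) ≤ _root_.commutator X := by
        rw [← hperf]; exact commutator_mono le_top le_top
      exact hle y.2
    · intro e'
      refine hmove (Eqv.trans (Eqv.of_eq ?_) (Eqv.conj D (y : X) e' |>.trans (Eqv.of_eq ?_)))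
      · group
      · rw [← D.comp_commute (side_le_comp hh (rot_mem hh q)) y.2, mul_inv_cancel_right]
    · have h3 := hy' ⟨x, hx⟩
      have hzY : φ ⟨h, h, false, false⟩ ∈ comp hh (φ.comp theta) := D.z_mem_comp'
      have hzc : (⟨_, hzY⟩ : comp hh (φ.comp theta)) ∈ center ↥(comp hh (φ.comp theta)) :=
        Subgroup.mem_center_iff.2 fun g => Subtype.ext (D.central g)
      have h4 : Eqv h φ (⁅ep, u⁆ * x * ⁅ep, u⁆⁻¹) ((y : X) * x * (y : X)⁻¹) := by
        rw [Eqv]
        rcases center_of_sl e hzc (fun e' => D.z_ne (congrArg Subtype.val e')) h3 with e' | e' <;>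
          have e'' := congrArg Subtype.val e' <;> push_cast at e'' <;> rw [MulAut.conjNormal_apply] at e'' <;>
          rw [e'']
        · exact one_mem _
        · exact mem_zpowers _
      have := Eqv.conj D (y : X)⁻¹ h4
      simpa [mul_assoc] using this
  · -- both factors are normal
    refine ⟨⁅ep, u⁆, hcm, hmove, fun x hx => ?_⟩
    haveI : ((side hh).map (φ.comp theta)).Normal := hN2 ▸ comp_normal hh _
    obtain ⟨eT, eU⟩ := D.comp_theta.outer_swap h2
    obtain ⟨nT, nU, nTU, htt⟩ := D.comp_theta.not_class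
    have hz2 : ∀ a b : X, Eqv h (φ.comp theta) a b ↔ Eqv h φ a b := fun a b => by
      rw [Eqv, Eqv, zed_theta D]
    rw [hz2] at eT eU nT nU nTU
    set tt := (φ.comp theta) ⟨q, q, false, false⟩ with ht
    set ww := (φ.comp theta) ⟨0, h, true, true⟩ with hw
    have hep2 : (φ.comp theta) ⟨1, 0, false, false⟩ = ep := by
      rw [MonoidHom.comp_apply, hep]; simp [theta_apply]
    rw [hep2] at eT eU
    have hut' : Eqv h φ (u * tt * u⁻¹) tt := by
      have e : tt = φ ⟨q, -q, false, false⟩ := by rw [ht, MonoidHom.comp_apply]; simp [theta_apply]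
      rw [e]; exact hut
    have htz : Eqv h φ (tt * tt) 1 := by
      rw [Eqv, inv_one, mul_one, htt, MonoidHom.comp_apply, D.toPar.theta_z]; exact mem_zpowers _
    have hcl : ∀ v, v ∈ (side hh).map (φ.comp theta) →
        Eqv h φ v 1 ∨ Eqv h φ v tt ∨ Eqv h φ v ww ∨ Eqv h φ v (tt * ww) := fun v hv => by
      simp only [← hz2]; exact D.comp_theta.side_classes hN2 hv
    have hwmem : ww ∈ (side hh).map (φ.comp theta) := mem_map_of_mem _ hy0s
    have hu' : Eqv h φ (u * ww * u⁻¹) ww ∨ Eqv h φ (u * ww * u⁻¹) (tt * ww) := by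
      rcases hcl _ (Subgroup.Normal.conj_mem inferInstance _ hwmem u) with a | a | a | a
      · have := Eqv.conj D u⁻¹ a
        exact absurd (by simpa [mul_assoc] using this) nU
      · have := Eqv.conj D u⁻¹ (a.trans hut'.symm)
        exact absurd (Eqv.symm (by simpa [mul_assoc] using this)) nTU
      · exact Or.inl a
      · exact Or.inr a
    have hprod : ∀ g v, Eqv h φ (g * tt * g⁻¹) tt → Eqv h φ (g * v * g⁻¹) (tt * ww) →
        Eqv h φ (g * (tt * v) * g⁻¹) ww := fun g v e1 e2 => by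
      rw [show g * (tt * v) * g⁻¹ = g * tt * g⁻¹ * (g * v * g⁻¹) by group]
      refine (Eqv.mul D e1 e2).trans ?_
      rw [← mul_assoc]
      exact (Eqv.mul D htz (Eqv.refl h φ _)).trans (Eqv.of_eq (one_mul _))
    have epswap : Eqv h φ (ep⁻¹ * ww * ep) (tt * ww) := by
      have a1 := Eqv.conj D ep⁻¹ (hprod ep ww eT eU)
      simpa [mul_assoc] using a1.symm
    have hfixw : Eqv h φ (⁅ep, u⁆ * ww * ⁅ep, u⁆⁻¹) ww := by
      rw [commutatorElement_def, show ep * u * ep⁻¹ * u⁻¹ * ww * (ep * u * ep⁻¹ * u⁻¹)⁻¹ =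
        ep * (u * (ep⁻¹ * (u⁻¹ * ww * u) * ep) * u⁻¹) * ep⁻¹ by group]
      rcases hu' with a | a
      · have b : Eqv h φ (u⁻¹ * ww * u) ww := by
          have := Eqv.conj D u⁻¹ a.symm
          simpa [mul_assoc] using this
        have c1 : Eqv h φ (ep⁻¹ * (u⁻¹ * ww * u) * ep) (tt * ww) := by
          have := Eqv.conj D ep⁻¹ b
          rw [inv_inv] at this
          exact this.trans epswap
        have c2 : Eqv h φ (u * (tt * ww) * u⁻¹) (tt * ww) := by
          rw [show u * (tt * ww) * u⁻¹ = u * tt * u⁻¹ * (u * ww * u⁻¹) by group]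
          exact Eqv.mul D hut' a
        exact (Eqv.conj D ep ((Eqv.conj D u c1).trans c2)).trans (hprod ep ww eT eU)
      · have b : Eqv h φ (u⁻¹ * ww * u) (tt * ww) := by
          have := Eqv.conj D u⁻¹ (hprod u ww hut' a).symm
          simpa [mul_assoc] using this
        have c1 : Eqv h φ (ep⁻¹ * (u⁻¹ * ww * u) * ep) ww := by
          have := Eqv.conj D ep⁻¹ (b.trans eU.symm)
          simpa [mul_assoc] using this
        exact (Eqv.conj D ep ((Eqv.conj D u c1).trans a)).trans (hprod ep ww eT eU)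
    have hfixt : Eqv h φ (⁅ep, u⁆ * tt * ⁅ep, u⁆⁻¹) tt := by
      have hinv : ∀ g, Eqv h φ (g * tt * g⁻¹) tt → Eqv h φ (g⁻¹ * tt * g) tt := fun g e => by
        have := Eqv.conj D g⁻¹ e.symm
        simpa [mul_assoc] using this
      rw [commutatorElement_def, show ep * u * ep⁻¹ * u⁻¹ * tt * (ep * u * ep⁻¹ * u⁻¹)⁻¹ =
        ep * (u * (ep⁻¹ * (u⁻¹ * tt * u) * ep) * u⁻¹) * ep⁻¹ by group]
      have c1 : Eqv h φ (ep⁻¹ * (u⁻¹ * tt * u) * ep) tt := by
        have := Eqv.conj D ep⁻¹ (hinv u hut')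
        rw [inv_inv] at this
        exact this.trans (hinv ep eT)
      exact (Eqv.conj D ep ((Eqv.conj D u c1).trans hut')).trans eT
    have hxs : x ∈ (side hh).map (φ.comp theta) := by rw [← hN2]; exact hx
    rcases hcl x hxs with a | a | a | a <;> refine (Eqv.conj D _ a).trans (Eqv.trans ?_ a.symm)
    · exact Eqv.of_eq (by group)
    · exact hfixt
    · exact hfixw
    · rw [show ⁅ep, u⁆ * (tt * ww) * ⁅ep, u⁆⁻¹ = ⁅ep, u⁆ * tt * ⁅ep, u⁆⁻¹ * (⁅ep, u⁆ * ww * ⁅ep, u⁆⁻¹) by group]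
      exact Eqv.mul D hfixt hfixw

end Cfsg.Agent.Lib.G2Fong23
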