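import Cfsg.Agent.Lib.G2Fong23.Amb
import Cfsg.Agent.Lib.TwoGroups.FusionCentric

/-!
# The parity is preserved by fusion (helper23)
-/

set_option autoImplicit false
set_option linter.style.haveILetI false

namespace Cfsg.Agent.Lib.G2Fong23

open Subgroup G2Fusion23 Fusion.Alperin

variable {R : Type*} [CommRing R] {X : Type*} [Group X]
variable {π : R →+* ZMod 2} {h q : R} {r : ℕ} {φ : El R →* X} {P : Sylow 2 X}

/-- Even involutions commuting with an odd one. -/
theorem Par.comm_odd (D : Par π h q r) {x y : El R} (hx : x * x = 1) (hx1 : x ≠ 1) (hxe : x ∈ even π)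
    (hy : y * y = 1) (hyo : y ∉ even π) (hc : x * y = y * x) :
    x = ⟨h, h, false, false⟩ ∨ x = ⟨h, 0, false, false⟩ ∨ x = ⟨0, h, false, false⟩ := by
  obtain ⟨hk, hl, hne⟩ := D.odd_involution hy hyo
  obtain ⟨a, b, k, l⟩ := y
  simp only at hk hl hne
  subst hk hl
  rcases sq_cases D.halves hx hx1 with rfl | rfl | rfl | ⟨ek, el⟩ | ⟨c, rfl⟩ | ⟨c, rfl⟩
  · exact Or.inl rfl
  · exact Or.inr (Or.inl rfl)
  · exact Or.inr (Or.inr rfl)
  · exfalso
    obtain ⟨c, d, k, l⟩ := x
    simp only at ek el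
    subst ek el
    simp [El.mul_def, twist] at hc
    rw [mem_even] at hyo hxe
    have h1 : π (a - c) = 0 := by
      rcases D.halves.tor (a - c) (by linear_combination -hc.1) with e | e <;> rw [e]
      · exact map_zero π
      · exact D.pi_h
    have h2 : π (b - d) = 0 := by
      rcases D.halves.tor (b - d) (by linear_combination -hc.2) with e | e <;> rw [e]
      · exact map_zero π
      · exact D.pi_h
    rw [map_sub, sub_eq_zero] at h1 h2
    exact hyo (by simp only; rw [h1, h2]; exact hxe)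
  · exfalso
    simp [El.mul_def, twist] at hc
    exact hne c (by linear_combination hc.1)
  · exfalso
    simp [El.mul_def, twist] at hc
    refine hne (c - b) ?_
    linear_combination hc.1

/-- The centraliser of an odd involution. -/
theorem Par.centralizer_odd (D : Par π h q r) {a b : R} (hne : ∀ y : R, y + y ≠ a - b) {x : El R}
    (hc : x * ⟨a, b, true, false⟩ = ⟨a, b, true, false⟩ * x) :
    ∃ c d : R, (c = 0 ∨ c = h) ∧ (d = 0 ∨ d = h) ∧
      (x = ⟨c, d, false, false⟩ ∨ x = ⟨a + c, b + d, true, false⟩) := by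
  obtain ⟨c, d, k, l⟩ := x
  cases k <;> cases l <;> simp [El.mul_def, twist] at hc
  · exact ⟨c, d, D.halves.tor c (by linear_combination hc.1), D.halves.tor d (by linear_combination hc.2), Or.inl rfl⟩
  · exact absurd (by linear_combination hc.1 : c + c = a - b) (hne c)
  · refine ⟨c - a, d - b, D.halves.tor _ (by linear_combination hc.1),
      D.halves.tor _ (by linear_combination hc.2), Or.inr ?_⟩
    simp
  · exact absurd (by linear_combination hc.1 : (c - b) + (c - b) = a - b) (hne (c - b))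

theorem Amb.comm_of_sq (D : Amb π h q r φ P) {T : Subgroup X} (_hT : T ≤ (P : Subgroup X))
    (he : ∀ a ∈ T, a * a = 1) {u v : El R} (hu : φ u ∈ T) (hv : φ v ∈ T) : u * v = v * u := by
  have h1 := he _ (mul_mem hu hv)
  rw [← map_mul, D.sq_eq_one] at h1
  have h2 := D.sq_eq_one.1 (he _ hu)
  have h3 := D.sq_eq_one.1 (he _ hv)
  calc u * v = u * v * ((u * u) * 1) := by rw [h2]; group
    _ = u * v * ((u * (v * v)) * u) := by rw [h3]; group
    _ = (u * v * (u * v)) * (v * u) := by group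
    _ = v * u := by rw [h1, one_mul]

variable [Finite X]

omit [Finite X] in
/-- A radical fully normalised subgroup contains the central involution. -/
theorem Amb.z_mem (D : Amb π h q r φ P) {T : Subgroup X} (hT : IsFusionBase 2 (P : Subgroup X) T) :
    φ ⟨h, h, false, false⟩ ∈ T := by
  set z := φ ⟨h, h, false, false⟩ with hz
  have hn : ∀ n : X, n * z * n⁻¹ = z := fun n => by rw [D.central, mul_inv_cancel_right]
  refine hT.2.2 (T ⊔ zpowers z) ?_ ?_ ?_ (mem_sup_right (mem_zpowers z))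
  · exact IsPGroup.to_le P.2 (sup_le hT.1 (zpowers_le.2 (D.mem _)))
  · refine sup_le le_normalizer (zpowers_le.2 ?_)
    refine centralizer_le_normalizer _ (mem_centralizer_iff.2 fun a _ => D.central a)
  · intro n hn'
    rw [mem_normalizer_iff_map_conj_eq] at hn' ⊢
    rw [Subgroup.map_sup, hn', MonoidHom.map_zpowers]
    congr 2
    exact hn n

/-- The elementary abelian case of the parity lemma. -/
theorem Amb.elementary_case (D : Amb π h q r φ P) {T : Subgroup X}
    (hT : IsFusionBase 2 (P : Subgroup X) T) (he : ∀ a ∈ T, a * a = 1) {n : X}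
    (hn : n ∈ normalizer (T : Set X)) {x : X} (hxT : x ∈ T) (hx : x ∈ (even π).map φ)
    (hy : n * x * n⁻¹ ∉ (even π).map φ) : False := by
  haveI : Fact (Nat.Prime 2) := ⟨Nat.prime_two⟩
  set z := φ ⟨h, h, false, false⟩ with hz
  have hzT : z ∈ T := D.z_mem hT
  have hyT : n * x * n⁻¹ ∈ T := (mem_normalizer_iff.1 hn x).1 hxT
  obtain ⟨xe, hxe, rfl⟩ := Subgroup.mem_map.1 hx
  obtain ⟨y, hye⟩ := D.exists_eq (hT.1 hyT)
  rw [← hye, D.mem_map] at hy
  have hy2 : y * y = 1 := D.sq_eq_one.1 (by rw [hye]; exact he _ hyT)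
  have hx1 : xe ≠ 1 := by
    rintro rfl
    apply hy
    have : y = 1 := D.inj (by rw [hye]; simp)
    rw [this]; exact one_mem _
  have hxz : xe ≠ ⟨h, h, false, false⟩ := by
    rintro rfl
    apply hy
    have : y = ⟨h, h, false, false⟩ := D.inj (by rw [hye, D.central, mul_inv_cancel_right])
    rw [this, mem_even]
  have hx2 := D.sq_eq_one.1 (he _ hxT)
  have hxy := D.comm_of_sq hT.1 he hxT (hye ▸ hyT)
  obtain ⟨hk, hl, hne⟩ := D.toPar.odd_involution hy2 hy
  obtain ⟨a, b, k, l⟩ := y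
  simp only at hk hl hne
  subst hk hl
  have hxshape : xe = ⟨h, 0, false, false⟩ ∨ xe = ⟨0, h, false, false⟩ :=
    (D.toPar.comm_odd hx2 hx1 hxe hy2 hy hxy).resolve_left hxz
  -- all elements of `T`
  have hall : ∀ t ∈ T, ∃ c d : R, (c = 0 ∨ c = h) ∧ (d = 0 ∨ d = h) ∧
      (t = φ ⟨c, d, false, false⟩ ∨ t = φ ⟨a + c, b + d, true, false⟩) := by
    intro t ht
    obtain ⟨u, rfl⟩ := D.exists_eq (hT.1 ht)
    obtain ⟨c, d, hc, hd, e⟩ := D.toPar.centralizer_odd hne (D.comm_of_sq hT.1 he ht (hye ▸ hyT))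
    exact ⟨c, d, hc, hd, e.imp (congrArg φ) (congrArg φ)⟩
  -- `s = (q, q)` is close to the identity
  have hsy : ∀ c d : R, φ ⟨q, q, false, false⟩ * φ ⟨a + c, b + d, true, false⟩ * (φ ⟨q, q, false, false⟩)⁻¹ =
      φ ⟨a + c, b + d, true, false⟩ * z := by
    intro c d
    rw [hz, ← map_inv, ← map_mul, ← map_mul, ← map_mul]
    congr 1
    simp [El.mul_def, El.inv_def, twist]
    constructor <;> linear_combination D.halves.two_q + D.halves.two_h
  have hs0 : ∀ c d : R, φ ⟨q, q, false, false⟩ * φ ⟨c, d, false, false⟩ * (φ ⟨q, q, false, false⟩)⁻¹ =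
      φ ⟨c, d, false, false⟩ := by
    intro c d
    rw [← map_inv, ← map_mul, ← map_mul]
    congr 1
    simp [El.mul_def, El.inv_def, twist]
  set s := φ ⟨q, q, false, false⟩ with hs
  have hsnear : Near z T s := by
    intro t ht
    obtain ⟨c, d, -, -, rfl | rfl⟩ := hall t ht
    · exact Or.inl (hs0 c d)
    · exact Or.inr (hsy c d)
  have hTn : ∀ g ∈ normalizer (T : Set X), ∀ t ∈ T, g * t * g⁻¹ ∈ T := fun g hg t ht =>
    (mem_normalizer_iff.1 hg t).1 ht
  have hsN : s ∈ normalizer (T : Set X) := by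
    rw [mem_normalizer_iff_map_conj_eq]
    refine Subgroup.eq_of_le_of_card_ge ?_ (le_of_eq (Subgroup.card_map_of_injective (MulEquiv.injective _)).symm)
    rintro _ ⟨t, ht, rfl⟩
    show s * t * s⁻¹ ∈ T
    rcases hsnear t ht with e | e <;> rw [e]
    · exact ht
    · exact mul_mem ht hzT
  -- the Sylow subgroup fixes `x`
  have hfix : ∀ g ∈ (P : Subgroup X), g ∈ normalizer (T : Set X) → Near z T g →
      g * φ xe * g⁻¹ = φ xe := by
    intro g hgP hgN _
    obtain ⟨u, hu⟩ := D.exists_eq hgP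
    have hgy := hTn g hgN _ hyT
    rw [← hye, ← hu, ← map_inv, ← map_mul, ← map_mul] at hgy
    obtain ⟨c, d, hc, hd, e⟩ := hall _ hgy
    have hul : u.l = false := by
      obtain ⟨i, j, k, l⟩ := u
      cases l
      · rfl
      exfalso
      rw [D.inj.eq_iff, D.inj.eq_iff] at e
      have hp : π a = π b := by
        cases k <;> simp [El.mul_def, El.inv_def, twist] at e <;>
          have h1 := congrArg π e.1 <;>
          rcases hc with rfl | rfl <;> simp [D.pi_h] at h1 <;>
          (revert h1; generalize π a = A; generalize π b = B; generalize π i = I; decide +revert)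
      exact hy (mem_even.2 hp)
    rw [← hu, ← map_inv, ← map_mul, ← map_mul]
    congr 1
    obtain ⟨i, j, k, l⟩ := u
    simp only at hul
    subst hul
    rcases hxshape with rfl | rfl <;> cases k <;> simp [El.mul_def, El.inv_def, twist, D.halves.neg_h]
  obtain ⟨m, hm⟩ := IsPGroup.iff_orderOf.1 P.2 ⟨s, D.mem _⟩
  rw [Subgroup.orderOf_mk] at hm
  have hu2 : (n⁻¹ * s * n) ^ 2 ^ m = 1 := by
    have := conj_pow (a := n⁻¹) (b := s) (i := 2 ^ m)
    rw [inv_inv] at this
    rw [this, ← hm, pow_orderOf_eq_one]; group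
  have hun : Near z T (n⁻¹ * s * n) := by
    intro t ht
    rw [show n⁻¹ * s * n * t * (n⁻¹ * s * n)⁻¹ = n⁻¹ * (s * (n * t * n⁻¹) * s⁻¹) * n by group]
    rcases hsnear _ (hTn n hn t ht) with e | e <;> rw [e]
    · left; group
    · right
      calc n⁻¹ * (n * t * n⁻¹ * z) * n = t * (n⁻¹ * (z * n)) := by group
        _ = t * z := by rw [← (show n * z = z * n from D.central n)]; group
  have h6 := fix_of_near D.central D.z_sq P hT.2.1 hxT hfix
    (mul_mem (mul_mem (inv_mem hn) hsN) hn) hun hu2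
  have h7 : s * (n * φ xe * n⁻¹) * s⁻¹ = n * φ xe * n⁻¹ := by
    calc s * (n * φ xe * n⁻¹) * s⁻¹ = n * (n⁻¹ * s * n * φ xe * (n⁻¹ * s * n)⁻¹) * n⁻¹ := by group
      _ = _ := by rw [h6]
  have h8 := hsy 0 0
  rw [add_zero, add_zero, hye, h7] at h8
  exact D.z_ne (mul_eq_left.1 h8.symm)

/-- Elements of odd order in the normalisers of fusion bases keep the parity. -/
theorem Amb.odd_keep (D : Amb π h q r φ P) {T : Subgroup X} (hT : IsFusionBase 2 (P : Subgroup X) T)
    {n : X} (hn : n ∈ normalizer (T : Set X)) (ho : Odd (orderOf n)) {x : X} (hx : x ∈ T)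
    (hxM : x ∈ (even π).map φ) : n * x * n⁻¹ ∈ (even π).map φ := by
  set M := (even π).map φ with hM
  have hTn : ∀ g ∈ normalizer (T : Set X), ∀ t ∈ T, g * t * g⁻¹ ∈ T := fun g hg t ht =>
    (mem_normalizer_iff.1 hg t).1 ht
  by_contra hy
  by_cases he : ∀ a ∈ T, a * a = 1
  · exact D.elementary_case hT he hn hx hxM hy
  push Not at he
  obtain ⟨w, hw, hw2⟩ := he
  set W := closure {a : X | a ∈ T ∧ a * a ≠ 1} with hW
  have hWT : W ≤ T := (closure_le _).2 fun a ha => ha.1
  have hagree : ∀ a ∈ W, ∀ g ∈ normalizer (T : Set X), (a ∈ M ↔ g * a * g⁻¹ ∈ M) := by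
    intro a ha g hg
    induction ha using closure_induction with
    | mem a ha => exact D.conj_even_iff g (hT.1 ha.1) (hT.1 (hTn g hg a ha.1)) ha.2
    | one => simp
    | mul a b ha hb iha ihb =>
      rw [D.mul_even_iff (hT.1 (hWT ha)) (hT.1 (hWT hb)),
        show g * (a * b) * g⁻¹ = g * a * g⁻¹ * (g * b * g⁻¹) by group,
        D.mul_even_iff (hT.1 (hTn g hg a (hWT ha))) (hT.1 (hTn g hg b (hWT hb))), iha, ihb]
    | inv a ha iha =>
      rw [inv_mem_iff, show g * a⁻¹ * g⁻¹ = (g * a * g⁻¹)⁻¹ by group, inv_mem_iff]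
      exact iha
  have hWn : ∀ a ∈ W, ∀ g ∈ normalizer (T : Set X), g * a * g⁻¹ ∈ W := by
    intro a ha g hg
    induction ha using closure_induction with
    | mem a ha =>
      refine subset_closure ⟨hTn g hg a ha.1, fun e => ha.2 ?_⟩
      calc a * a = g⁻¹ * (g * a * g⁻¹ * (g * a * g⁻¹)) * g := by group
        _ = 1 := by rw [e]; group
    | one => simp
    | mul a b _ _ iha ihb => rw [show g * (a * b) * g⁻¹ = g * a * g⁻¹ * (g * b * g⁻¹) by group]; exact mul_mem iha ihb
    | inv a _ iha => rw [show g * a⁻¹ * g⁻¹ = (g * a * g⁻¹)⁻¹ by group]; exact inv_mem iha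
  have hxW : x ∉ W := fun hxW => hy ((hagree x hxW n hn).1 hxM)
  have hout : ∀ a ∈ T, a ∉ W → a * a = 1 := fun a ha haW => by
    by_contra h2; exact haW (subset_closure ⟨ha, h2⟩)
  -- the orbit
  have hxi : ∀ i : ℕ, n ^ i * x * (n ^ i)⁻¹ ∈ T ∧ n ^ i * x * (n ^ i)⁻¹ ∉ W := fun i =>
    ⟨hTn _ (pow_mem hn i) x hx, fun h' => hxW (by
      have := hWn _ h' _ (inv_mem (pow_mem hn i))
      simpa [mul_assoc] using this)⟩
  have hstep : ∀ i : ℕ, (n ^ i * x * (n ^ i)⁻¹ ∈ M ↔ Even i) := by
    intro i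
    induction i with
    | zero => simpa using hxM
    | succ i ih =>
      set f : ℕ → X := fun i => n ^ i * x * (n ^ i)⁻¹ with hf
      have hW0 : x * (n * x * n⁻¹) ∈ W :=
        mul_mem_of_outside hWT hout (subset_closure ⟨hw, hw2⟩) hw2 hx hxW
          (hTn n hn x hx) (fun h' => (hxi 1).2 (by simpa using h'))
      have h1 := hagree _ hW0 _ (pow_mem hn i)
      rw [show n ^ i * (x * (n * x * n⁻¹)) * (n ^ i)⁻¹ =
          n ^ i * x * (n ^ i)⁻¹ * (n ^ (i + 1) * x * (n ^ (i + 1))⁻¹) by rw [pow_succ]; group,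
        D.mul_even_iff (hT.1 (hxi i).1) (hT.1 (hxi (i + 1)).1),
        D.mul_even_iff (hT.1 hx) (hT.1 (hTn n hn x hx))] at h1
      rw [Nat.even_add_one]
      tauto
  have h2 := (hstep (orderOf n)).1 (by rw [pow_orderOf_eq_one]; simpa using hxM)
  exact Nat.not_even_iff_odd.2 ho h2

/-- The even part is the trace of a normal subgroup of index two. -/
theorem Amb.exists_even_subgroup (D : Amb π h q r φ P) :
    ∃ K : Subgroup X, K.Normal ∧ (P : Subgroup X) ⊓ K = (even π).map φ ∧ K.index = 2 := by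
  haveI : Fact (Nat.Prime 2) := ⟨Nat.prime_two⟩
  have hinv := invariant_of_odd P _ (fun s hs x hx => D.conj_even hs hx)
    fun T hT n hn ho x hx hxM => D.odd_keep hT hn ho hx hxM
  have hMP : (even π).map φ ≤ (P : Subgroup X) := fun a ha => by
    obtain ⟨a, -, rfl⟩ := Subgroup.mem_map.1 ha; exact D.mem a
  obtain ⟨K, hKn, hK, hKi, -⟩ := TwoGroups.FusionCentric.exists_normal_of_invariant P _ hMP fun x hx g hg => by
    rw [D.mul_even_iff (inv_mem hx) hg, inv_mem_iff]
    refine ⟨fun hm => hinv x g hm hx hg, fun hm => ?_⟩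
    have := hinv _ g⁻¹ hm hg (by rw [show g⁻¹ * (g * x * g⁻¹) * g⁻¹⁻¹ = x by group]; exact hx)
    simpa [mul_assoc] using this
  refine ⟨K, hKn, hK, ?_⟩
  rw [hKi, ← D.range, MonoidHom.range_eq_map, ← Subgroup.relIndex_comap, Subgroup.comap_map_eq_self_of_injective D.inj,
    Subgroup.relIndex_top_right, even, Subgroup.index_ker, MonoidHom.range_eq_top.2, Subgroup.card_top]
  · simp
  intro y
  have : y = Multiplicative.ofAdd 0 ∨ y = Multiplicative.ofAdd 1 := zmod_two (Multiplicative.toAdd y)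
  rcases this with rfl | rfl
  · exact ⟨1, map_one _⟩
  · exact ⟨⟨1, 0, false, false⟩, by simp [parity]⟩

end Cfsg.Agent.Lib.G2Fong23
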